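import Cfsg.Agent.OddHalf.Table.OutFi22
import Cfsg.Agent.R01.AlphaIso

/-!
# The flip of the diagram `Y₃₃₂` is an outer automorphism of order two of `Fi22` (helper833)

* `flipA : MulAut Spor.Fi22`, `flipA_gen`, `flipA_sq`, `orderOf_flipA`;
* `flipA_ne_conj` : it is not inner;
* `eq_or_of_outer` : every automorphism is inner or `flipA` times an inner one.
-/

set_option autoImplicit false

namespace Cfsg.Agent.H833.Flip

open Cfsg Cfsg.Spor Cfsg.Spor.Fi22
open Cfsg.Agent.Fischer.Fi22PtsRep (gen closure_gen gen_cox gen_e7a gen_e7b gen_spider)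
open Cfsg.Agent.R01.AlphaIso (flip lab_flip flip_flip spider_flip e7_flip)
open Cfsg.Agent.R01.AlphaGeneric (ZRels toHom toHom_gen)
open Cfsg.Agent.Fischer.Fi23Class (K)
open Cfsg.Agent.Fischer.Fi23Cover (kgen)
open Cfsg.Agent.R08.FiTwentyThree (pi zK S)
open Cfsg.Agent.R08

theorem zrels : ZRels (fun x => gen (flip x)) (1 : Spor.Fi22) where
  cox x y := by
    have := gen_cox (flip x) (flip y)
    rwa [lab_flip] at this
  spider := spider_flip gen_cox gen_spider
  e7a := by
    show (gen .g * gen .f * gen .e * gen .d * gen .c * gen .b * gen .h) ^ 9 = 1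
    exact e7_flip (s := gen) gen_cox (z := 1) (by simp) (by simp) gen_e7b
  e7b := by
    show (gen .f * gen .e * gen .d * gen .c * gen .b * gen .a * gen .h) ^ 9 = 1
    exact e7_flip (s := gen) gen_cox (z := 1) (by simp) (by simp) gen_e7a

/-- The flip as a homomorphism. -/
noncomputable def hom : Spor.Fi22 →* Spor.Fi22 := toHom zrels

theorem hom_gen (x : Gen) : hom (gen x) = gen (flip x) := toHom_gen zrels x

theorem hom_hom (g : Spor.Fi22) : hom (hom g) = g := by
  have h : hom.comp hom = MonoidHom.id Spor.Fi22 := by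
    apply PresentedGroup.ext
    intro x
    show hom (hom (gen x)) = gen x
    rw [hom_gen, hom_gen, Cfsg.Agent.R01.AlphaIso.flip_flip]
  exact DFunLike.congr_fun h g

/-- **The flip.** -/
noncomputable def flipA : MulAut Spor.Fi22 where
  toFun := hom
  invFun := hom
  left_inv := hom_hom
  right_inv := hom_hom
  map_mul' := hom.map_mul

theorem flipA_gen (x : Gen) : flipA (gen x) = gen (flip x) := hom_gen x

theorem flipA_flipA (g : Spor.Fi22) : flipA (flipA g) = g := hom_hom g

theorem flipA_sq : flipA * flipA = 1 := by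
  ext g
  exact hom_hom g

theorem pi_kgen (s : Gen) : pi (kgen s) = gen s := by
  have h : kgen s = Cfsg.Agent.R01.AlphaFi23.t s := by
    apply Subtype.ext
    cases s <;> rfl
  rw [h]
  exact FiTwentyThree.pi_t s

theorem gen_ne_one (s : Gen) : gen s ≠ 1 := by
  intro h
  have hne := Cfsg.Agent.Fischer.Fi22Order.ab_ne
  have key : ∀ y : Gen, gen y = 1 := by
    intro y
    obtain ⟨c, hc⟩ := isConj_iff.1 (Cfsg.Agent.R01.AlphaIso.isConj_gen s)
    obtain ⟨d, hd⟩ := isConj_iff.1 (Cfsg.Agent.R01.AlphaIso.isConj_gen y)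
    have h1 : gen .a = 1 := by
      have : gen .a = c⁻¹ * gen s * c := by rw [← hc]; group
      rw [this, h]; group
    rw [← hd, h1]; group
  apply hne
  simp [key .a, key .b]

theorem kgen_mem (s : Gen) : kgen s ∈ S := by
  refine ⟨Cfsg.Agent.R08.FiTwentyThree.gen_mem_D _, fun h => ?_⟩
  have h1 : kgen s = zK := Subtype.ext h
  have h2 := pi_kgen s
  rw [h1, LemmaVInst.clsK.ext.mapz] at h2
  exact gen_ne_one s h2.symm

/-- **The flip is not inner.** -/
theorem flipA_ne_conj (x : Spor.Fi22) : flipA ≠ MulAut.conj x := by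
  intro h
  have hc := LemmaVInst.clsK
  obtain ⟨g, rfl⟩ := hc.ext.surj x
  have key : ∀ s : Gen, MulAut.conj g (kgen s) = kgen (flip s) := by
    intro s
    have h1 : pi (g * kgen s * g⁻¹) = pi (kgen (flip s)) := by
      rw [map_mul, map_mul, map_inv, pi_kgen, pi_kgen, ← flipA_gen, h, MulAut.conj_apply]
    rw [MulAut.conj_apply]
    exact hc.bij.2.1 (hc.lifted.conj g _ (kgen_mem s)) (kgen_mem _) h1
  have h7 := congrArg (MulAut.conj g) Cfsg.Agent.Fischer.Fi23Cover.ke7
  simp only [map_pow, map_mul, map_one, key] at h7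
  change (kgen .g * kgen .f * kgen .e * kgen .d * kgen .c * kgen .b * kgen .h) ^ 9 = 1 at h7
  have h8 : (kgen .b * kgen .c * kgen .d * kgen .e * kgen .f * kgen .g * kgen .h) ^ 9 = 1 :=
    e7_flip (s := kgen) Cfsg.Agent.Fischer.Fi23Cover.kgen_rel (z := 1) (by simp) (by simp) h7
  rw [Cfsg.Agent.Fischer.Fi23Cover.zK_eq] at h8
  exact hc.ext.zne h8

theorem orderOf_flipA : orderOf flipA = 2 := by
  apply orderOf_eq_prime
  · rw [pow_two, flipA_sq]
  · intro h
    apply flipA_ne_conj 1
    rw [h, map_one]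

/-- Every automorphism is inner or the flip times an inner one. -/
theorem inner_or (α : MulAut Spor.Fi22) :
    (∃ x : Spor.Fi22, α = MulAut.conj x) ∨ ∃ x : Spor.Fi22, α = flipA * MulAut.conj x := by
  by_cases hα : ∃ x : Spor.Fi22, α = MulAut.conj x
  · exact Or.inl hα
  · right
    push Not at hα
    obtain ⟨x, hx⟩ := Cfsg.Agent.OddHalf.Table.OutFi22.mul_outer flipA α flipA_ne_conj hα
    refine ⟨x, ?_⟩
    rw [← hx, ← mul_assoc, flipA_sq, one_mul]

end Cfsg.Agent.H833.Flip
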