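import Mathlib

/-!
# A permutation of order three of the graph of the 3510 transpositions of `Fi22` (helper833)

`exists_rel`: a reflexive symmetric relation `c` on a set of size 3510, `694`, `182`, `126` common neighbours of equal,
different related, not related points. A permutation `s` of order three preserving `c` has a point `a` with `c a (s a)`.

Proof: `N = c + 8` has `N² = 72 N + 126 J`, so `N (1 + s + s²) / 216 - J / 360` is idempotent; its trace would be `273/2`
if `c a (s a)` never holds.
-/

set_option autoImplicit false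
set_option linter.unusedSectionVars false
set_option linter.unusedSimpArgs false

namespace Cfsg.Agent.H833.F22Srg

open Matrix

/-- the trace of an idempotent rational matrix is an integer -/
theorem trace_idem {V : Type*} [Fintype V] [DecidableEq V] {E : Matrix V V ℚ} (h : E * E = E) :
    ∃ n : ℕ, E.trace = n := by
  have h1 : IsIdempotentElem (Matrix.toLin' E) := by
    show Matrix.toLin' E * Matrix.toLin' E = Matrix.toLin' E
    rw [Module.End.mul_eq_comp, ← Matrix.toLin'_mul, h]
  have h2 := (LinearMap.IsIdempotentElem.isProj_range _ h1).trace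
  rw [Matrix.trace_toLin'_eq] at h2
  exact ⟨_, h2⟩

section

variable {V : Type*} [Fintype V] [DecidableEq V] (c : V → V → Prop) [DecidableRel c] (s : Equiv.Perm V)

/-- the matrix of the relation -/
def MC : Matrix V V ℚ := Matrix.of fun a b => if c a b then 1 else 0

variable (V) in
/-- all ones -/
def J : Matrix V V ℚ := Matrix.of fun _ _ => 1

/-- the permutation matrix -/
def P : Matrix V V ℚ := Matrix.of fun a b => if s a = b then 1 else 0

theorem P_mul (X : Matrix V V ℚ) (a b : V) : (P s * X) a b = X (s a) b := by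
  rw [Matrix.mul_apply, Finset.sum_eq_single (s a)]
  · simp [P]
  · intro d _ hd
    simp [P, hd.symm]
  · intro h
    exact absurd (Finset.mem_univ _) h

theorem mul_P (X : Matrix V V ℚ) (a b : V) : (X * P s) a (s b) = X a b := by
  rw [Matrix.mul_apply, Finset.sum_eq_single b]
  · simp [P]
  · intro d _ hd
    simp [P, hd]
  · intro h
    exact absurd (Finset.mem_univ _) h

theorem mul_P' (X : Matrix V V ℚ) (a b : V) : (X * P s) a b = X a (s.symm b) := by
  have h := mul_P s X a (s.symm b)
  rwa [s.apply_symm_apply] at h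

variable {c s}

theorem MC_sq (hsymm : ∀ a b, c a b ↔ c b a) (h0 : ∀ a, (Finset.univ.filter fun v => c a v ∧ c a v).card = 694)
    (h1 : ∀ a b, a ≠ b → c a b → (Finset.univ.filter fun v => c a v ∧ c b v).card = 182)
    (h2 : ∀ a b, ¬ c a b → (Finset.univ.filter fun v => c a v ∧ c b v).card = 126) (hrefl : ∀ a, c a a) :
    MC c * MC c = (512 : ℚ) • (1 : Matrix V V ℚ) + (56 : ℚ) • MC c + (126 : ℚ) • J V := by
  ext a b
  have e : (MC c * MC c) a b = ((Finset.univ.filter fun v => c a v ∧ c b v).card : ℚ) := by
    rw [Matrix.mul_apply, Finset.card_filter, Nat.cast_sum]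
    refine Finset.sum_congr rfl fun v _ => ?_
    simp only [MC, Matrix.of_apply]
    have hvb := hsymm v b
    by_cases ha : c a v <;> by_cases hb : c b v <;> simp [ha, hb, hvb]
  rw [e]
  simp only [Matrix.add_apply, Matrix.smul_apply, smul_eq_mul]
  by_cases hab : a = b
  · subst hab
    rw [h0 a]
    simp [MC, J, hrefl a]
    norm_num
  · by_cases hc : c a b
    · rw [h1 a b hab hc]
      simp [MC, J, hc, hab]
      norm_num
    · rw [h2 a b hc]
      simp [MC, J, hc, hab]

theorem MC_J (hsymm : ∀ a b, c a b ↔ c b a) (h0 : ∀ a, (Finset.univ.filter fun v => c a v ∧ c a v).card = 694) :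
    MC c * J V = (694 : ℚ) • J V ∧ J V * MC c = (694 : ℚ) • J V := by
  constructor
  · ext a b
    rw [Matrix.mul_apply, Matrix.smul_apply]
    have h : (((Finset.univ.filter fun v => c a v ∧ c a v).card : ℕ) : ℚ) = 694 := by rw [h0 a]; norm_num
    simp only [and_self] at h
    simp only [MC, J, Matrix.of_apply, mul_one, smul_eq_mul]
    rw [← h, Finset.card_filter, Nat.cast_sum]
    exact Finset.sum_congr rfl fun v _ => by split_ifs <;> simp
  · ext a b
    rw [Matrix.mul_apply, Matrix.smul_apply]
    have h : (((Finset.univ.filter fun v => c b v ∧ c b v).card : ℕ) : ℚ) = 694 := by rw [h0 b]; norm_num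
    simp only [and_self] at h
    simp only [MC, J, Matrix.of_apply, one_mul, mul_one, smul_eq_mul]
    rw [← h, Finset.card_filter, Nat.cast_sum]
    exact Finset.sum_congr rfl fun v _ => by
      by_cases hv : c b v
      · simp [hv, (hsymm v b).2 hv]
      · have : ¬ c v b := fun h => hv ((hsymm v b).1 h)
        simp [hv, this]

theorem J_P : J V * P s = J V := by
  ext a b
  rw [mul_P']
  rfl

theorem P_J : P s * J V = J V := by
  ext a b
  rw [P_mul]
  rfl

theorem J_J (hV : Fintype.card V = 3510) : J V * J V = (3510 : ℚ) • J V := by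
  ext a b
  rw [Matrix.mul_apply, Matrix.smul_apply]
  simp [J, hV]

theorem P_cube (hs : ∀ a, s (s (s a)) = a) : P s * (P s * P s) = 1 := by
  ext a b
  rw [P_mul, P_mul, Matrix.one_apply]
  simp only [P, Matrix.of_apply, hs]

theorem P_MC (hs : ∀ a b, c (s a) (s b) ↔ c a b) : P s * MC c = MC c * P s := by
  ext a b
  rw [P_mul, mul_P']
  simp only [MC, Matrix.of_apply]
  have h := hs a (s.symm b)
  rw [s.apply_symm_apply] at h
  simp only [h]

/-- **The existence of a point related to its image.** -/
theorem exists_rel (hV : Fintype.card V = 3510) (hsymm : ∀ a b, c a b ↔ c b a) (hrefl : ∀ a, c a a)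
    (h0 : ∀ a, (Finset.univ.filter fun v => c a v ∧ c a v).card = 694)
    (h1 : ∀ a b, a ≠ b → c a b → (Finset.univ.filter fun v => c a v ∧ c b v).card = 182)
    (h2 : ∀ a b, ¬ c a b → (Finset.univ.filter fun v => c a v ∧ c b v).card = 126)
    (hs3 : ∀ a, s (s (s a)) = a) (hs : ∀ a b, c (s a) (s b) ↔ c a b) : ∃ a, c a (s a) := by
  by_contra hcon
  push Not at hcon
  obtain ⟨hMJ, hJM⟩ := MC_J hsymm h0
  have hMM := MC_sq hsymm h0 h1 h2 hrefl
  have hJJ := J_J hV
  have hPP := P_cube hs3
  have hPM := P_MC hs
  have hJP : J V * P s = J V := J_P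
  have hPJ : P s * J V = J V := P_J
  -- the diagonal
  have t1 : (MC c * P s).trace = 0 := by
    rw [Matrix.trace]
    refine Finset.sum_eq_zero fun a _ => ?_
    rw [Matrix.diag_apply, mul_P']
    simp only [MC, Matrix.of_apply]
    rw [if_neg]
    intro h
    apply hcon (s.symm a)
    rw [s.apply_symm_apply]
    exact (hsymm _ _).1 h
  have t2 : (MC c * (P s * P s)).trace = 0 := by
    rw [Matrix.trace]
    refine Finset.sum_eq_zero fun a _ => ?_
    rw [Matrix.diag_apply, ← mul_assoc, mul_P', mul_P']
    simp only [MC, Matrix.of_apply]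
    rw [if_neg]
    have h3 : s.symm (s.symm a) = s a := by
      rw [Equiv.symm_apply_eq, Equiv.symm_apply_eq, hs3]
    rw [h3]
    exact hcon a
  have t0 : (MC c).trace = 3510 := by
    rw [Matrix.trace]
    simp only [Matrix.diag_apply, MC, Matrix.of_apply, hrefl, if_true]
    simp [hV]
  have u1 : (P s).trace = 0 := by
    rw [Matrix.trace]
    refine Finset.sum_eq_zero fun a _ => ?_
    simp only [Matrix.diag_apply, P, Matrix.of_apply]
    rw [if_neg]
    intro h
    apply hcon a
    rw [h]
    exact hrefl a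
  have u2 : (P s * P s).trace = 0 := by
    rw [Matrix.trace]
    refine Finset.sum_eq_zero fun a _ => ?_
    rw [Matrix.diag_apply, P_mul]
    simp only [P, Matrix.of_apply]
    rw [if_neg]
    intro h
    have h3 := hs3 a
    rw [h] at h3
    apply hcon a
    rw [h3]
    exact hrefl a
  have u0 : (1 : Matrix V V ℚ).trace = 3510 := by
    rw [Matrix.trace_one, hV]
    norm_num
  have tJ : (J V).trace = 3510 := by
    rw [Matrix.trace]
    simp [Matrix.diag_apply, J, hV]
  -- the algebra
  set M := MC c with hM
  set Q := P s with hQ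
  set Z := J V with hZ
  set N : Matrix V V ℚ := M + (8 : ℚ) • 1 with hN
  set S : Matrix V V ℚ := 1 + Q + Q * Q with hS
  have hNN : N * N = (72 : ℚ) • N + (126 : ℚ) • Z := by
    rw [hN, add_mul, mul_add, mul_add, hMM]
    simp only [smul_mul_assoc, mul_smul_comm, one_mul, mul_one, smul_add, smul_smul]
    module
  have hNZ : N * Z = (702 : ℚ) • Z := by
    rw [hN, add_mul, hMJ, smul_mul_assoc, one_mul]
    module
  have hZN : Z * N = (702 : ℚ) • Z := by
    rw [hN, mul_add, hJM, mul_smul_comm, mul_one]
    module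
  have hQ4 : Q * Q * (Q * Q) = Q := by
    rw [mul_assoc, hPP, mul_one]
  have hQ3 : Q * Q * Q = 1 := by
    rw [mul_assoc, hPP]
  have hSS : S * S = (3 : ℚ) • S := by
    rw [hS]
    simp only [add_mul, mul_add, one_mul, mul_one, hPP, hQ4, hQ3]
    module
  have hZS : Z * S = (3 : ℚ) • Z := by
    rw [hS]
    simp only [mul_add, mul_one, ← mul_assoc, hJP]
    module
  have hSZ : S * Z = (3 : ℚ) • Z := by
    rw [hS]
    simp only [add_mul, one_mul, mul_assoc, hPJ]
    module
  have hQN : Q * N = N * Q := by
    rw [hN, mul_add, add_mul, hPM, mul_smul_comm, smul_mul_assoc, mul_one, one_mul]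
  have hSN : S * N = N * S := by
    have h : Q * (Q * N) = N * (Q * Q) := by rw [hQN, ← mul_assoc, hQN, mul_assoc]
    rw [hS]
    simp only [add_mul, mul_add, one_mul, mul_one, mul_assoc, hQN]
    rw [← hQN, h]
  have hF : N * S * (N * S) = (216 : ℚ) • (N * S) + (1134 : ℚ) • Z := by
    calc N * S * (N * S) = N * (S * N) * S := by simp only [mul_assoc]
      _ = (N * N) * (S * S) := by rw [hSN]; simp only [mul_assoc]
      _ = ((72 : ℚ) • N + (126 : ℚ) • Z) * ((3 : ℚ) • S) := by rw [hNN, hSS]
      _ = _ := by
        rw [add_mul, smul_mul_assoc, smul_mul_assoc, mul_smul_comm, mul_smul_comm, hZS]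
        module
  have hFZ : N * S * Z = (2106 : ℚ) • Z := by
    rw [mul_assoc, hSZ, mul_smul_comm, hNZ]
    module
  have hZF : Z * (N * S) = (2106 : ℚ) • Z := by
    rw [← mul_assoc, hZN, smul_mul_assoc, hZS]
    module
  set E : Matrix V V ℚ := (1 / 216 : ℚ) • (N * S) - (1 / 360 : ℚ) • Z with hE
  have hEE : E * E = E := by
    rw [hE, sub_mul, mul_sub, mul_sub]
    simp only [smul_mul_assoc, mul_smul_comm, hF, hFZ, hZF, hJJ]
    module
  obtain ⟨n, hn⟩ := trace_idem hEE
  have htr : E.trace = 273 / 2 := by
    have h3 : N * S = M + M * Q + M * (Q * Q) + (8 : ℚ) • 1 + (8 : ℚ) • Q + (8 : ℚ) • (Q * Q) := by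
      rw [hN, hS]
      simp only [add_mul, mul_add, mul_one, smul_mul_assoc, one_mul, smul_add]
      module
    rw [hE, Matrix.trace_sub, Matrix.trace_smul, Matrix.trace_smul, h3]
    simp only [Matrix.trace_add, Matrix.trace_smul, t0, t1, t2, u0, u1, u2, tJ, smul_eq_mul]
    norm_num
  rw [htr] at hn
  have h4 : (273 : ℚ) = ((2 * n : ℕ) : ℚ) := by
    push_cast
    linarith
  have h5 : 273 = 2 * n := by exact_mod_cast h4
  omega

end

end Cfsg.Agent.H833.F22Srg
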