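import Mathlib
import Cfsg.Agent.H833.F22Srg
import Cfsg.Agent.LThreeFi22.Inst
import Cfsg.Agent.R01.Count

/-!
# The graph of the 3510 transpositions of `Fi22`: 180 and 126 common neighbours (helper833)

`exists_comm`: an automorphism of order three of `Fi22` moves some transposition to a commuting one (or fixes it).
-/

set_option autoImplicit false

namespace Cfsg.Agent.H833.F22Cnt

open Cfsg Cfsg.Agent.LThreeFi22
open Cfsg.Agent.R01 Cfsg.Agent.R01.Lifts Cfsg.Agent.R01.Label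
open Cfsg.Agent.KFacts.FiTT

/-- the transpositions -/
abbrev T : Set Spor.Fi22 := Fi22Facts.T

theorem TK_refl : TK (MulEquiv.refl Spor.Fi22) = T := Set.ext fun _ => Inst.mem_TK _

theorem ctx : Ctx Spor.Fi22 T := by
  have h := Inst.ctx (MulEquiv.refl Spor.Fi22)
  rwa [TK_refl] at h

instance : Finite Spor.Fi22 := ctx.finite

/-- 180 transpositions commute with two commuting ones -/
theorem lam {a b : Spor.Fi22} (ha : a ∈ T) (hb : b ∈ T) (hne : a ≠ b) (hab : a * b = b * a) :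
    {c | c ∈ T ∧ c ≠ a ∧ c ≠ b ∧ a * c = c * a ∧ b * c = c * b}.ncard = 180 := by
  have ha' : a ∈ TK (MulEquiv.refl Spor.Fi22) := by rwa [TK_refl]
  obtain ⟨π, lift, B⟩ := Inst.base_at (MulEquiv.refl Spor.Fi22) ha'
  have hb' : b ∈ TK (MulEquiv.refl Spor.Fi22) := by rwa [TK_refl]
  have hbD := Inst.mem_D B hb' hne.symm hab
  have h := Count.ncard_commuting B.lab hbD
  rw [← h, ← Set.ncard_image_of_injective _ Subtype.val_injective]
  congr 1
  ext c
  constructor
  · rintro ⟨hc, hca, hcb, h1, h2⟩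
    have hc' : c ∈ TK (MulEquiv.refl Spor.Fi22) := by rwa [TK_refl]
    refine ⟨_, ⟨Inst.mem_D B hc' hca h1, Subtype.ext h2, fun h3 => hcb (congrArg Subtype.val h3)⟩, rfl⟩
  · rintro ⟨x, ⟨hx, h1, h2⟩, rfl⟩
    obtain ⟨e1, e2, e3⟩ := Inst.of_D B hx
    rw [TK_refl] at e1
    exact ⟨e1, e2, fun h3 => h2 (Subtype.ext h3), e3, congrArg Subtype.val h1⟩

/-- 126 transpositions commute with two non-commuting ones -/
theorem mu {a b : Spor.Fi22} (ha : a ∈ T) (hb : b ∈ T) (hab : a * b ≠ b * a) :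
    {c | c ∈ T ∧ a * c = c * a ∧ b * c = c * b}.ncard = 126 := by
  classical
  have C := ctx
  have : Fintype Spor.Fi22 := Fintype.ofFinite _
  set N1 : Set Spor.Fi22 := {c | c ∈ T ∧ c ≠ a ∧ a * c = c * a} with hN1
  set N2 : Set Spor.Fi22 := {e | e ∈ T ∧ a * e ≠ e * a} with hN2
  set m := {c | c ∈ T ∧ a * c = c * a ∧ b * c = c * b}.ncard with hm
  have c1 : N1.ncard = 693 := C.link a ha
  have c2 : N2.ncard = 2816 := C.far ha
  have hmu : ∀ e ∈ N2, {c | c ∈ N1 ∧ e * c = c * e}.ncard = m := by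
    rintro e ⟨he, hae⟩
    obtain ⟨g, hg1, hg2⟩ := C.transN a ha b hb a ha e he hab hae
    rw [hm]
    symm
    apply ncard_conj g
    intro x
    constructor
    · rintro ⟨hx, h1, h2⟩
      refine ⟨⟨C.conj x hx g, fun h => ?_, ?_⟩, ?_⟩
      · have h3 : x = a := by
          have : g * x * g⁻¹ = g * a * g⁻¹ := by rw [h, hg1]
          exact mul_left_cancel (mul_right_cancel this)
        apply hab
        rw [← h3]
        exact h2.symm
      · have := (conj_comm_iff g a x).2 h1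
        rwa [hg1] at this
      · have := (conj_comm_iff g b x).2 h2
        rwa [hg2] at this
    · rintro ⟨⟨hx, -, h1⟩, h2⟩
      refine ⟨(C.conj_iff g).1 hx, (conj_comm_iff g a x).1 ?_, (conj_comm_iff g b x).1 ?_⟩
      · rwa [hg1]
      · rwa [hg2]
  have hk : ∀ c ∈ N1, {e | e ∈ N2 ∧ e * c = c * e}.ncard = 512 := by
    rintro c ⟨hc, hca, hac⟩
    have h1 := C.link c hc
    have h2 := lam ha hc hca.symm hac
    have h3 : {x | x ∈ T ∧ x ≠ c ∧ c * x = x * c} = insert a ({x | x ∈ T ∧ x ≠ a ∧ x ≠ c ∧ a * x = x * a ∧ c * x = x * c} ∪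
        {e | e ∈ N2 ∧ e * c = c * e}) := by
      ext x
      constructor
      · rintro ⟨hx, hxc, hcx⟩
        by_cases h4 : x = a
        · exact Or.inl h4
        · right
          by_cases h5 : a * x = x * a
          · exact Or.inl ⟨hx, h4, hxc, h5, hcx⟩
          · exact Or.inr ⟨⟨hx, h5⟩, hcx.symm⟩
      · rintro (rfl | ⟨hx, -, h4, -, h5⟩ | ⟨⟨hx, h4⟩, h5⟩)
        · exact ⟨ha, hca.symm, hac.symm⟩
        · exact ⟨hx, h4, h5⟩
        · refine ⟨hx, ?_, h5.symm⟩
          rintro rfl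
          exact h4 hac
    have h4 : a ∉ {x | x ∈ T ∧ x ≠ a ∧ x ≠ c ∧ a * x = x * a ∧ c * x = x * c} ∪ {e | e ∈ N2 ∧ e * c = c * e} := by
      rintro (⟨-, h5, -⟩ | ⟨⟨-, h5⟩, -⟩)
      · exact h5 rfl
      · exact h5 rfl
    have h5 : Disjoint {x | x ∈ T ∧ x ≠ a ∧ x ≠ c ∧ a * x = x * a ∧ c * x = x * c} {e | e ∈ N2 ∧ e * c = c * e} := by
      rw [Set.disjoint_left]
      rintro x ⟨-, -, -, h6, -⟩ ⟨⟨-, h7⟩, -⟩
      exact h7 h6
    rw [h3, Set.ncard_insert_of_notMem h4 (Set.toFinite _), Set.ncard_union_eq h5 (Set.toFinite _) (Set.toFinite _),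
      h2] at h1
    omega
  have hdc : 693 * 512 = 2816 * m := by
    have h1 := Finset.sum_card_bipartiteAbove_eq_sum_card_bipartiteBelow (s := N1.toFinset) (t := N2.toFinset)
      (fun c e : Spor.Fi22 => e * c = c * e)
    have h2 : ∀ c ∈ N1.toFinset, (N2.toFinset.bipartiteAbove (fun c e : Spor.Fi22 => e * c = c * e) c).card = 512 := by
      intro c hc
      rw [← hk c (Set.mem_toFinset.1 hc), Set.ncard_eq_toFinset_card']
      congr 1
      ext e
      simp [Finset.bipartiteAbove]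
    have h3 : ∀ e ∈ N2.toFinset, (N1.toFinset.bipartiteBelow (fun c e : Spor.Fi22 => e * c = c * e) e).card = m := by
      intro e he
      rw [← hmu e (Set.mem_toFinset.1 he), Set.ncard_eq_toFinset_card']
      congr 1
      ext c
      simp [Finset.bipartiteBelow]
    rw [Finset.sum_congr rfl h2, Finset.sum_congr rfl h3, Finset.sum_const, Finset.sum_const,
      ← Set.ncard_eq_toFinset_card', ← Set.ncard_eq_toFinset_card', c1, c2, smul_eq_mul, smul_eq_mul] at h1
    exact h1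
  omega

/-- **An automorphism of order three maps some transposition to a commuting one.** -/
theorem exists_comm {σ : MulAut Spor.Fi22} (hσT : ∀ t ∈ T, σ t ∈ T) (h3 : ∀ t, σ (σ (σ t)) = t) :
    ∃ t ∈ T, t * σ t = σ t * t := by
  classical
  have C := ctx
  have : Fintype ↥T := Fintype.ofFinite _
  let s : Equiv.Perm ↥T :=
    { toFun := fun t => ⟨σ t, hσT t t.2⟩
      invFun := fun t => ⟨σ (σ t), hσT _ (hσT t t.2)⟩
      left_inv := fun t => Subtype.ext (h3 t)
      right_inv := fun t => Subtype.ext (h3 t) }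
  have hV : Fintype.card ↥T = 3510 := by
    rw [← Nat.card_eq_fintype_card]
    exact C.ncard
  have cnt : ∀ a b : ↥T, (Finset.univ.filter fun v : ↥T => (a : Spor.Fi22) * v = v * a ∧ (b : Spor.Fi22) * v = v * b).card =
      {c | c ∈ T ∧ (a : Spor.Fi22) * c = c * a ∧ (b : Spor.Fi22) * c = c * b}.ncard := by
    intro a b
    rw [← Set.ncard_coe_finset, ← Set.ncard_image_of_injective _ Subtype.val_injective]
    congr 1
    ext x
    constructor
    · rintro ⟨v, hv, rfl⟩
      have hv' := (Finset.mem_filter.1 (Finset.mem_coe.1 hv)).2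
      exact ⟨v.2, hv'.1, hv'.2⟩
    · rintro ⟨hx, h1, h2⟩
      exact ⟨⟨x, hx⟩, Finset.mem_coe.2 (Finset.mem_filter.2 ⟨Finset.mem_univ _, h1, h2⟩), rfl⟩
  suffices hex : ∃ a : ↥T, (a : Spor.Fi22) * (s a : Spor.Fi22) = (s a : Spor.Fi22) * a by
    obtain ⟨a, ha⟩ := hex
    exact ⟨a, a.2, ha⟩
  refine F22Srg.exists_rel (V := ↥T) (c := fun a b => (a : Spor.Fi22) * b = b * a) (s := s) hV
    (fun a b => ⟨Eq.symm, Eq.symm⟩) (fun a => rfl) ?_ ?_ ?_ (fun a => Subtype.ext (h3 a)) ?_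
  · rintro ⟨a, ha⟩
    rw [cnt]
    have h1 := C.link a ha
    have h2 : {c | c ∈ T ∧ a * c = c * a ∧ a * c = c * a} = insert a {c | c ∈ T ∧ c ≠ a ∧ a * c = c * a} := by
      ext x
      constructor
      · rintro ⟨hx, h3, -⟩
        by_cases h4 : x = a
        · exact Or.inl h4
        · exact Or.inr ⟨hx, h4, h3⟩
      · rintro (rfl | ⟨hx, -, h3⟩)
        · exact ⟨ha, rfl, rfl⟩
        · exact ⟨hx, h3, h3⟩
    rw [h2, Set.ncard_insert_of_notMem (fun h => h.2.1 rfl) (Set.toFinite _), h1]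
  · rintro ⟨a, ha⟩ ⟨b, hb⟩ hne hab
    rw [cnt]
    have hne' : a ≠ b := fun h => hne (Subtype.ext h)
    have h1 := lam ha hb hne' hab
    have h2 : {c | c ∈ T ∧ a * c = c * a ∧ b * c = c * b} =
        insert a (insert b {c | c ∈ T ∧ c ≠ a ∧ c ≠ b ∧ a * c = c * a ∧ b * c = c * b}) := by
      ext x
      constructor
      · rintro ⟨hx, h3, h4⟩
        by_cases h5 : x = a
        · exact Or.inl h5
        · by_cases h6 : x = b
          · exact Or.inr (Or.inl h6)
          · exact Or.inr (Or.inr ⟨hx, h5, h6, h3, h4⟩)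
      · rintro (rfl | rfl | ⟨hx, -, -, h3, h4⟩)
        · exact ⟨ha, rfl, Eq.symm hab⟩
        · exact ⟨hb, hab, rfl⟩
        · exact ⟨hx, h3, h4⟩
    rw [h2, Set.ncard_insert_of_notMem ?_ (Set.toFinite _), Set.ncard_insert_of_notMem (fun h => h.2.2.1 rfl) (Set.toFinite _),
      h1]
    rintro (h3 | h3)
    · exact hne' h3
    · exact h3.2.1 rfl
  · rintro ⟨a, ha⟩ ⟨b, hb⟩ hab
    rw [cnt]
    exact mu ha hb hab
  · rintro ⟨a, ha⟩ ⟨b, hb⟩
    constructor
    · intro h
      have h1 : σ a * σ b = σ b * σ a := h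
      rw [← map_mul, ← map_mul] at h1
      exact σ.injective h1
    · intro h
      show σ a * σ b = σ b * σ a
      rw [← map_mul, ← map_mul]
      exact congrArg σ h

end Cfsg.Agent.H833.F22Cnt
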