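import Mathlib

/-!
# The product of the members of a path of 3-transpositions has order five

Copy of `LThreeFi24.Path.pow_five` (without its import closure).
-/

set_option autoImplicit false

namespace Cfsg.Agent.H833.PathFive

variable {G : Type*} [Group G]

theorem pow_five {a b c d : G} (ha : a * a = 1) (hb : b * b = 1) (hc : c * c = 1) (hd : d * d = 1)
    (hab : a * b * a = b * a * b) (hbc : b * c * b = c * b * c) (hcd : c * d * c = d * c * d)
    (hac : a * c = c * a) (had : a * d = d * a) (hbd : b * d = d * b) : (a * b * c * d) ^ 5 = 1 := by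
  have ia : a⁻¹ = a := inv_eq_of_mul_eq_one_left ha
  have ib : b⁻¹ = b := inv_eq_of_mul_eq_one_left hb
  have ic : c⁻¹ = c := inv_eq_of_mul_eq_one_left hc
  have id' : d⁻¹ = d := inv_eq_of_mul_eq_one_left hd
  have xa : ∀ x : G, a * (a * x) = x := fun x => by rw [← mul_assoc, ha, one_mul]
  have xb : ∀ x : G, b * (b * x) = x := fun x => by rw [← mul_assoc, hb, one_mul]
  have xc : ∀ x : G, c * (c * x) = x := fun x => by rw [← mul_assoc, hc, one_mul]
  have xd : ∀ x : G, d * (d * x) = x := fun x => by rw [← mul_assoc, hd, one_mul]
  have yab : ∀ x : G, a * (b * (a * x)) = b * (a * (b * x)) := fun x => by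
    simpa only [mul_assoc] using congrArg (· * x) hab
  have ybc : ∀ x : G, b * (c * (b * x)) = c * (b * (c * x)) := fun x => by
    simpa only [mul_assoc] using congrArg (· * x) hbc
  have ycd : ∀ x : G, c * (d * (c * x)) = d * (c * (d * x)) := fun x => by
    simpa only [mul_assoc] using congrArg (· * x) hcd
  have zac : ∀ x : G, a * (c * x) = c * (a * x) := fun x => by
    simpa only [mul_assoc] using congrArg (· * x) hac
  have zad : ∀ x : G, a * (d * x) = d * (a * x) := fun x => by
    simpa only [mul_assoc] using congrArg (· * x) had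
  have zbd : ∀ x : G, b * (d * x) = d * (b * x) := fun x => by
    simpa only [mul_assoc] using congrArg (· * x) hbd
  set g := a * b * c * d with hg
  -- conjugation by `g`
  have ga : g * a = b * g := by
    rw [hg]; simp only [mul_assoc]
    rw [← had, ← zac, yab]
  have gb : g * b = c * g := by
    rw [hg]; simp only [mul_assoc]
    rw [← hbd, ybc, zac]
  have gc : g * c = d * g := by
    rw [hg]; simp only [mul_assoc]
    have h1 : c * (d * c) = d * (c * d) := by simpa only [mul_assoc] using hcd
    rw [h1, zbd, zad]
  -- `e = (1 5)`
  set e := a * b * c * d * c * b * a with he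
  have gd : g * d = e * g := by
    rw [hg, he]; simp only [mul_assoc]
    rw [xa, xb, xc]
  have e2 : e * e = 1 := by
    rw [he]; simp only [mul_assoc]
    rw [xa, xb, xc, xd, xc, xb, ha]
  have he' : e = d * c * b * a * b * c * d := by
    have h1 : a * b * d = d * a * b := by rw [mul_assoc, hbd, ← mul_assoc, had]
    have h2 : d * b * a = b * a * d := by rw [← hbd, mul_assoc, ← had, mul_assoc]
    calc e = a * b * (c * d * c) * b * a := by rw [he]; simp only [mul_assoc]
      _ = (a * b * d) * c * (d * b * a) := by rw [hcd]; simp only [mul_assoc]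
      _ = d * (a * (b * c * b) * a) * d := by rw [h1, h2]; simp only [mul_assoc]
      _ = d * ((a * c) * b * (c * a)) * d := by rw [hbc]; simp only [mul_assoc]
      _ = d * (c * (a * b * a) * c) * d := by rw [← hac]; nth_rewrite 1 [hac]; simp only [mul_assoc]
      _ = d * c * b * a * b * c * d := by rw [hab]; simp only [mul_assoc]
  have ge : g * e = a * g := by
    rw [he', hg]; simp only [mul_assoc]
    rw [xd, xc, xb, ]
  have hge1 : g = b * c * d * e := by
    have h1 : g * g = (b * c * d * e) * g := by
      calc g * g = g * (a * b * c * d) := by rw [← hg]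
        _ = (g * a) * b * c * d := by simp only [mul_assoc]
        _ = b * (g * b) * c * d := by rw [ga]; simp only [mul_assoc]
        _ = b * c * (g * c) * d := by rw [gb]; simp only [mul_assoc]
        _ = b * c * d * (g * d) := by rw [gc]; simp only [mul_assoc]
        _ = (b * c * d * e) * g := by rw [gd]; simp only [mul_assoc]
    exact mul_right_cancel h1
  have step : ∀ x y z w x' y' z' w' : G, g * x = x' * g → g * y = y' * g → g * z = z' * g → g * w = w' * g →
      g = x * y * z * w → g = x' * y' * z' * w' := by
    intro x y z w x' y' z' w' h1 h2 h3 h4 h5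
    have h6 : g * g = (x' * y' * z' * w') * g := by
      calc g * g = g * (x * y * z * w) := by rw [← h5]
        _ = (g * x) * y * z * w := by simp only [mul_assoc]
        _ = x' * (g * y) * z * w := by rw [h1]; simp only [mul_assoc]
        _ = x' * y' * (g * z) * w := by rw [h2]; simp only [mul_assoc]
        _ = x' * y' * z' * (g * w) := by rw [h3]; simp only [mul_assoc]
        _ = (x' * y' * z' * w') * g := by rw [h4]; simp only [mul_assoc]
    exact mul_right_cancel h6
  have g2 : g = c * d * e * a := step _ _ _ _ _ _ _ _ gb gc gd ge hge1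
  have g3 : g = d * e * a * b := step _ _ _ _ _ _ _ _ gc gd ge ga g2
  have g4 : g = e * a * b * c := step _ _ _ _ _ _ _ _ gd ge ga gb g3
  -- commuting pairs with `e`
  have pair : ∀ x y x' y' : G, g * x = x' * g → g * y = y' * g → x * y = y * x → x' * y' = y' * x' := by
    intro x y x' y' h1 h2 h3
    have h4 : (x' * y') * g = (y' * x') * g := by
      calc (x' * y') * g = x' * (y' * g) := mul_assoc _ _ _
        _ = x' * (g * y) := by rw [h2]
        _ = (x' * g) * y := (mul_assoc _ _ _).symm
        _ = (g * x) * y := by rw [h1]
        _ = g * (x * y) := mul_assoc _ _ _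
        _ = g * (y * x) := by rw [h3]
        _ = (g * y) * x := (mul_assoc _ _ _).symm
        _ = (y' * g) * x := by rw [h2]
        _ = y' * (g * x) := mul_assoc _ _ _
        _ = y' * (x' * g) := by rw [h1]
        _ = (y' * x') * g := (mul_assoc _ _ _).symm
    exact mul_right_cancel h4
  have hbe : b * e = e * b := pair a d b e ga gd had
  have hce : c * e = e * c := pair b d c e gb gd hbd
  have xe : ∀ x : G, e * (e * x) = x := fun x => by rw [← mul_assoc, e2, one_mul]
  have zce : ∀ x : G, c * (e * x) = e * (c * x) := fun x => by
    simpa only [mul_assoc] using congrArg (· * x) hce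
  have zbe : ∀ x : G, b * (e * x) = e * (b * x) := fun x => by
    simpa only [mul_assoc] using congrArg (· * x) hbe
  calc g ^ 5 = g * g * g * g * g := by simp only [pow_succ, pow_zero, one_mul]
    _ = (a * b * c * d) * (d * e * a * b) * (b * c * d * e) * (e * a * b * c) * (c * d * e * a) := by
        rw [← hge1, ← g2, ← g3, ← g4, ← hg]
    _ = 1 := by
        simp only [mul_assoc]
        rw [xd, xb, xe, xc]
        -- `a b c e a c d a b d e a`
        rw [zac, zce, xc]
        -- `a b e a d a b d e a`
        rw [zad, xa, zbd, xd, zbe, xb, xe, ha]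

theorem ne_one {a b c d : G} (ha : a * a = 1) (hab : ¬ Commute a b) (hac : Commute a c) (had : Commute a d) :
    a * b * c * d ≠ 1 := by
  intro h
  apply hab
  have h1 : b = a⁻¹ * (c * d)⁻¹ := by
    have h2 : a * b * (c * d) = 1 := by rw [← h]; group
    have h3 : a * b = (c * d)⁻¹ := eq_inv_of_mul_eq_one_left h2
    rw [← h3]; group
  rw [h1]
  have h2 : Commute a (c * d)⁻¹ := (hac.mul_right had).inv_right
  exact ((Commute.refl a).inv_right).mul_right h2


end Cfsg.Agent.H833.PathFive
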