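import Cfsg.Agent.H833.PlusAut

/-!
# `PΩ⁺₈(q)`, `q ≡ 1 (mod 4)`: no subgroup `Aut(PSp₆(q))` or `Aut(PΩ₇(q))` (helper833)
-/

set_option autoImplicit false

namespace Cfsg.Agent.H833.PlusTwo

open Cfsg Cfsg.Agent.H884.El Cfsg.Agent.LieClassical.OmegaReindex Cfsg.Agent.H955 Cfsg.Agent.H436
  Cfsg.Agent.OrdDiv

universe u

/-- the automorphism group has an element of order `2 r` -/
theorem exists_aut_of_named {S : Type u} [Group S] {q r : ℕ} (hodd : Odd q) (hr : PP q 6 r)
    (hS : IsNamed (.psp 3 q) S ∨ IsNamed (.oodd 3 q) S) : ∃ α : MulAut S, orderOf α = 2 * r := by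
  rcases hS with hS | hS
  · obtain ⟨F, _, _, hF, ⟨e⟩⟩ := hS.real
    obtain ⟨α, hα⟩ := sp_aut (F := F) (by rw [hF]; exact hodd) (r := r) (by
      rw [Nat.card_eq_fintype_card, hF]; exact hr)
    refine ⟨(MulAut.congr e).symm α, ?_⟩
    rw [← hα]
    exact orderOf_injective ((MulAut.congr e).symm : MulAut (PSp 3 F) →* MulAut S) (MulEquiv.injective _) α
  · obtain ⟨F, _, _, hF, ⟨e⟩⟩ := hS.real
    have hodd' : Odd (Fintype.card F) := by rw [hF]; exact hodd
    have h2 := H390.two_ne_zero_of_odd hodd'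
    have hr' : PP (Nat.card F) 6 r := by rw [Nat.card_eq_fintype_card, hF]; exact hr
    have hdvd : r ∣ Nat.card (POmega F (quadFormOdd 3 F)) := by
      have h1 := Cfsg.Agent.S0292.result (F := F) rfl hodd' 3 le_rfl
      have h3 : r ∣ 2 * Nat.card (POmega F (quadFormOdd 3 F)) := by
        rw [h1]
        apply Dvd.dvd.mul_left
        refine Dvd.dvd.trans ?_ (Finset.dvd_prod_of_mem _ (Finset.mem_range.2 (show 2 < 3 by norm_num)))
        have := (hr'.dvd_iff Nat.card_pos 6).2 dvd_rfl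
        rw [Nat.card_eq_fintype_card] at this
        exact this
      have hlt := hr.lt (by norm_num)
      exact (Nat.Coprime.dvd_of_dvd_mul_left ((Nat.coprime_primes hr.prime Nat.prime_two).2 (by omega)) h3)
    have h : ∀ (_ : r ∣ Nat.card (POmega F (⇑(quadOdd 3 F)))), ∃ α : MulAut (POmega F (⇑(quadOdd 3 F))),
        orderOf α = 2 * r := fun hd =>
      orth_aut (nondeg_iff.2 (quadOdd_nondegenerate h2)) (data_odd le_rfl h2) (e := 6) (by rw [card_odd])
        (by decide) (by norm_num) hr' h2 hd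
    rw [coe_quadOdd] at h
    obtain ⟨α, hα⟩ := h hdvd
    refine ⟨(MulAut.congr e).symm α, ?_⟩
    rw [← hα]
    exact orderOf_injective ((MulAut.congr e).symm : MulAut (POmega F (quadFormOdd 3 F)) →* MulAut S)
      (MulEquiv.injective _) α

/-- **SAX-P8-59**, without the simplicity of `S` -/
theorem card_ne' {T : Type u} [Group T] [Finite T] {q : ℕ} (hT : IsNamed (.oplus 4 q) T) (hq : q % 4 = 1)
    {R : Subgroup T} (S : Subgroup R) [S.Normal]
    (hC : Subgroup.centralizer (S : Set R) = ⊥) (hS : IsNamed (.psp 3 q) S ∨ IsNamed (.oodd 3 q) S) :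
    Nat.card R ≠ Nat.card (MulAut S) := by
  intro hcard
  have hodd : Odd q := by rw [Nat.odd_iff]; omega
  have hq2 : 2 ≤ q := hT.cond.2.one_lt
  obtain ⟨r, hr⟩ := exists_pp hq2 (e := 6) (by norm_num) (by omega)
  obtain ⟨α, hα⟩ := exists_aut_of_named hodd hr hS
  have hinj : Function.Injective (MulAut.conjNormal : R →* MulAut S) := by
    rw [← MonoidHom.ker_eq_bot_iff, eq_bot_iff]
    intro x hx
    rw [← hC, Subgroup.mem_centralizer_iff]
    intro y hy
    have h1 := DFunLike.congr_fun ((MonoidHom.mem_ker).1 hx) ⟨y, hy⟩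
    have h2 := congrArg Subtype.val h1
    rw [MulAut.conjNormal_apply, MulAut.one_apply] at h2
    exact (mul_inv_eq_iff_eq_mul.1 h2).symm
  have hfin : Finite (MulAut S) :=
    Finite.of_injective (fun φ => (φ : S → S)) DFunLike.coe_injective
  have hbij := hinj.bijective_of_nat_card_le hcard.ge
  obtain ⟨g, rfl⟩ := hbij.2 α
  rw [orderOf_injective _ hinj] at hα
  obtain ⟨F, _, _, hF, ⟨e⟩⟩ := hT.real
  refine plus_no_two_r (F := F) (by rw [hF]; exact hq) (r := r)
    (by rw [Nat.card_eq_fintype_card, hF]; exact hr) (e (g : T)) ?_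
  have h1 : orderOf (e (g : T)) = orderOf (g : T) := orderOf_injective e.toMonoidHom e.injective _
  rw [h1, Subgroup.orderOf_coe, hα]

/-- **SAX-P8-59** -/
theorem card_ne {T : Type u} [Group T] [Finite T] {q : ℕ} (hT : IsNamed (.oplus 4 q) T) (hq : q % 4 = 1)
    {R : Subgroup T} (S : Subgroup R) [S.Normal] [IsSimpleGroup S] (_hna : ¬ IsMulCommutative S)
    (hC : Subgroup.centralizer (S : Set R) = ⊥) (hS : IsNamed (.psp 3 q) S ∨ IsNamed (.oodd 3 q) S) :
    Nat.card R ≠ Nat.card (MulAut S) :=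
  card_ne' hT hq S hC hS

end Cfsg.Agent.H833.PlusTwo
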