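import Mathlib

/-!
# Automorphisms of a quotient induced by a group of operators (helper833)

* `exists_induced` : `f : P → U` onto, `A` acts on `K`, normalizes `P` and the kernel of `f`: a homomorphism
  `A → Aut U`;
* `normal_p_of_aut` : for `U` finite simple with trivial centre, every normal `p`-subgroup of `Aut U` is trivial.
-/

set_option autoImplicit false

namespace Cfsg.Agent.H833.Induced

variable {A K U : Type*} [Group A] [Group K] [Group U]

/-- **Induced automorphisms.** -/
theorem exists_induced (ψ : A →* MulAut K) (P : Subgroup K) (f : P →* U) (hf : Function.Surjective f)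
    (hP : ∀ (a : A) (x : K), x ∈ P → ψ a x ∈ P)
    (hker : ∀ (a : A) (x : P), f x = 1 → f ⟨ψ a x, hP a x x.2⟩ = 1) :
    ∃ Φ : A →* MulAut U, ∀ (a : A) (x : P), Φ a (f x) = f ⟨ψ a x, hP a x x.2⟩ := by
  classical
  let g : A → P →* U := fun a =>
    { toFun := fun x => f ⟨ψ a x, hP a x x.2⟩
      map_one' := by
        have : (⟨ψ a (1 : P), hP a _ (1 : P).2⟩ : P) = 1 := Subtype.ext (map_one _)
        rw [this, map_one]
      map_mul' := fun x y => by
        rw [← map_mul]
        congr 1
        exact Subtype.ext (map_mul (ψ a) _ _) }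
  have hg : ∀ a, f.ker ≤ (g a).ker := fun a x hx => hker a x hx
  let F : A → U →* U := fun a => f.liftOfRightInverse (Function.surjInv hf) (Function.rightInverse_surjInv hf)
    ⟨g a, hg a⟩
  have hF : ∀ a (x : P), F a (f x) = f ⟨ψ a x, hP a x x.2⟩ := fun a x =>
    f.liftOfRightInverse_comp_apply (Function.surjInv hf) (Function.rightInverse_surjInv hf) ⟨g a, hg a⟩ x
  have hmul : ∀ a b u, F (a * b) u = F a (F b u) := by
    intro a b u
    obtain ⟨x, rfl⟩ := hf u
    rw [hF, hF, hF]
    congr 1
    apply Subtype.ext
    show ψ (a * b) x = ψ a (ψ b x)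
    rw [map_mul]
    rfl
  have hone : ∀ u, F 1 u = u := by
    intro u
    obtain ⟨x, rfl⟩ := hf u
    rw [hF]
    congr 1
    apply Subtype.ext
    show ψ 1 x = x
    rw [map_one]
    rfl
  refine ⟨{ toFun := fun a => { F a with
              invFun := F a⁻¹
              left_inv := fun u => by
                show F a⁻¹ (F a u) = u
                rw [← hmul, inv_mul_cancel, hone]
              right_inv := fun u => by
                show F a (F a⁻¹ u) = u
                rw [← hmul, mul_inv_cancel, hone] }
            map_one' := MulEquiv.ext hone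
            map_mul' := fun a b => MulEquiv.ext (hmul a b) }, fun a x => hF a x⟩

/-- Normal `p`-subgroups of `Aut U`, `U` simple with trivial centre. -/
theorem normal_p_of_aut [Finite U] (hU : IsSimpleGroup U) (hc : Subgroup.center U = ⊥) {p : ℕ} [Fact p.Prime]
    {N : Subgroup (MulAut U)} (hN : N.Normal) (hp : IsPGroup p N) : N = ⊥ := by
  let M : Subgroup U := N.comap MulAut.conj
  have hMn : M.Normal := hN.comap _
  have hinj : Function.Injective (MulAut.conj : U →* MulAut U) := by
    rw [← MonoidHom.ker_eq_bot_iff, eq_bot_iff, ← hc]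
    intro x hx
    rw [Subgroup.mem_center_iff]
    intro g
    have h1 := congrArg (fun α : MulAut U => α g) (MonoidHom.mem_ker.1 hx)
    simp only [MulAut.conj_apply, MulAut.one_apply] at h1
    exact (mul_inv_eq_iff_eq_mul.1 h1).symm
  rcases hU.eq_bot_or_eq_top_of_normal M hMn with h | h
  · rw [eq_bot_iff]
    intro ν hν
    rw [Subgroup.mem_bot]
    apply MulEquiv.ext
    intro x
    have h1 : MulAut.conj (ν x * x⁻¹) ∈ N := by
      have e : MulAut.conj (ν x * x⁻¹) = ν * (MulAut.conj x * ν⁻¹ * (MulAut.conj x)⁻¹) := by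
        apply MulEquiv.ext
        intro y
        have h2 : (MulAut.conj x)⁻¹ y = x⁻¹ * y * x := by
          rw [← map_inv, MulAut.conj_apply, inv_inv]
        show (ν x * x⁻¹) * y * (ν x * x⁻¹)⁻¹ = ν (x * (ν⁻¹ ((MulAut.conj x)⁻¹ y)) * x⁻¹)
        rw [h2, map_mul ν, map_mul ν, MulAut.apply_inv_self, map_inv]
        group
      rw [e]
      exact mul_mem hν (hN.conj_mem _ (inv_mem hν) _)
    have h2 : ν x * x⁻¹ ∈ M := h1
    rw [h, Subgroup.mem_bot] at h2
    exact mul_inv_eq_one.1 h2
  · exfalso
    have hpU : IsPGroup p U := by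
      have e : ∀ x : U, MulAut.conj x ∈ N := fun x => by
        have : x ∈ M := by rw [h]; trivial
        exact this
      exact hp.of_injective ((MulAut.conj : U →* MulAut U).codRestrict N e) (fun x y hxy =>
        hinj (congrArg Subtype.val hxy))
    have : Nontrivial U := hU.toNontrivial
    have h1 := hpU.center_nontrivial
    rw [hc] at h1
    exact not_subsingleton_iff_nontrivial.2 h1 inferInstance

end Cfsg.Agent.H833.Induced
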