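import Cfsg.Agent.H833.CentPair
import Cfsg.Agent.H833.Induced
import Cfsg.Agent.S0815
import Cfsg.Agent.LThreeMB.FStar

/-!
# `C_K(d d') / R ≅ Aut U4(2)` in a group `K ≅ Fi22` (helper833)

* `card_mulAut` : `|Aut U4(2)| = 51840`;
* `exists_cent` : for different commuting `a, b ∈ TK e` a subgroup `R` with `Facts K a b R`, and a homomorphism of
  `C_K(a b)` onto `MulAut (PSU 4 F4 2)` with kernel `R`;
* `genFitting` : `F*(C_K(a b)) = R`.
-/

set_option autoImplicit false

namespace Cfsg.Agent.H833.CentQuot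

open Cfsg Cfsg.Agent.KFacts.FiTT
open Cfsg.Agent.SporRec.GF4
open Cfsg.Agent.Fischer.Unit22 (hF)
open Cfsg.Agent.H833.CentPair Cfsg.Agent.H833.Induced

universe v

theorem card_mulAut : Nat.card (MulAut (PSU 4 F4 2)) = 51840 := by
  have : Fact (Nat.Prime 2) := ⟨Nat.prime_two⟩
  rw [Cfsg.Agent.S0815.result 2 1 le_rfl (q := 2) (by norm_num) hF 4 (by norm_num) (by norm_num), card_PSU_four]
  norm_num

theorem simple_U : IsSimpleGroup (PSU 4 F4 2) := by
  have := Radical.isSimple_SU_four hF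
  exact (Radical.suEquiv hF).symm.isSimpleGroup

theorem center_U : Subgroup.center (PSU 4 F4 2) = ⊥ := by
  rw [eq_bot_iff]
  intro x hx
  have h1 : (Radical.suEquiv hF).symm x ∈ Subgroup.center (SU 4 F4 2) := by
    rw [Subgroup.mem_center_iff] at hx ⊢
    intro g
    apply (Radical.suEquiv hF).injective
    rw [map_mul, map_mul, MulEquiv.apply_symm_apply]
    exact hx _
  have h2 : (Radical.suEquiv hF).symm x = 1 :=
    Subgroup.mem_bot.1 ((le_of_eq (Radical.center_SU_four hF)) h1)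
  rw [Subgroup.mem_bot, ← (Radical.suEquiv hF).apply_symm_apply x, h2, map_one]

variable {K : Type v} [Group K] {Δ : Set K} {d : K}
  {π : Subgroup.centralizer ({d} : Set K) →* PSU 6 F4 2}
  {lift : (Fin 6 → F4) → Subgroup.centralizer ({d} : Set K)}

theorem conj_mem_P (B : Base K Δ d π lift) {g : K} (hg : g * (d * d2 lift) = d * d2 lift * g) {x : K}
    (hx : x ∈ Subgroup.centralizer ({d, d2 lift} : Set K)) :
    g * x * g⁻¹ ∈ Subgroup.centralizer ({d, d2 lift} : Set K) := by
  obtain ⟨x1, x2⟩ := mem_pair.1 hx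
  rcases B.swap_or_fix hg with ⟨h1, h2⟩ | ⟨h1, h2⟩
  · have h : g ∈ Subgroup.centralizer ({d, d2 lift} : Set K) := mem_pair.2 ⟨h1, h2⟩
    exact mul_mem (mul_mem h hx) (inv_mem h)
  · have e1 : g * d = d2 lift * g := mul_inv_eq_iff_eq_mul.1 h1
    have e2 : g * d2 lift = d * g := mul_inv_eq_iff_eq_mul.1 h2
    have e3 : g⁻¹ * d = d2 lift * g⁻¹ := by
      rw [inv_mul_eq_iff_eq_mul, ← mul_assoc, e2, mul_inv_cancel_right]
    have e4 : g⁻¹ * d2 lift = d * g⁻¹ := by
      rw [inv_mul_eq_iff_eq_mul, ← mul_assoc, e1, mul_inv_cancel_right]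
    refine mem_pair.2 ⟨?_, ?_⟩
    · calc g * x * g⁻¹ * d = g * x * (g⁻¹ * d) := by group
        _ = g * (x * d2 lift) * g⁻¹ := by rw [e3]; group
        _ = (g * d2 lift) * x * g⁻¹ := by rw [x2]; group
        _ = _ := by rw [e2]; group
    · calc g * x * g⁻¹ * d2 lift = g * x * (g⁻¹ * d2 lift) := by group
        _ = g * (x * d) * g⁻¹ := by rw [e4]; group
        _ = (g * d) * x * g⁻¹ := by rw [x1]; group
        _ = _ := by rw [e1]; group

/-- The homomorphism of `C_K(d d2)` into `Aut U4(2)`. -/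
theorem exists_hom (B : Base K Δ d π lift) :
    ∃ Φ : Subgroup.centralizer ({d * d2 lift} : Set K) →* MulAut (PSU 4 F4 2),
      ∀ (g : Subgroup.centralizer ({d * d2 lift} : Set K)) (x : Subgroup.centralizer ({d, d2 lift} : Set K)),
        Φ g (B.fR x) = B.fR ⟨g * x * (g : K)⁻¹, conj_mem_P B (B.mem_z.1 g.2) x.2⟩ := by
  have hP : ∀ (g : Subgroup.centralizer ({d * d2 lift} : Set K)) (x : K),
      x ∈ Subgroup.centralizer ({d, d2 lift} : Set K) →
      ((MulAut.conj : K →* MulAut K).comp (Subgroup.subtype _)) g x ∈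
        Subgroup.centralizer ({d, d2 lift} : Set K) := fun g x hx => conj_mem_P B (B.mem_z.1 g.2) hx
  obtain ⟨Φ, hΦ⟩ := exists_induced
    ((MulAut.conj : K →* MulAut K).comp (Subgroup.subtype (Subgroup.centralizer ({d * d2 lift} : Set K))))
    (Subgroup.centralizer ({d, d2 lift} : Set K)) B.fR B.fR_surjective hP (by
      intro g x hx
      rw [B.fR_eq_one_iff] at hx ⊢
      exact B.R_normal (B.mem_z.1 g.2) hx)
  exact ⟨Φ, hΦ⟩

/-- The kernel is `R`. -/
theorem ker_iff (B : Base K Δ d π lift) (H : ∃ (a b r : K) (x : Fin 5 → K), Seven Δ a b r x)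
    (Φ : Subgroup.centralizer ({d * d2 lift} : Set K) →* MulAut (PSU 4 F4 2))
    (hΦ : ∀ (g : Subgroup.centralizer ({d * d2 lift} : Set K)) (x : Subgroup.centralizer ({d, d2 lift} : Set K)),
        Φ g (B.fR x) = B.fR ⟨g * x * (g : K)⁻¹, conj_mem_P B (B.mem_z.1 g.2) x.2⟩)
    (g : Subgroup.centralizer ({d * d2 lift} : Set K)) : Φ g = 1 ↔ (g : K) ∈ RK lift := by
  have key : ∀ (g : Subgroup.centralizer ({d * d2 lift} : Set K)) (hg : (g : K) ∈ Subgroup.centralizer ({d, d2 lift} : Set K)),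
      Φ g = MulAut.conj (B.fR ⟨g, hg⟩) := by
    intro g hg
    apply MulEquiv.ext
    intro u
    obtain ⟨x, rfl⟩ := B.fR_surjective u
    rw [hΦ, MulAut.conj_apply, ← map_inv, ← map_mul, ← map_mul]
    rfl
  constructor
  · intro h
    rcases B.swap_or_fix (B.mem_z.1 g.2) with ⟨h1, h2⟩ | ⟨h1, h2⟩
    · have hg : (g : K) ∈ Subgroup.centralizer ({d, d2 lift} : Set K) := mem_pair.2 ⟨h1, h2⟩
      rw [key g hg] at h
      have h3 : B.fR ⟨g, hg⟩ ∈ Subgroup.center (PSU 4 F4 2) := by
        rw [Subgroup.mem_center_iff]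
        intro u
        have h4 := congrArg (fun α : MulAut (PSU 4 F4 2) => α u) h
        simp only [MulAut.conj_apply, MulAut.one_apply] at h4
        exact (mul_inv_eq_iff_eq_mul.1 h4).symm
      rw [center_U, Subgroup.mem_bot, B.fR_eq_one_iff] at h3
      exact h3
    · exfalso
      obtain ⟨r, x, S⟩ := seven_at B H
      refine not_central B S h1 h2 ?_
      intro y hy1 hy2
      have hy : y ∈ Subgroup.centralizer ({d, d2 lift} : Set K) := mem_pair.2 ⟨hy1, hy2⟩
      have h3 := hΦ g ⟨y, hy⟩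
      rw [h, MulAut.one_apply] at h3
      have h4 : B.fR (⟨g * y * (g : K)⁻¹, conj_mem_P B (B.mem_z.1 g.2) hy⟩ * ⟨y, hy⟩⁻¹) = 1 := by
        rw [map_mul, map_inv, ← h3, mul_inv_cancel]
      rw [B.fR_eq_one_iff] at h4
      exact h4
  · intro h
    have hg : (g : K) ∈ Subgroup.centralizer ({d, d2 lift} : Set K) := B.RK_le h
    rw [key g hg, (B.fR_eq_one_iff _).2 h, map_one]

/-- The homomorphism is onto. -/
theorem surjective (B : Base K Δ d π lift)
    (Φ : Subgroup.centralizer ({d * d2 lift} : Set K) →* MulAut (PSU 4 F4 2))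
    (hker : ∀ g : Subgroup.centralizer ({d * d2 lift} : Set K), Φ g = 1 ↔ (g : K) ∈ RK lift) :
    Function.Surjective Φ := by
  have hfin := B.finite
  have hfinM : Finite (MulAut (PSU 4 F4 2)) := Nat.finite_of_card_ne_zero (by rw [card_mulAut]; norm_num)
  rw [← MonoidHom.range_eq_top]
  apply Subgroup.eq_top_of_card_eq
  rw [card_mulAut]
  have h1 : Nat.card (Subgroup.centralizer ({d * d2 lift} : Set K)) * 1216215 = 64561751654400 := by
    rw [← B.index_z, ← B.card]
    exact (Subgroup.centralizer ({d * d2 lift} : Set K)).card_mul_index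
  have h2 : Nat.card Φ.ker = 2 ^ 10 := by
    rw [← B.R_card]
    refine Nat.card_congr
      { toFun := fun x => ⟨((x : Subgroup.centralizer ({d * d2 lift} : Set K)) : K),
          (hker _).1 (MonoidHom.mem_ker.1 x.2)⟩
        invFun := fun x => ⟨⟨x, B.P_le_z (B.RK_le x.2)⟩, MonoidHom.mem_ker.2 ((hker _).2 x.2)⟩
        left_inv := fun _ => rfl
        right_inv := fun _ => rfl }
  have h3 : Nat.card (Subgroup.centralizer ({d * d2 lift} : Set K)) = Nat.card Φ.range * Nat.card Φ.ker := by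
    rw [← Nat.card_congr (QuotientGroup.quotientKerEquivRange Φ).toEquiv]
    exact (Φ.ker.card_eq_card_quotient_mul_card_subgroup)
  rw [h2] at h3
  omega

/-- `F*(C_K(z)) = R`. -/
theorem genFitting_of (B : Base K Δ d π lift)
    (Φ : Subgroup.centralizer ({d * d2 lift} : Set K) →* MulAut (PSU 4 F4 2))
    (hker : ∀ g : Subgroup.centralizer ({d * d2 lift} : Set K), Φ g = 1 ↔ (g : K) ∈ RK lift)
    (hs : Function.Surjective Φ) :
    generalizedFittingSubgroup (Subgroup.centralizer ({d * d2 lift} : Set K)) =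
      (RK lift).subgroupOf (Subgroup.centralizer ({d * d2 lift} : Set K)) := by
  have hfin := B.finite
  have : Fact (Nat.Prime 2) := ⟨Nat.prime_two⟩
  have hkeq : Φ.ker = (RK lift).subgroupOf (Subgroup.centralizer ({d * d2 lift} : Set K)) := by
    ext g
    rw [MonoidHom.mem_ker, Subgroup.mem_subgroupOf]
    exact hker g
  have hn : ((RK lift).subgroupOf (Subgroup.centralizer ({d * d2 lift} : Set K))).Normal := by
    rw [← hkeq]; infer_instance
  have hfU : Finite (PSU 4 F4 2) := Finite.of_surjective _ B.fR_surjective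
  apply Cfsg.Agent.LThreeMB.genFitting_eq
  · exact B.R_two.comap_subtype
  · intro x hx
    rw [Subgroup.mem_subgroupOf]
    have h1 : ∀ y ∈ RK lift, (x : K) * y = y * x := by
      intro y hy
      have h2 := (Subgroup.mem_centralizer_iff.1 hx) ⟨y, B.P_le_z (B.RK_le hy)⟩ hy
      exact (congrArg Subtype.val h2).symm
    rcases B.R_center h1 with h | h | h | h
    · rw [h]; exact one_mem _
    · rw [h]; exact B.d_mem
    · rw [h]; exact B.d2_mem_RK
    · rw [h]; exact mul_mem B.d_mem B.d2_mem_RK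
  · intro N hN hN2
    have h1 : (N.map Φ).Normal := hN.map Φ hs
    have h2 : IsPGroup 2 (N.map Φ) := hN2.map Φ
    have h3 := normal_p_of_aut simple_U center_U h1 h2
    intro x hx
    rw [Subgroup.mem_subgroupOf, ← hker]
    have h4 : Φ x ∈ N.map Φ := ⟨x, hx, rfl⟩
    rwa [h3, Subgroup.mem_bot] at h4

/-- **The centralizer of `a b`.** -/
theorem exists_cent (e : K ≃* Spor.Fi22) {a b : K} (ha : a ∈ TK e) (hb : b ∈ TK e) (hne : a ≠ b)
    (hab : a * b = b * a) : ∃ R : Subgroup K, Facts K a b R ∧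
      (∃ f : Subgroup.centralizer ({a, b} : Set K) →* PSU 4 F4 2, Function.Surjective f ∧
        (∀ x, f x = 1 ↔ (x : K) ∈ R) ∧
        ∃ Φ : Subgroup.centralizer ({a * b} : Set K) →* MulAut (PSU 4 F4 2), Function.Surjective Φ ∧
          (∀ g, Φ g = 1 ↔ (g : K) ∈ R) ∧
          ∀ (g : Subgroup.centralizer ({a * b} : Set K)) (x y : Subgroup.centralizer ({a, b} : Set K)),
            (y : K) = g * x * (g : K)⁻¹ → Φ g (f x) = f y) ∧
      generalizedFittingSubgroup (Subgroup.centralizer ({a * b} : Set K)) =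
        R.subgroupOf (Subgroup.centralizer ({a * b} : Set K)) := by
  obtain ⟨d, π, lift, B⟩ := exists_base_of e
  obtain ⟨π', lift', B', rfl⟩ := B.exists_at ha hb hne hab
  have hS := exists_seven e
  obtain ⟨Φ, hΦ⟩ := exists_hom B'
  have hker := ker_iff B' hS Φ hΦ
  have hs := surjective B' Φ hker
  refine ⟨RK lift', B'.facts, ⟨B'.fR, B'.fR_surjective, B'.fR_eq_one_iff, Φ, hs, hker, ?_⟩,
    genFitting_of B' Φ hker hs⟩
  intro g x y hy
  rw [hΦ]
  congr 1
  exact Subtype.ext hy.symm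

/-- `C_K(a b) / R ≅ Aut U4(2)`, as a quotient. -/
theorem exists_quotient (e : K ≃* Spor.Fi22) {a b : K} (ha : a ∈ TK e) (hb : b ∈ TK e) (hne : a ≠ b)
    (hab : a * b = b * a) : ∃ R : Subgroup K, Facts K a b R ∧
      generalizedFittingSubgroup (Subgroup.centralizer ({a * b} : Set K)) =
        R.subgroupOf (Subgroup.centralizer ({a * b} : Set K)) ∧
      ∃ _ : (R.subgroupOf (Subgroup.centralizer ({a * b} : Set K))).Normal,
        Nonempty (↥(Subgroup.centralizer ({a * b} : Set K)) ⧸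
          R.subgroupOf (Subgroup.centralizer ({a * b} : Set K)) ≃* MulAut (PSU 4 F4 2)) := by
  obtain ⟨R, hR, ⟨f, -, -, Φ, hs, hker, -⟩, hF⟩ := exists_cent e ha hb hne hab
  have hkeq : Φ.ker = R.subgroupOf (Subgroup.centralizer ({a * b} : Set K)) := by
    ext g
    rw [MonoidHom.mem_ker, Subgroup.mem_subgroupOf]
    exact hker g
  have hn : (R.subgroupOf (Subgroup.centralizer ({a * b} : Set K))).Normal := by
    rw [← hkeq]; infer_instance
  exact ⟨R, hR, hF, hn, ⟨(QuotientGroup.quotientMulEquivOfEq hkeq.symm).trans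
    (QuotientGroup.quotientKerEquivOfSurjective Φ hs)⟩⟩

end Cfsg.Agent.H833.CentQuot
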