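import Cfsg.Agent.H833.SixPts
import Cfsg.Agent.H833.Induced
import Cfsg.Agent.H833.CentQuot
import Cfsg.Agent.H845.AutUFour
import Cfsg.Agent.LieClassical.SixModel

/-!
# The group of fixed points of the flip times `d i` is `2⁶ : O₆⁻(2)` (helper833)
-/

set_option autoImplicit false

namespace Cfsg.Agent.H833.SixEnd

open Cfsg Subgroup
open Cfsg.Agent.Fischer.Fi22PtsRep (gen)
open Cfsg.Agent.H836.EightPts (In tp pg)
open Cfsg.Agent.H833.SixData Cfsg.Agent.H833.SixChk Cfsg.Agent.H833.LabOrth Cfsg.Agent.H833.SixPts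
open Cfsg.Agent.LieClassical.ReflGen (orth)

/-- the identification of the isometry groups -/
theorem iso_orth : Nonempty (isometryGroup (ZMod 2) (quadFormMinus 2 (ZMod 2) 1 1) ≃* orth (q6 : V6 → ZMod 2)) := by
  have e := Cfsg.Agent.LieClassical.SixModel.isometryEquiv (quadFormMinus 2 (ZMod 2) 1 1)
  rw [← Cfsg.Agent.LieClassical.OrthForms.coe_minusForm] at e ⊢
  exact ⟨e⟩

/-- no normal 2-subgroups in `O₆⁻(2)` -/
theorem normal_two {N : Subgroup (orth (q6 : V6 → ZMod 2))} (hN : N.Normal) (h2 : IsPGroup 2 N) : N = ⊥ := by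
  obtain ⟨e⟩ := iso_orth
  obtain ⟨e'⟩ := Cfsg.Agent.H845.AutUFour.nonempty_equiv Cfsg.Agent.Fischer.Unit22.hF
  let f : orth (q6 : V6 → ZMod 2) ≃* MulAut (PSU 4 Cfsg.Agent.SporRec.GF4.F4 2) := e.symm.trans e'.symm
  have : Fact (Nat.Prime 2) := ⟨Nat.prime_two⟩
  have hfin : Finite (MulAut (PSU 4 Cfsg.Agent.SporRec.GF4.F4 2)) :=
    Nat.finite_of_card_ne_zero (by rw [Cfsg.Agent.H833.CentQuot.card_mulAut]; norm_num)
  have hfU : Finite (PSU 4 Cfsg.Agent.SporRec.GF4.F4 2) := by
    have hinj : Function.Injective (MulAut.conj : PSU 4 Cfsg.Agent.SporRec.GF4.F4 2 →* _) := by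
      rw [← MonoidHom.ker_eq_bot_iff, eq_bot_iff, ← Cfsg.Agent.H833.CentQuot.center_U]
      intro x hx
      rw [Subgroup.mem_center_iff]
      intro g
      have h1 := congrArg (fun α : MulAut (PSU 4 Cfsg.Agent.SporRec.GF4.F4 2) => α g) (MonoidHom.mem_ker.1 hx)
      simp only [MulAut.conj_apply, MulAut.one_apply] at h1
      exact (mul_inv_eq_iff_eq_mul.1 h1).symm
    exact Finite.of_injective _ hinj
  have h1 : N.map f.toMonoidHom = ⊥ :=
    Cfsg.Agent.H833.Induced.normal_p_of_aut Cfsg.Agent.H833.CentQuot.simple_U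
      Cfsg.Agent.H833.CentQuot.center_U (hN.map _ f.surjective) (h2.map _)
  exact (Subgroup.map_eq_bot_iff_of_injective N f.injective).1 h1

/-- the points of the generators other than `i` -/
def xs (k : Fin 6) : Cfsg.Agent.Fischer.Fi22Order.X :=
  ⟨![16, 17, 19, 97, 104, 631] k, by fin_cases k <;> decide⟩

theorem exists_rho : ∃ ρ : Ct →* orth (q6 : V6 → ZMod 2), Function.Surjective ρ ∧ Nat.card ρ.ker = 64 ∧
    ∀ g ∈ ρ.ker, g * g = 1 := by
  obtain ⟨ρ, hρ⟩ := labelled.exists_rho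
  refine ⟨ρ, labelled.surjective refl_top ρ hρ, ?_, ?_⟩
  · have hV : Nat.card V6 = 64 := by
      rw [Nat.card_eq_fintype_card, Fintype.card_fun]
      simp [ZMod.card]
    rw [← hV]
    have hm : ∀ k, ∃ g ∈ gs, g.p = (xs k).1 := by
      intro k
      fin_cases k
      · exact ⟨_, List.mem_cons_self, rfl⟩
      · exact ⟨_, List.mem_cons_of_mem _ (List.mem_cons_of_mem _ List.mem_cons_self), rfl⟩
      · exact ⟨_, List.mem_cons_of_mem _ (List.mem_cons_of_mem _ (List.mem_cons_of_mem _ List.mem_cons_self)), rfl⟩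
      · exact ⟨_, List.mem_cons_of_mem _ (List.mem_cons_of_mem _ (List.mem_cons_of_mem _ (List.mem_cons_of_mem _
          List.mem_cons_self))), rfl⟩
      · exact ⟨_, List.mem_cons_of_mem _ (List.mem_cons_of_mem _ (List.mem_cons_of_mem _ (List.mem_cons_of_mem _
          (List.mem_cons_of_mem _ List.mem_cons_self)))), rfl⟩
      · exact ⟨_, List.mem_cons_of_mem _ (List.mem_cons_of_mem _ (List.mem_cons_of_mem _ (List.mem_cons_of_mem _
          (List.mem_cons_of_mem _ (List.mem_cons_of_mem _ List.mem_cons_self))))), rfl⟩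
    have hm' : ∀ g (hg : g ∈ gs), (∃ k, xs k = ⟨g.p, gp_lt hg⟩) ∨ (⟨g.p, gp_lt hg⟩ : Cfsg.Agent.Fischer.Fi22Order.X) = xi := by
      intro g hg
      simp only [gs, List.mem_cons, List.not_mem_nil, or_false] at hg
      rcases hg with rfl | rfl | rfl | rfl | rfl | rfl | rfl
      · exact Or.inl ⟨0, rfl⟩
      · exact Or.inr rfl
      · exact Or.inl ⟨1, rfl⟩
      · exact Or.inl ⟨2, rfl⟩
      · exact Or.inl ⟨3, rfl⟩
      · exact Or.inl ⟨4, rfl⟩
      · exact Or.inl ⟨5, rfl⟩
    refine labelled.card_ker (ι := Fin 6) (by rw [hV]; rfl) ρ hρ xs ?_ 0 xi in_M_i ?_ ?_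
    · intro k
      obtain ⟨g, hg, e⟩ := hm k
      have h1 := in_M_gp hg
      have h2 : (⟨g.p, gp_lt hg⟩ : Cfsg.Agent.Fischer.Fi22Order.X) = xs k := Subtype.ext e
      rw [h2] at h1
      exact h1
    · exact lab_i.trans lab_d.symm
    · intro Y hY hi h1 h2 x hx
      obtain ⟨k, hk, rfl⟩ := trans_M hx
      have h0 : xd ∈ Y := hY 0
      -- `Y` is stable under the group
      have key : ∀ k ∈ H1, ∀ y ∈ Y, k • y ∈ Y := by
        intro k hk
        have hs : ∀ g (hg : g ∈ gs), ∀ y ∈ Y, tr g • y ∈ Y := by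
          intro g hg y hy
          rw [tr_eq hg]
          rcases hm' g hg with ⟨j, hj⟩ | hj
          · rw [← hj]; exact h1 j y hy
          · rw [hj]; exact h2 y hy
        have hkk : (∀ y ∈ Y, k • y ∈ Y) ∧ ∀ y ∈ Y, k⁻¹ • y ∈ Y := by
          induction hk using Subgroup.closure_induction with
          | mem x hx =>
            obtain ⟨g, hg, rfl⟩ := hx
            refine ⟨hs g hg, fun y hy => ?_⟩
            have : (tr g)⁻¹ = tr g := by
              rw [tr_eq hg]
              exact inv_eq_of_mul_eq_one_right (labelled.sq _)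
            rw [this]
            exact hs g hg y hy
          | one => exact ⟨fun y hy => by rw [one_smul]; exact hy, fun y hy => by rw [inv_one, one_smul]; exact hy⟩
          | mul x y _ _ hx hy =>
            refine ⟨fun z hz => ?_, fun z hz => ?_⟩
            · rw [mul_smul]; exact hx.1 _ (hy.1 z hz)
            · rw [mul_inv_rev, mul_smul]; exact hy.2 _ (hx.2 z hz)
          | inv x _ hx => exact ⟨hx.2, fun y hy => by rw [inv_inv]; exact hx.1 y hy⟩
        exact hkk.1
      exact key k hk _ h0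
  · intro g hg
    have h1 := (labelled.ker_iff ρ hρ g).1 (MonoidHom.mem_ker.1 hg)
    exact Subtype.ext (labelled.sq_ker g.2 h1)

/-- the same for a group with a homomorphism onto the isometry group -/
theorem pCore_eq' {C : Type*} [Group C] (ρ : C →* orth (q6 : V6 → ZMod 2)) (hs : Function.Surjective ρ)
    (hc : Nat.card ρ.ker = 64) : pCore 2 C = ρ.ker := by
  apply le_antisymm
  · apply sSup_le
    rintro N ⟨hN, h2⟩
    have h1 := normal_two (hN.map ρ hs) (h2.map ρ)
    intro x hx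
    rw [MonoidHom.mem_ker]
    have h3 : ρ x ∈ N.map ρ := ⟨x, hx, rfl⟩
    rwa [h1, Subgroup.mem_bot] at h3
  · apply le_sSup
    exact ⟨inferInstance, IsPGroup.of_card (n := 6) (by rw [hc]; norm_num)⟩

theorem main_of {G : Type*} [Group G] (C : Subgroup G) (ρ : C →* orth (q6 : V6 → ZMod 2))
    (hs : Function.Surjective ρ) (hc : Nat.card ρ.ker = 64) (h2 : ∀ g ∈ ρ.ker, g * g = 1) :
    ∃ O : Subgroup G, O = (Cfsg.pCore 2 ↥C).map C.subtype ∧ Cfsg.IsElementaryAbelian 2 O ∧ Nat.card O = 64 ∧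
    ∃ _ : (O.subgroupOf C).Normal,
      Nonempty (↥C ⧸ O.subgroupOf C ≃* Cfsg.isometryGroup (ZMod 2) (Cfsg.quadFormMinus 2 (ZMod 2) 1 1)) := by
  have hp := pCore_eq' ρ hs hc
  refine ⟨(Cfsg.pCore 2 ↥C).map C.subtype, rfl, ?_, ?_, ?_⟩
  · rw [hp]
    have hsq : ∀ a ∈ ρ.ker.map C.subtype, a ^ 2 = 1 := by
      rintro _ ⟨g, hg, rfl⟩
      rw [pow_two]
      exact congrArg Subtype.val (h2 g hg)
    refine ⟨⟨⟨?_⟩⟩, hsq⟩
    intro a b
    apply Subtype.ext
    have e1 : (a : G) * a = 1 := by rw [← pow_two]; exact hsq a a.2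
    have e2 : (b : G) * b = 1 := by rw [← pow_two]; exact hsq b b.2
    have e3 : ((a : G) * b) * (a * b) = 1 := by
      rw [← pow_two]; exact hsq _ (mul_mem a.2 b.2)
    show (a : G) * b = b * a
    calc (a : G) * b = a * (a * b * (a * b)) * b := by rw [e3, mul_one]
      _ = (a * a) * (b * a) * (b * b) := by group
      _ = b * a := by rw [e1, e2, one_mul, mul_one]
  · rw [hp, card_map_of_injective (subtype_injective _), hc]
  · rw [hp]
    have hkeq : (ρ.ker.map C.subtype).subgroupOf C = ρ.ker :=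
      comap_map_eq_self_of_injective (subtype_injective _) _
    have hn : ((ρ.ker.map C.subtype).subgroupOf C).Normal := by
      rw [hkeq]; infer_instance
    obtain ⟨e⟩ := iso_orth
    exact ⟨hn, ⟨((QuotientGroup.quotientMulEquivOfEq hkeq).trans
      (QuotientGroup.quotientKerEquivOfSurjective ρ hs)).trans e.symm⟩⟩

theorem card_orth : Nat.card (orth (q6 : V6 → ZMod 2)) = 51840 := by
  obtain ⟨e⟩ := iso_orth
  rw [← Nat.card_congr e.toEquiv]
  exact Cfsg.Agent.H845.AutUFour.card_isometry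

theorem card_Ct : Nat.card Ct = 3317760 := by
  obtain ⟨ρ, hs, hc, -⟩ := exists_rho
  rw [ρ.ker.card_eq_card_quotient_mul_card_subgroup,
    Nat.card_congr (QuotientGroup.quotientKerEquivOfSurjective ρ hs).toEquiv, card_orth, hc]

end Cfsg.Agent.H833.SixEnd
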