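import Cfsg.Agent.H833.AutStar

/-!
# `F*(C_{Aut Fi22}(conj (a b)))` (helper833)

* `outFix e` : an outer automorphism fixing two commuting transpositions;
* `main e` : the group `Q = F*(C_A(j))` is large extraspecial of order `2 ^ 11`, `C_A(j) / Q ≅ Aut U4(2)`.
-/

set_option autoImplicit false

namespace Cfsg.Agent.H833.AutFinal

open Cfsg Cfsg.Spor Subgroup Cfsg.Agent.KFacts.FiTT
open Cfsg.Agent.SporRec.GF4
open Cfsg.Agent.OddHalf.D8.Fi22 (KTrans kTrans Rig)
open Cfsg.Agent.Fischer.Fi22PtsRep (gen gen_cox gen_sq)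
open Cfsg.Agent.H833.AutPair Cfsg.Agent.H833.TrivAct Cfsg.Agent.H833.AutStar Cfsg.Agent.H833.CentQuot

universe v

theorem gen_chain {x y z : Spor.Fi22.Gen} (h1 : coxLabel Spor.Fi22.edges x y = 3)
    (h2 : coxLabel Spor.Fi22.edges x z = 2) (h : gen y = gen z) : gen x = gen z := by
  have h3 := gen_cox x y
  have h4 := gen_cox x z
  rw [h1, h] at h3
  rw [h2] at h4
  have h5 : gen x * gen z = 1 := by
    rw [pow_succ, h4, one_mul] at h3
    exact h3
  have h6 : gen z * gen z = 1 := gen_sq z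
  calc gen x = gen x * (gen z * gen z) := by rw [h6, mul_one]
    _ = (gen x * gen z) * gen z := by rw [mul_assoc]
    _ = gen z := by rw [h5, one_mul]

theorem di_ne : gen .d ≠ gen .i := by
  intro h
  have h1 : gen .c = gen .i := gen_chain (x := .c) (y := .d) (by decide) (by decide) h
  have h2 : gen .b = gen .i := gen_chain (x := .b) (y := .c) (by decide) (by decide) h1
  have h3 : gen .a = gen .i := gen_chain (x := .a) (y := .b) (by decide) (by decide) h2
  apply Cfsg.Agent.Fischer.Fi22Order.ab_ne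
  rw [h2, h3]

theorem di_comm : gen .d * gen .i = gen .i * gen .d := by
  have h := gen_cox .d .i
  have hl : coxLabel Spor.Fi22.edges .d .i = 2 := by decide
  rw [hl, pow_two] at h
  have h5 := eq_inv_of_mul_eq_one_left h
  rw [h5, mul_inv_rev, inv_eq_of_mul_eq_one_left (gen_sq .i), inv_eq_of_mul_eq_one_left (gen_sq .d)]

variable {K : Type v} [Group K]

theorem outFix (e : K ≃* Spor.Fi22) : OutFix (TK e) := by
  refine ⟨MulAut.congr e.symm Flip.flipA, ?_, e.symm (gen .d), ⟨_, Cfsg.Agent.R01.Fi22Facts.gen_mem .d, rfl⟩,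
    e.symm (gen .i), ⟨_, Cfsg.Agent.R01.Fi22Facts.gen_mem .i, rfl⟩, fun h => di_ne (e.symm.injective h),
    by rw [← map_mul, ← map_mul, di_comm], ?_, ?_⟩
  · intro x hx
    apply Flip.flipA_ne_conj (e x)
    apply MulEquiv.ext
    intro y
    have h1 := congrArg (fun β : MulAut K => e (β (e.symm y))) hx
    have h2 : e (MulAut.congr e.symm Flip.flipA (e.symm y)) = Flip.flipA y := by
      show e (e.symm (Flip.flipA (e (e.symm y)))) = _
      rw [e.apply_symm_apply, e.apply_symm_apply]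
    have h3 : e (MulAut.conj x (e.symm y)) = MulAut.conj (e x) y := by
      rw [MulAut.conj_apply, MulAut.conj_apply, map_mul, map_mul, map_inv, e.apply_symm_apply]
    exact h2.symm.trans (h1.trans h3)
  · show e.symm (Flip.flipA (e (e.symm (gen .d)))) = e.symm (gen .d)
    rw [e.apply_symm_apply, Flip.flipA_gen]
    rfl
  · show e.symm (Flip.flipA (e (e.symm (gen .i)))) = e.symm (gen .i)
    rw [e.apply_symm_apply, Flip.flipA_gen]
    rfl

/-- the group `Q`, as the kernel of a homomorphism of `C_A(j)` onto `Aut U4(2)` -/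
theorem exists_all (e : K ≃* Spor.Fi22) {a b : K} (ha : a ∈ TK e) (hb : b ∈ TK e) (hne : a ≠ b)
    (hab : a * b = b * a) :
    ∃ (R : Subgroup K) (Ψ : centralizer ({MulAut.conj (a * b)} : Set (MulAut K)) →* MulAut (PSU 4 F4 2)),
      Function.Surjective Ψ ∧
      Star K (TK e) a b R (Ψ.ker.map (centralizer ({MulAut.conj (a * b)} : Set (MulAut K))).subtype) ∧
      generalizedFittingSubgroup (centralizer ({MulAut.conj (a * b)} : Set (MulAut K))) = Ψ.ker := by
  have h : KTrans K (TK e) := kTrans e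
  obtain ⟨R, F, ⟨f, hf, hfR, Φ, hΦs, hΦker, hΦ⟩, -⟩ := exists_cent e ha hb hne hab
  obtain ⟨Ψ, hΨs, hΨ⟩ := exists_star h ha hb F f hf hfR Φ hΦs hΦ
  have hK : Finite K := Nat.finite_of_card_ne_zero (by rw [F.card]; norm_num)
  have hcs := card_star h ha hb F (outFix e)
  have h1 : Nat.card (centralizer ({a * b} : Set K)) = 51840 * 2 ^ 10 := by
    rw [Φ.ker.card_eq_card_quotient_mul_card_subgroup,
      Nat.card_congr (QuotientGroup.quotientKerEquivOfSurjective Φ hΦs).toEquiv, card_mulAut, ← F.R_card]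
    congr 1
    refine Nat.card_congr
      { toFun := fun x => ⟨((x : centralizer ({a * b} : Set K)) : K), (hΦker _).1 (MonoidHom.mem_ker.1 x.2)⟩
        invFun := fun x => ⟨⟨x, ?_⟩, MonoidHom.mem_ker.2 ((hΦker _).2 x.2)⟩
        left_inv := fun _ => rfl
        right_inv := fun _ => rfl }
    obtain ⟨k1, k2⟩ := mem_pair.1 (F.R_le x.2)
    rw [mem_centralizer_singleton_iff, ← mul_assoc, k1, mul_assoc, k2, mul_assoc]
  rw [h1] at hcs
  have h2 : Nat.card Ψ.ker = 2 ^ 11 := by
    rw [Ψ.ker.card_eq_card_quotient_mul_card_subgroup,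
      Nat.card_congr (QuotientGroup.quotientKerEquivOfSurjective Ψ hΨs).toEquiv, card_mulAut] at hcs
    omega
  have S : Star K (TK e) a b R (Ψ.ker.map (centralizer ({MulAut.conj (a * b)} : Set (MulAut K))).subtype) := by
    refine ⟨h, ha, hb, F, ?_, ?_⟩
    · intro α
      constructor
      · rintro ⟨β, hβ, rfl⟩
        exact ⟨(mem_Cz F).1 β.2, (hΨ β).1 (MonoidHom.mem_ker.1 hβ)⟩
      · rintro ⟨k1, k2⟩
        exact ⟨⟨α, (mem_Cz F).2 k1⟩, MonoidHom.mem_ker.2 ((hΨ _).2 k2), rfl⟩
    · rw [card_map_of_injective (subtype_injective _), h2]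
  refine ⟨R, Ψ, hΨs, S, ?_⟩
  have hfA : Finite (MulAut K) := Nat.finite_of_card_ne_zero (by rw [S.card_aut (outFix e)]; norm_num)
  have : Fact (Nat.Prime 2) := ⟨Nat.prime_two⟩
  apply Cfsg.Agent.LThreeMB.genFitting_eq
  · exact IsPGroup.of_card h2
  · intro x hx
    have h3 := S.mem_of_cent (α := (x : MulAut K)) (by
      rintro _ ⟨q, hq, rfl⟩
      exact congrArg Subtype.val (mem_centralizer_iff.1 hx q hq))
    obtain ⟨y, hy, hyx⟩ := h3
    rwa [show x = y from Subtype.ext hyx.symm]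
  · intro N hN hN2
    have k1 : (N.map Ψ).Normal := hN.map Ψ hΨs
    have k2 : IsPGroup 2 (N.map Ψ) := hN2.map Ψ
    have hfU : Finite (PSU 4 F4 2) := Finite.of_surjective _ hf
    have k3 := Cfsg.Agent.H833.Induced.normal_p_of_aut simple_U center_U k1 k2
    intro x hx
    rw [MonoidHom.mem_ker]
    have k4 : Ψ x ∈ N.map Ψ := ⟨x, hx, rfl⟩
    rwa [k3, mem_bot] at k4

/-- **The statement.** -/
theorem main (e : K ≃* Spor.Fi22) {a b : K} (ha : a ∈ TK e) (hb : b ∈ TK e) (hne : a ≠ b)
    (hab : a * b = b * a) (Q : Subgroup (MulAut K))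
    (hQ : Q = (generalizedFittingSubgroup ↥(centralizer ({MulAut.conj (a * b)} : Set (MulAut K)))).map
      (centralizer ({MulAut.conj (a * b)} : Set (MulAut K))).subtype) :
    IsLargeExtraspecial Q ∧ Nat.card Q = 2 ^ 11 ∧ Q ≤ centralizer ({MulAut.conj (a * b)} : Set (MulAut K)) ∧
      ∃ (_ : (Q.subgroupOf (centralizer ({MulAut.conj (a * b)} : Set (MulAut K)))).Normal) (F : Type)
        (_ : Field F) (_ : Fintype F), Fintype.card F = 4 ∧
        Nonempty (↥(centralizer ({MulAut.conj (a * b)} : Set (MulAut K))) ⧸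
          Q.subgroupOf (centralizer ({MulAut.conj (a * b)} : Set (MulAut K))) ≃* MulAut (PSU 4 F 2)) := by
  obtain ⟨R, Ψ, hΨs, S, hF⟩ := exists_all e ha hb hne hab
  rw [hF] at hQ
  subst hQ
  refine ⟨S.large (outFix e), S.card, ?_, ?_⟩
  · rintro _ ⟨x, -, rfl⟩
    exact x.2
  · have hkeq : (Ψ.ker.map (centralizer ({MulAut.conj (a * b)} : Set (MulAut K))).subtype).subgroupOf
        (centralizer ({MulAut.conj (a * b)} : Set (MulAut K))) = Ψ.ker :=
      comap_map_eq_self_of_injective (subtype_injective _) _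
    have hn : ((Ψ.ker.map (centralizer ({MulAut.conj (a * b)} : Set (MulAut K))).subtype).subgroupOf
        (centralizer ({MulAut.conj (a * b)} : Set (MulAut K)))).Normal := by
      rw [hkeq]; infer_instance
    exact ⟨hn, F4, inferInstance, inferInstance, Cfsg.Agent.Fischer.Unit22.hF,
      ⟨(QuotientGroup.quotientMulEquivOfEq hkeq).trans (QuotientGroup.quotientKerEquivOfSurjective Ψ hΨs)⟩⟩

end Cfsg.Agent.H833.AutFinal
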