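import Mathlib

/-!
# Non-solvable subgroups from permutation actions (helper833)

* `not_solvable_of_comm`: `⟨p, q⟩` is not solvable if `p ≠ 1` and `q` are commutators of elements of `⟨p, q⟩`.
* `not_solvable_of_act`: automorphisms `α`, `β` permuting an injective family by `σ`, `τ`: if `⟨σ, τ⟩` is not solvable
  then `⟨α, β⟩` is not.
-/

set_option autoImplicit false

namespace Cfsg.Agent.H833.ActSolv

open Subgroup

theorem not_solvable_of_comm {X : Type*} [Group X] {p q : X} (hp : p ≠ 1)
    (h1 : ∃ u ∈ closure ({p, q} : Set X), ∃ v ∈ closure ({p, q} : Set X), u * v * u⁻¹ * v⁻¹ = p)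
    (h2 : ∃ u ∈ closure ({p, q} : Set X), ∃ v ∈ closure ({p, q} : Set X), u * v * u⁻¹ * v⁻¹ = q) :
    ¬ Group.IsSolvable ↥(closure ({p, q} : Set X)) := by
  intro hs
  set C := closure ({p, q} : Set X) with hC
  have hle : C ≤ ⁅C, C⁆ := by
    conv_lhs => rw [hC]
    rw [closure_le]
    rintro x (rfl | rfl)
    · obtain ⟨u, hu, v, hv, h⟩ := h1
      rw [← h]
      exact commutator_mem_commutator hu hv
    · obtain ⟨u, hu, v, hv, h⟩ := h2
      rw [← h]
      exact commutator_mem_commutator hu hv
  have hperf : Group.IsPerfect ↥C := Subgroup.isPerfect_iff.2 (le_antisymm (commutator_le_self C) hle)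
  have hnt : Nontrivial ↥C := (nontrivial_iff_ne_bot _).2 fun h => hp (by
    have : p ∈ C := subset_closure (by simp)
    rw [h] at this
    exact mem_bot.1 this)
  exact Group.IsPerfect.not_isSolvable ↥C hs

theorem not_solvable_of_act {K ι : Type*} [Group K] {f : ι → K} (hf : Function.Injective f) {α β : MulAut K}
    {σ τ : Equiv.Perm ι} (hα : ∀ i, α (f i) = f (σ i)) (hβ : ∀ i, β (f i) = f (τ i))
    (h : ¬ Group.IsSolvable ↥(closure ({σ, τ} : Set (Equiv.Perm ι)))) :
    ¬ Group.IsSolvable ↥(closure ({α, β} : Set (MulAut K))) := by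
  intro hs
  apply h
  let Δ : Subgroup (MulAut K × Equiv.Perm ι) := closure {(α, σ), (β, τ)}
  have hR : ∀ z ∈ Δ, ∀ i, z.1 (f i) = f (z.2 i) := by
    intro z hz
    induction hz using closure_induction with
    | mem z hz =>
      rcases hz with rfl | rfl
      · exact hα
      · exact hβ
    | one => intro i; rfl
    | mul x y _ _ hx hy =>
      intro i
      rw [Prod.fst_mul, Prod.snd_mul, MulAut.mul_apply, hy, hx]
      rfl
    | inv x _ hx =>
      intro i
      rw [Prod.fst_inv, Prod.snd_inv]
      have h1 := hx (x.2⁻¹ i)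
      have h2 : x.2 (x.2⁻¹ i) = i := x.2.apply_symm_apply i
      rw [h2] at h1
      rw [← h1]
      exact MulAut.inv_apply_self _ _ _
  have hfst : Δ.map (MonoidHom.fst (MulAut K) (Equiv.Perm ι)) = closure ({α, β} : Set (MulAut K)) := by
    rw [MonoidHom.map_closure, Set.image_pair]
    rfl
  have hsnd : Δ.map (MonoidHom.snd (MulAut K) (Equiv.Perm ι)) = closure ({σ, τ} : Set (Equiv.Perm ι)) := by
    rw [MonoidHom.map_closure, Set.image_pair]
    rfl
  have hΔ : Group.IsSolvable ↥Δ := by
    rw [← hfst] at hs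
    let g : ↥Δ →* ↥(Δ.map (MonoidHom.fst (MulAut K) (Equiv.Perm ι))) := (MonoidHom.fst _ _).subgroupMap Δ
    refine Group.isSolvable_of_isSolvable_injective (f := g) ?_
    rw [injective_iff_map_eq_one]
    intro z hz
    have h1 : (z : MulAut K × Equiv.Perm ι).1 = 1 := congrArg Subtype.val hz
    have h2 : (z : MulAut K × Equiv.Perm ι).2 = 1 := by
      ext i
      have h3 := hR z z.2 i
      rw [h1, MulAut.one_apply] at h3
      rw [← hf h3]
      rfl
    exact Subtype.ext (Prod.ext h1 h2)
  rw [← hsnd]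
  exact Group.isSolvable_of_surjective (f := (MonoidHom.snd (MulAut K) (Equiv.Perm ι)).subgroupMap Δ)
    ((MonoidHom.snd (MulAut K) (Equiv.Perm ι)).subgroupMap_surjective Δ)

/-- the same for elements of `K` -/
theorem not_solvable_of_conj {K ι : Type*} [Group K] {f : ι → K} (hf : Function.Injective f) {a b : K}
    {σ τ : Equiv.Perm ι} (hα : ∀ i, a * f i * a⁻¹ = f (σ i)) (hβ : ∀ i, b * f i * b⁻¹ = f (τ i))
    (h : ¬ Group.IsSolvable ↥(closure ({σ, τ} : Set (Equiv.Perm ι)))) :
    ¬ Group.IsSolvable ↥(closure ({a, b} : Set K)) := by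
  intro hs
  refine not_solvable_of_act hf (α := MulAut.conj a) (β := MulAut.conj b) hα hβ h ?_
  have h1 : (closure ({a, b} : Set K)).map (MulAut.conj : K →* MulAut K) = closure {MulAut.conj a, MulAut.conj b} := by
    rw [MonoidHom.map_closure, Set.image_pair]
  rw [← h1]
  exact Group.isSolvable_of_surjective (f := (MulAut.conj : K →* MulAut K).subgroupMap _)
    ((MulAut.conj : K →* MulAut K).subgroupMap_surjective _)

end Cfsg.Agent.H833.ActSolv
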