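import Cfsg.Agent.CoOneType.CoOneE
import Cfsg.Agent.CoOneType.InvMain
import Cfsg.Agent.SevenLow.MTwelve
import Cfsg.Agent.Schreier.MEleven

/-!
# The stabiliser in `M24` of a dodecad has no elementary abelian subgroup of order 16 (helper833)
-/

set_option autoImplicit false

namespace Cfsg.Agent.H833.DodRank

open Cfsg Cfsg.Spor
open Cfsg.Agent.SporadicA.Co0Mono Cfsg.Agent.SporadicA.Co1Simple Cfsg.Agent.CoOneType.SignFacts
open Cfsg.Agent.CoOneType.CoOneE Cfsg.Agent.CoOneType.InvMain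
open scoped Pointwise

section rank

variable {G : Type*} [Group G]

/-- `x` or `1` -/
def pk (x : G) (p : Bool) : G := cond p x 1

theorem pk_mul {x : G} (hx : x * x = 1) (p q : Bool) : pk x p * pk x q = pk x (xor p q) := by
  cases p <;> cases q <;> simp [pk, hx]

theorem pk_comm {x y : G} (h : x * y = y * x) (p q : Bool) : pk x p * pk y q = pk y q * pk x p := by
  cases p <;> cases q <;> simp [pk, h]

/-- the product of four -/
def F4 (x : Fin 4 → G) (p : Bool × Bool × Bool × Bool) : G :=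
  pk (x 0) p.1 * pk (x 1) p.2.1 * pk (x 2) p.2.2.1 * pk (x 3) p.2.2.2

theorem F4_mul {x : Fin 4 → G} (hx : ∀ i, x i * x i = 1) (hc : ∀ i j, x i * x j = x j * x i)
    (p q : Bool × Bool × Bool × Bool) :
    F4 x p * F4 x q = F4 x (xor p.1 q.1, xor p.2.1 q.2.1, xor p.2.2.1 q.2.2.1, xor p.2.2.2 q.2.2.2) := by
  unfold F4
  have h1 := pk_comm (hc 3 0) p.2.2.2 q.1
  have h2 := pk_comm (hc 2 0) p.2.2.1 q.1
  have h3 := pk_comm (hc 1 0) p.2.1 q.1
  have h4 := pk_comm (hc 3 1) p.2.2.2 q.2.1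
  have h5 := pk_comm (hc 2 1) p.2.2.1 q.2.1
  have h6 := pk_comm (hc 3 2) p.2.2.2 q.2.2.1
  simp only
  rw [← pk_mul (hx 0), ← pk_mul (hx 1), ← pk_mul (hx 2), ← pk_mul (hx 3)]
  simp only [mul_assoc]
  congr 1
  calc _ = pk (x 1) p.2.1 * (pk (x 2) p.2.2.1 * ((pk (x 3) p.2.2.2 * pk (x 0) q.1) * (pk (x 1) q.2.1 *
        (pk (x 2) q.2.2.1 * pk (x 3) q.2.2.2)))) := by simp only [mul_assoc]
    _ = pk (x 1) p.2.1 * ((pk (x 2) p.2.2.1 * pk (x 0) q.1) * (pk (x 3) p.2.2.2 * (pk (x 1) q.2.1 *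
        (pk (x 2) q.2.2.1 * pk (x 3) q.2.2.2)))) := by rw [h1]; simp only [mul_assoc]
    _ = (pk (x 1) p.2.1 * pk (x 0) q.1) * (pk (x 2) p.2.2.1 * (pk (x 3) p.2.2.2 * (pk (x 1) q.2.1 *
        (pk (x 2) q.2.2.1 * pk (x 3) q.2.2.2)))) := by rw [h2]; simp only [mul_assoc]
    _ = pk (x 0) q.1 * (pk (x 1) p.2.1 * (pk (x 2) p.2.2.1 * ((pk (x 3) p.2.2.2 * pk (x 1) q.2.1) *
        (pk (x 2) q.2.2.1 * pk (x 3) q.2.2.2)))) := by rw [h3]; simp only [mul_assoc]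
    _ = pk (x 0) q.1 * (pk (x 1) p.2.1 * ((pk (x 2) p.2.2.1 * pk (x 1) q.2.1) * (pk (x 3) p.2.2.2 *
        (pk (x 2) q.2.2.1 * pk (x 3) q.2.2.2)))) := by rw [h4]; simp only [mul_assoc]
    _ = pk (x 0) q.1 * (pk (x 1) p.2.1 * (pk (x 1) q.2.1 * (pk (x 2) p.2.2.1 * ((pk (x 3) p.2.2.2 *
        pk (x 2) q.2.2.1) * pk (x 3) q.2.2.2)))) := by rw [h5]; simp only [mul_assoc]
    _ = _ := by rw [h6]; simp only [mul_assoc]

theorem four_false [Finite G] (h : PRankLE 2 3 G) (x : Fin 4 → G) (hx : ∀ i, x i * x i = 1)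
    (hc : ∀ i j, x i * x j = x j * x i) (hne : ∀ p, F4 x p = 1 → p = (false, false, false, false)) : False := by
  have h1 : ∀ p, F4 x p * F4 x p = 1 := by
    intro p
    rw [F4_mul hx hc]
    simp [F4, pk]
  let A : Subgroup G :=
    { carrier := Set.range (F4 x)
      one_mem' := ⟨(false, false, false, false), by simp [F4, pk]⟩
      mul_mem' := by
        rintro _ _ ⟨p, rfl⟩ ⟨q, rfl⟩
        exact ⟨_, (F4_mul hx hc p q).symm⟩
      inv_mem' := by
        rintro _ ⟨p, rfl⟩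
        exact ⟨p, (inv_eq_of_mul_eq_one_left (h1 p)).symm⟩ }
  have hinj : Function.Injective (F4 x) := by
    intro p q hpq
    have h2 := hne _ (by rw [← F4_mul hx hc p q, hpq, h1 q] : F4 x _ = 1)
    simp only [Prod.mk.injEq] at h2
    have h3 : ∀ a b : Bool, xor a b = false → a = b := by decide
    exact Prod.ext (h3 _ _ h2.1) (Prod.ext (h3 _ _ h2.2.1) (Prod.ext (h3 _ _ h2.2.2.1) (h3 _ _ h2.2.2.2)))
  have hA : Nat.card A = 16 := by
    have h3 : Nat.card A = Nat.card (Set.range (F4 x)) := rfl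
    rw [h3, Nat.card_range_of_injective hinj]
    simp
  have h4 : IsMulCommutative A := by
    refine ⟨⟨?_⟩⟩
    rintro ⟨_, p, rfl⟩ ⟨_, q, rfl⟩
    apply Subtype.ext
    show F4 x p * F4 x q = F4 x q * F4 x p
    rw [F4_mul hx hc, F4_mul hx hc]
    simp only [Bool.xor_comm]
  have h5 := h A h4 (by
    rintro _ ⟨p, rfl⟩
    rw [pow_two]
    exact h1 p)
  rw [hA] at h5
  norm_num at h5

end rank

/-- **No elementary abelian subgroup of order 16 in the stabiliser of a dodecad.** -/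
theorem m24_false (c : golayCode) (hc : wt c = 12) (x : Fin 4 → M24) (hx : ∀ i, x i * x i = 1)
    (hcm : ∀ i j, x i * x j = x j * x i) (hfix : ∀ i, wordPerm (x i) c = c)
    (hne : ∀ p, F4 x p = 1 → p = (false, false, false, false)) : False := by
  obtain ⟨τ, hτ⟩ := Cfsg.Agent.S0368.result _ _ ((sup_mem_dodecads c).2 hc) Schreier.MEleven.squareDodecad_mem
  have hst : ∀ y : M24, wordPerm y c = c → ((τ * y * τ⁻¹ : M24) : Equiv.Perm GolayPt) ∈ Spor.M12 := by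
    intro y hy
    have h1 : y • sup c = sup c := by rw [← sup_wordPerm, hy]
    have h2 : (τ * y * τ⁻¹ : M24) • squareDodecad = squareDodecad := by
      rw [← hτ, mul_smul, mul_smul, inv_smul_smul, h1]
    exact ⟨(τ * y * τ⁻¹ : M24).2, h2⟩
  have hfin : Finite ↥Spor.M12 := Nat.finite_of_card_ne_zero (by
    rw [MTwelveType.SylowModel.card_M12]; norm_num)
  let w : Fin 4 → Spor.M12 := fun i => ⟨_, hst (x i) (hfix i)⟩
  have hwF : ∀ p, ((F4 w p : Spor.M12) : Equiv.Perm GolayPt) = ((τ * F4 x p * τ⁻¹ : M24) : Equiv.Perm GolayPt) := by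
    intro p
    have hpk : ∀ i b, ((pk (w i) b : Spor.M12) : Equiv.Perm GolayPt) = ((τ * pk (x i) b * τ⁻¹ : M24) : Equiv.Perm GolayPt) := by
      intro i b
      cases b
      · simp [pk]
      · rfl
    have e : τ * F4 x p * τ⁻¹ = (τ * pk (x 0) p.1 * τ⁻¹) * (τ * pk (x 1) p.2.1 * τ⁻¹) *
        (τ * pk (x 2) p.2.2.1 * τ⁻¹) * (τ * pk (x 3) p.2.2.2 * τ⁻¹) := by
      unfold F4
      group
    rw [e]
    show ((pk (w 0) p.1 * pk (w 1) p.2.1 * pk (w 2) p.2.2.1 * pk (w 3) p.2.2.2 : Spor.M12) : Equiv.Perm GolayPt) = _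
    rw [Subgroup.coe_mul, Subgroup.coe_mul, Subgroup.coe_mul, Subgroup.coe_mul, Subgroup.coe_mul, Subgroup.coe_mul,
      hpk, hpk, hpk, hpk]
  refine four_false (SevenLow.MTwelve.low ⟨MulEquiv.refl _⟩) w (fun i => ?_) (fun i j => ?_) (fun p hp => ?_)
  · apply Subtype.ext
    show ((τ * x i * τ⁻¹ : M24) : Equiv.Perm GolayPt) * ((τ * x i * τ⁻¹ : M24) : Equiv.Perm GolayPt) = 1
    rw [← Subgroup.coe_mul, show (τ * x i * τ⁻¹) * (τ * x i * τ⁻¹) = τ * (x i * x i) * τ⁻¹ by group, hx, mul_one,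
      mul_inv_cancel]
    rfl
  · apply Subtype.ext
    show ((τ * x i * τ⁻¹ : M24) : Equiv.Perm GolayPt) * ((τ * x j * τ⁻¹ : M24) : Equiv.Perm GolayPt) =
      ((τ * x j * τ⁻¹ : M24) : Equiv.Perm GolayPt) * ((τ * x i * τ⁻¹ : M24) : Equiv.Perm GolayPt)
    rw [← Subgroup.coe_mul, ← Subgroup.coe_mul, show (τ * x i * τ⁻¹) * (τ * x j * τ⁻¹) = τ * (x i * x j) * τ⁻¹ by group,
      hcm, show (τ * x j * τ⁻¹) * (τ * x i * τ⁻¹) = τ * (x j * x i) * τ⁻¹ by group]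
  · apply hne
    have h1 := hwF p
    rw [hp] at h1
    have h2 : (τ * F4 x p * τ⁻¹ : M24) = 1 := Subtype.ext h1.symm
    rwa [mul_inv_eq_one, mul_eq_left] at h2

end Cfsg.Agent.H833.DodRank
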