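import Cfsg.Agent.H820.Par.Base
import Cfsg.Agent.H833.DodRank

/-!
# S2198: the case E4 (helper833)

`eFour : EFourStmt`.
-/

set_option autoImplicit false

namespace Cfsg.Agent.H833.EFour

open Cfsg Cfsg.Spor
open Cfsg.Agent.SporadicA.Co0Mono Cfsg.Agent.SporadicA.Co1Simple Cfsg.Agent.CoOneType.SignFacts
open Cfsg.Agent.CoOneType.CoOneE Cfsg.Agent.CoOneType.InvMain
open Cfsg.Agent.H833.DodRank (F4 pk m24_false)

/-! ### The permutation part of a monomial element of `Co₁` -/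

/-- `x = ± (sign change) * σ` -/
def R (x : Co1) (σ : M24) : Prop := ∃ a : golayCode, x = pr (signCo0 a * permCo0 σ)

theorem R_mul {x y : Co1} {σ τ : M24} (h : R x σ) (h' : R y τ) : R (x * y) (σ * τ) := by
  obtain ⟨a, rfl⟩ := h
  obtain ⟨b, rfl⟩ := h'
  exact ⟨a + wordPerm σ b, by rw [← map_mul, sp_mul]⟩

theorem R_one : R 1 1 := ⟨0, by rw [signCo0_zero, map_one, mul_one, map_one]⟩

theorem R_uniq {x : Co1} {σ τ : M24} (h : R x σ) (h' : R x τ) : σ = τ := by
  obtain ⟨a, rfl⟩ := h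
  obtain ⟨b, hb⟩ := h'
  rcases (pr_eq_iff _ _).1 hb with h | h
  · exact (sp_inj h).2.symm
  · have h1 : signCo0 b * permCo0 τ = signCo0 (a + allOne) * permCo0 σ := by
      rw [h, mul_assoc, perm_mul_sign, wordPerm_allOne, ← mul_assoc, ← signCo0_add]
    exact (sp_inj h1).2.symm

/-- the image of the monomial group -/
abbrev NN : Subgroup Co1 := N.map pr

theorem exists_R {x : Co1} (hx : x ∈ NN) : ∃ σ, R x σ := by
  obtain ⟨g, hg, rfl⟩ := hx
  obtain ⟨c, σ, rfl⟩ := exists_sign_perm hg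
  exact ⟨σ, c, rfl⟩

open Classical in
/-- the permutation part -/
noncomputable def th (x : Co1) : M24 := if h : ∃ σ, R x σ then h.choose else 1

theorem th_R {x : Co1} (hx : x ∈ NN) : R x (th x) := by
  have h := exists_R hx
  rw [th, dif_pos h]
  exact h.choose_spec

theorem th_mul {x y : Co1} (hx : x ∈ NN) (hy : y ∈ NN) : th (x * y) = th x * th y :=
  R_uniq (th_R (NN.mul_mem hx hy)) (R_mul (th_R hx) (th_R hy))

theorem th_one : th 1 = 1 := R_uniq (th_R NN.one_mem) R_one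

theorem th_sign (a : golayCode) : R (pr (signCo0 a)) 1 := ⟨a, by rw [map_one, mul_one]⟩

theorem sign_of_th {x : Co1} (hx : x ∈ NN) (h : th x = 1) : ∃ a : golayCode, x = pr (signCo0 a) := by
  obtain ⟨a, ha⟩ := th_R hx
  rw [h, map_one, mul_one] at ha
  exact ⟨a, ha⟩

/-- monomial elements normalise the sign changes -/
theorem conj_sign {x : Co1} (hx : x ∈ NN) (a : golayCode) :
    x * pr (signCo0 a) * x⁻¹ = pr (signCo0 (wordPerm (th x) a)) := by
  obtain ⟨b, hb⟩ := th_R hx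
  have h1 : signCo0 b * permCo0 (th x) * signCo0 a * (signCo0 b * permCo0 (th x))⁻¹ = signCo0 (wordPerm (th x) a) := by
    calc signCo0 b * permCo0 (th x) * signCo0 a * (signCo0 b * permCo0 (th x))⁻¹
        = signCo0 b * (permCo0 (th x) * signCo0 a * (permCo0 (th x))⁻¹) * (signCo0 b)⁻¹ := by group
      _ = signCo0 b * signCo0 (wordPerm (th x) a) * (signCo0 b)⁻¹ := by rw [perm_mul_sign_mul_inv]
      _ = signCo0 (wordPerm (th x) a) := by
          rw [← signCo0_add, add_comm, signCo0_add, mul_inv_cancel_right]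
  rw [← h1, map_mul, map_mul, map_inv]
  conv_lhs => rw [hb]

theorem th_F4 {X : Fin 4 → Co1} (hX : ∀ i, X i ∈ NN) (p : Bool × Bool × Bool × Bool) :
    F4 (fun i => th (X i)) p = th (F4 X p) ∧ F4 X p ∈ NN := by
  have h1 : ∀ i b, pk (th (X i)) b = th (pk (X i) b) := by
    intro i b
    cases b
    · exact th_one.symm
    · rfl
  have h2 : ∀ i b, pk (X i) b ∈ NN := by
    intro i b
    cases b
    · exact NN.one_mem
    · exact hX i
  have m1 := h2 0 p.1
  have m2 := h2 1 p.2.1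
  have m3 := h2 2 p.2.2.1
  have m4 := h2 3 p.2.2.2
  refine ⟨?_, NN.mul_mem (NN.mul_mem (NN.mul_mem m1 m2) m3) m4⟩
  unfold F4
  rw [th_mul (NN.mul_mem (NN.mul_mem m1 m2) m3) m4, th_mul (NN.mul_mem m1 m2) m3, th_mul m1 m2, h1, h1, h1, h1]

/-! ### Elements preserving a dodecad up to complement -/

/-- `0` or the all-one word -/
def al (b : Bool) : golayCode := cond b allOne 0

theorem allOne_ne_zero : allOne ≠ 0 := fun h => allOne_ne (by rw [h, signCo0_zero])

theorem al_add (a b : Bool) : al a + al b = al (xor a b) := by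
  cases a <;> cases b
  · exact add_zero _
  · exact zero_add _
  · exact add_zero _
  · exact allOne_add_self

theorem wordPerm_al (g : M24) (b : Bool) : wordPerm g (al b) = al b := by
  cases b <;> rfl

theorem al_mul {c : golayCode} {g h : M24} {a b : Bool} (hg : wordPerm g c = c + al a)
    (hh : wordPerm h c = c + al b) : wordPerm (g * h) c = c + al (xor a b) := by
  rw [wordPerm_mul, hh, wordPerm_add, hg, wordPerm_al, add_assoc, al_add]

theorem al_inv {c : golayCode} {g : M24} {a : Bool} (hg : wordPerm g c = c + al a) :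
    wordPerm g⁻¹ c = c + al a := by
  have h1 : wordPerm g⁻¹ (wordPerm g c) = wordPerm g⁻¹ c + al a := by
    rw [hg, wordPerm_add, wordPerm_al]
  rw [← wordPerm_mul, inv_mul_cancel, wordPerm_one] at h1
  conv_rhs => rw [h1]
  rw [add_assoc, al_add, Bool.xor_self]
  exact (add_zero _).symm

theorem exists_al {c : golayCode} {g : M24} (h : wordPerm g c = c ∨ wordPerm g c = c + allOne) :
    ∃ a, wordPerm g c = c + al a := by
  rcases h with h | h
  · exact ⟨false, by rw [h]; exact (add_zero _).symm⟩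
  · exact ⟨true, h⟩

/-! ### The core -/

/-- `(01)(23)` -/
def t1 : alternatingGroup (Fin 5) := ⟨Equiv.swap 0 1 * Equiv.swap 2 3, by
  rw [Equiv.Perm.mem_alternatingGroup]; decide⟩

/-- `(02)(13)` -/
def t2 : alternatingGroup (Fin 5) := ⟨Equiv.swap 0 2 * Equiv.swap 1 3, by
  rw [Equiv.Perm.mem_alternatingGroup]; decide⟩

/-- `(012)` -/
def dd : alternatingGroup (Fin 5) := ⟨Equiv.swap 0 1 * Equiv.swap 1 2, by
  rw [Equiv.Perm.mem_alternatingGroup]; decide⟩

theorem core (f : Fin 5 → Fin 5 → Co1) (κ : alternatingGroup (Fin 5) →* Co1) (c : golayCode) (hc : wt c = 12)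
    (F1 : ∀ i j l, f i j * f j l = f i l) (F2 : ∀ i j, f i j * f i j = 1)
    (F4' : ∀ (σ : alternatingGroup (Fin 5)) i j,
      κ σ * f i j * (κ σ)⁻¹ = f ((σ : Equiv.Perm (Fin 5)) i) ((σ : Equiv.Perm (Fin 5)) j))
    (F5 : f 0 1 * f 2 3 = pr (signCo0 c)) (F6 : ∀ i j, i ≠ j → ∀ a : golayCode, f i j ≠ pr (signCo0 a)) : False := by
  have fii : ∀ i, f i i = 1 := fun i => mul_eq_left.1 (F1 i i i)
  have fsym : ∀ i j, f j i = f i j := by
    intro i j
    have h1 : f i j * f j i = 1 := by rw [F1, fii]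
    exact mul_left_cancel (h1.trans (F2 i j).symm)
  have finv : ∀ i j, (f i j)⁻¹ = f i j := fun i j => inv_eq_of_mul_eq_one_left (F2 i j)
  have hg : ∀ i j, f 0 i * f 0 j = f 0 j * f 0 i := by
    intro i j
    calc f 0 i * f 0 j = f i 0 * f 0 j := by rw [fsym 0 i]
      _ = f i j := F1 _ _ _
      _ = f j i := fsym _ _
      _ = f j 0 * f 0 i := (F1 _ _ _).symm
      _ = f 0 j * f 0 i := by rw [fsym 0 j]
  have hfg : ∀ i j, f i j = f 0 i * f 0 j := by
    intro i j
    rw [← fsym 0 i, F1]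
  have F3 : ∀ i j l m, f i j * f l m = f l m * f i j := by
    intro i j l m
    have h1 : ∀ a b c : Fin 5, Commute (f 0 a * f 0 b) (f 0 c) := fun a b c =>
      (show Commute (f 0 a) (f 0 c) from hg a c).mul_left (hg b c)
    rw [hfg i j, hfg l m]
    exact (h1 i j l).mul_right (h1 i j m)
  set u : Co1 := pr (signCo0 c) with hu
  have memNN : ∀ x : Co1, x * u = u * x → x ∈ NN := fun x hx =>
    centralizer_dodecad_le c hc (Subgroup.mem_centralizer_singleton_iff.2 hx)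
  have hfu : ∀ i j, f i j * u = u * f i j := by
    intro i j
    rw [← F5, ← mul_assoc, F3 i j 0 1, mul_assoc, F3 i j 2 3, mul_assoc]
  have hfN : ∀ i j, f i j ∈ NN := fun i j => memNN _ (hfu i j)
  have h0213 : f 0 2 * f 1 3 = f 0 1 * f 2 3 := by
    rw [← F1 0 1 2, ← F1 1 2 3, mul_assoc, ← mul_assoc (f 1 2), F2, one_mul]
  have h1203 : f 1 2 * f 0 3 = f 0 1 * f 2 3 := by
    rw [← F1 0 2 3, ← mul_assoc, ← fsym 0 2, F1 1 2 0, fsym 0 1]
  have hκ : ∀ σ : alternatingGroup (Fin 5), f ((σ : Equiv.Perm (Fin 5)) 0) ((σ : Equiv.Perm (Fin 5)) 1) *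
      f ((σ : Equiv.Perm (Fin 5)) 2) ((σ : Equiv.Perm (Fin 5)) 3) = f 0 1 * f 2 3 → κ σ * u = u * κ σ := by
    intro σ hσ
    have h1 : κ σ * (f 0 1 * f 2 3) * (κ σ)⁻¹ = f 0 1 * f 2 3 := by
      calc κ σ * (f 0 1 * f 2 3) * (κ σ)⁻¹ = (κ σ * f 0 1 * (κ σ)⁻¹) * (κ σ * f 2 3 * (κ σ)⁻¹) := by group
        _ = _ := by rw [F4', F4', hσ]
    rw [F5] at h1
    exact mul_inv_eq_iff_eq_mul.1 h1
  have k1 : κ t1 * u = u * κ t1 := by
    apply hκ
    show f 1 0 * f 3 2 = _
    rw [fsym 0 1, fsym 2 3]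
  have k2 : κ t2 * u = u * κ t2 := by
    apply hκ
    show f 2 3 * f 0 1 = _
    exact F3 _ _ _ _
  have kd : κ dd * u = u * κ dd := by
    apply hκ
    show f 1 2 * f 0 3 = _
    exact h1203
  -- the four elements
  let X : Fin 4 → Co1 := ![f 0 1, f 0 2, κ t1, κ t2]
  have hXu : ∀ i, X i * u = u * X i := by
    intro i
    fin_cases i
    · exact hfu 0 1
    · exact hfu 0 2
    · exact k1
    · exact k2
  have hX : ∀ i, X i ∈ NN := fun i => memNN _ (hXu i)
  -- the sign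
  have hsg : ∀ x : Co1, x * u = u * x → wordPerm (th x) c = c ∨ wordPerm (th x) c = c + allOne := by
    intro x hx
    have h1 := conj_sign (memNN x hx) c
    rw [← hu, hx, mul_inv_cancel_right] at h1
    exact (pr_sign_eq_iff c _).1 h1
  -- an element with `x (d x d⁻¹) (d² x d⁻²) = 1`
  have hinv : ∀ y ∈ NN, th y⁻¹ = (th y)⁻¹ := by
    intro y hy
    rw [eq_inv_iff_mul_eq_one, ← th_mul (NN.inv_mem hy) hy, inv_mul_cancel, th_one]
  have hfix : ∀ x : Co1, x * u = u * x → x * (κ dd * x * (κ dd)⁻¹) * (κ (dd * dd) * x * (κ (dd * dd))⁻¹) = 1 →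
      wordPerm (th x) c = c := by
    intro x hx h1
    have kd2 : κ (dd * dd) * u = u * κ (dd * dd) := by
      rw [map_mul, mul_assoc, kd, ← mul_assoc, kd, mul_assoc]
    have hxN := memNN x hx
    obtain ⟨a, ha⟩ := exists_al (hsg x hx)
    have key : ∀ y : Co1, y * u = u * y → y * x * y⁻¹ ∈ NN ∧ wordPerm (th (y * x * y⁻¹)) c = c + al a := by
      intro y hy
      have hyN := memNN y hy
      obtain ⟨b, hb⟩ := exists_al (hsg y hy)
      refine ⟨NN.mul_mem (NN.mul_mem hyN hxN) (NN.inv_mem hyN), ?_⟩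
      rw [th_mul (NN.mul_mem hyN hxN) (NN.inv_mem hyN), th_mul hyN hxN, hinv y hyN,
        al_mul (al_mul hb ha) (al_inv hb)]
      congr 2
      cases a <;> cases b <;> rfl
    obtain ⟨m1, e1⟩ := key _ kd
    obtain ⟨m2, e2⟩ := key _ kd2
    have h2 : wordPerm (th (x * (κ dd * x * (κ dd)⁻¹) * (κ (dd * dd) * x * (κ (dd * dd))⁻¹))) c =
        c + al (xor (xor a a) a) := by
      rw [th_mul (NN.mul_mem hxN m1) m2, th_mul hxN m1]
      exact al_mul (al_mul ha e1) e2
    rw [h1, th_one, wordPerm_one] at h2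
    have h3 : al (xor (xor a a) a) = 0 := left_eq_add.1 h2
    rw [ha]
    cases a
    · exact add_zero c
    · exact absurd h3 allOne_ne_zero
  have hfX : ∀ i, wordPerm (th (X i)) c = c := by
    intro i
    apply hfix _ (hXu i)
    fin_cases i
    · show f 0 1 * (κ dd * f 0 1 * (κ dd)⁻¹) * (κ (dd * dd) * f 0 1 * (κ (dd * dd))⁻¹) = 1
      rw [F4', F4']
      show f 0 1 * f 1 2 * f 2 0 = 1
      rw [F1, F1, fii]
    · show f 0 2 * (κ dd * f 0 2 * (κ dd)⁻¹) * (κ (dd * dd) * f 0 2 * (κ (dd * dd))⁻¹) = 1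
      rw [F4', F4']
      show f 0 2 * f 1 0 * f 2 1 = 1
      rw [F3 0 2 1 0, F1, F1, fii]
    · show κ t1 * (κ dd * κ t1 * (κ dd)⁻¹) * (κ (dd * dd) * κ t1 * (κ (dd * dd))⁻¹) = 1
      simp only [← map_mul, ← map_inv]
      rw [show t1 * (dd * t1 * dd⁻¹) * (dd * dd * t1 * (dd * dd)⁻¹) = 1 from by decide, map_one]
    · show κ t2 * (κ dd * κ t2 * (κ dd)⁻¹) * (κ (dd * dd) * κ t2 * (κ (dd * dd))⁻¹) = 1
      simp only [← map_mul, ← map_inv]
      rw [show t2 * (dd * t2 * dd⁻¹) * (dd * dd * t2 * (dd * dd)⁻¹) = 1 from by decide, map_one]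
  -- relations modulo the sign changes
  have hth : ∀ {x y : Co1}, x ∈ NN → y ∈ NN → x * y = pr (signCo0 c) → th x * th y = 1 := by
    intro x y hx hy hxy
    rw [← th_mul hx hy, hxy]
    exact R_uniq (th_R (by rw [← hxy]; exact NN.mul_mem hx hy)) (th_sign c)
  have ht1 : t1 * t1 = 1 := by decide
  have ht2 : t2 * t2 = 1 := by decide
  have ht12 : t1 * t2 = t2 * t1 := by decide
  have hsq : ∀ i, th (X i) * th (X i) = 1 := by
    intro i
    rw [← th_mul (hX i) (hX i)]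
    have : X i * X i = 1 := by
      fin_cases i
      · exact F2 0 1
      · exact F2 0 2
      · show κ t1 * κ t1 = 1
        rw [← map_mul, ht1, map_one]
      · show κ t2 * κ t2 = 1
        rw [← map_mul, ht2, map_one]
    rw [this, th_one]
  have e23 : th (f 2 3) = th (f 0 1) := by
    have h1 := hth (hfN 0 1) (hfN 2 3) F5
    have h2 : th (f 0 1) * th (f 0 1) = 1 := hsq 0
    exact mul_left_cancel (h1.trans h2.symm)
  have e13 : th (f 1 3) = th (f 0 2) := by
    have h1 := hth (hfN 0 2) (hfN 1 3) (h0213.trans F5)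
    have h2 : th (f 0 2) * th (f 0 2) = 1 := hsq 1
    exact mul_left_cancel (h1.trans h2.symm)
  have hcm : ∀ {x y z : Co1}, x ∈ NN → y ∈ NN → z ∈ NN → x * y * x⁻¹ = z → th z = th y → th x * th y = th y * th x := by
    intro x y z hx hy hz h1 h2
    rw [← th_mul hx hy, mul_inv_eq_iff_eq_mul.1 h1, th_mul hz hx, h2]
  have c20 : κ t1 * f 0 1 * (κ t1)⁻¹ = f 1 0 := F4' t1 0 1
  have c21 : κ t1 * f 0 2 * (κ t1)⁻¹ = f 1 3 := F4' t1 0 2
  have c30 : κ t2 * f 0 1 * (κ t2)⁻¹ = f 2 3 := F4' t2 0 1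
  have c31 : κ t2 * f 0 2 * (κ t2)⁻¹ = f 2 0 := F4' t2 0 2
  have d20 : th (κ t1) * th (f 0 1) = th (f 0 1) * th (κ t1) :=
    hcm (hX 2) (hX 0) (hfN 1 0) c20 (by rw [fsym 0 1])
  have d21 : th (κ t1) * th (f 0 2) = th (f 0 2) * th (κ t1) := hcm (hX 2) (hX 1) (hfN 1 3) c21 e13
  have d30 : th (κ t2) * th (f 0 1) = th (f 0 1) * th (κ t2) := hcm (hX 3) (hX 0) (hfN 2 3) c30 e23
  have d31 : th (κ t2) * th (f 0 2) = th (f 0 2) * th (κ t2) :=
    hcm (hX 3) (hX 1) (hfN 2 0) c31 (by rw [fsym 0 2])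
  have d01 : th (f 0 1) * th (f 0 2) = th (f 0 2) * th (f 0 1) := by
    rw [← th_mul (hfN 0 1) (hfN 0 2), F3, th_mul (hfN 0 2) (hfN 0 1)]
  have d23 : th (κ t1) * th (κ t2) = th (κ t2) * th (κ t1) := by
    rw [← th_mul (memNN _ k1) (memNN _ k2), ← th_mul (memNN _ k2) (memNN _ k1), ← map_mul, ht12, map_mul]
  have hcomm : ∀ i j, th (X i) * th (X j) = th (X j) * th (X i) := by
    intro i j
    fin_cases i <;> fin_cases j
    · rfl
    · exact d01
    · exact d20.symm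
    · exact d30.symm
    · exact d01.symm
    · rfl
    · exact d21.symm
    · exact d31.symm
    · exact d20
    · exact d21
    · rfl
    · exact d23
    · exact d30
    · exact d31
    · exact d23.symm
    · rfl
  refine m24_false c hc (fun i => th (X i)) hsq hcomm hfX ?_
  intro p hp
  obtain ⟨h1, h2⟩ := th_F4 hX p
  rw [h1] at hp
  obtain ⟨a, ha⟩ := sign_of_th h2 hp
  -- the case of an element moving the index 0
  have key : ∀ (w : Co1) (v : alternatingGroup (Fin 5)) (j : Fin 5), (∀ i l, w * f i l = f i l * w) →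
      (v : Equiv.Perm (Fin 5)) 0 = j → (v : Equiv.Perm (Fin 5)) 4 = 4 → j ≠ 0 → w * κ v = pr (signCo0 a) → False := by
    intro w v j hw h0 h4 hj hwv
    have e1 := conj_sign (hfN 0 4) a
    rw [← hwv] at e1
    have e2 : κ v * f 0 4 * (κ v)⁻¹ = f j 4 := by rw [F4', h0, h4]
    have e3 : f 0 4 * (w * κ v) * (f 0 4)⁻¹ * (w * κ v)⁻¹ = f 0 j := by
      calc f 0 4 * (w * κ v) * (f 0 4)⁻¹ * (w * κ v)⁻¹ = f 0 4 * (w * (κ v * f 0 4 * (κ v)⁻¹)⁻¹ * w⁻¹) := by group
        _ = f 0 4 * (w * f j 4 * w⁻¹) := by rw [e2, finv]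
        _ = f 0 4 * f 4 j := by rw [hw, mul_inv_cancel_right, fsym j 4]
        _ = f 0 j := F1 _ _ _
    rw [e1, hwv, ← map_inv, signCo0_inv, ← map_mul, ← signCo0_add] at e3
    exact F6 0 j hj.symm _ e3.symm
  have hwc : ∀ (b b' : Bool) (i l : Fin 5), (pk (f 0 1) b * pk (f 0 2) b') * f i l =
      f i l * (pk (f 0 1) b * pk (f 0 2) b') := by
    intro b b' i l
    have q1 : Commute (pk (f 0 1) b) (f i l) := by
      cases b
      · exact Commute.one_left _
      · exact F3 _ _ _ _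
    have q2 : Commute (pk (f 0 2) b') (f i l) := by
      cases b'
      · exact Commute.one_left _
      · exact F3 _ _ _ _
    exact q1.mul_left q2
  obtain ⟨p1, p2, p3, p4⟩ := p
  have hF : F4 X (p1, p2, p3, p4) = pk (f 0 1) p1 * pk (f 0 2) p2 * pk (κ t1) p3 * pk (κ t2) p4 := rfl
  rw [hF] at ha
  cases p3 <;> cases p4
  · have ha' : pk (f 0 1) p1 * pk (f 0 2) p2 = pr (signCo0 a) := by
      have : pk (f 0 1) p1 * pk (f 0 2) p2 * pk (κ t1) false * pk (κ t2) false =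
          pk (f 0 1) p1 * pk (f 0 2) p2 := by simp [pk]
      rw [← this]
      exact ha
    cases p1 <;> cases p2
    · rfl
    · exfalso
      refine F6 0 2 (by decide) a ?_
      rw [← ha']
      exact (one_mul _).symm
    · exfalso
      refine F6 0 1 (by decide) a ?_
      rw [← ha']
      exact (mul_one _).symm
    · exfalso
      refine F6 1 2 (by decide) a ?_
      rw [← ha']
      show f 1 2 = f 0 1 * f 0 2
      rw [← fsym 0 1, F1]
  · exfalso
    refine key (pk (f 0 1) p1 * pk (f 0 2) p2) t2 2 (hwc _ _) (by decide) (by decide) (by decide) ?_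
    rw [← ha]
    show pk (f 0 1) p1 * pk (f 0 2) p2 * κ t2 = pk (f 0 1) p1 * pk (f 0 2) p2 * 1 * κ t2
    rw [mul_one]
  · exfalso
    refine key (pk (f 0 1) p1 * pk (f 0 2) p2) t1 1 (hwc _ _) (by decide) (by decide) (by decide) ?_
    rw [← ha]
    show pk (f 0 1) p1 * pk (f 0 2) p2 * κ t1 = pk (f 0 1) p1 * pk (f 0 2) p2 * κ t1 * 1
    rw [mul_one]
  · exfalso
    refine key (pk (f 0 1) p1 * pk (f 0 2) p2) (t1 * t2) 3 (hwc _ _) (by decide) (by decide) (by decide) ?_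
    rw [← ha, map_mul, ← mul_assoc]
    rfl

/-- **E4.** -/
theorem eFour : Cfsg.Agent.H820.Par.EFourStmt := by
  intro C h1 h2
  obtain ⟨g0, hg0⟩ := Cfsg.Agent.CoOneType.ClosingFacts.exists_mk (Cfsg.Agent.BpSpor.MBigModel.pi (C.cu 4))
  obtain ⟨h, c, hc, hh⟩ := h2 4 g0 hg0
  have hwt : wt c = 12 := (sup_mem_dodecads c).1 hc
  have hmk : ∀ g : Co0, Cfsg.Agent.CoOneType.ClosingFacts.mk g = pr g := fun _ => rfl
  let P : Cfsg.Agent.H820.Par.CZ →* Co1 := (MulAut.conj (pr h)).toMonoidHom.comp Cfsg.Agent.BpSpor.MBigModel.pi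
  have hP : ∀ x, P x = pr h * Cfsg.Agent.BpSpor.MBigModel.pi x * (pr h)⁻¹ := fun _ => rfl
  have hPz : ∀ x : Cfsg.Agent.H820.Par.CZ, (x : Cfsg.Agent.BpSpor.MBigModel.MG) = Cfsg.Agent.BpSpor.MBigModel.zz →
      P x = 1 := by
    intro x hx
    rw [hP, (Cfsg.Agent.H820.Par.chart.pi_eq_one x).2 (by rw [hx]; exact Cfsg.Agent.H820.Par.chart.large.z_mem),
      mul_one, mul_inv_cancel]
  refine core (fun i j => P (C.ce i j)) (P.comp C.ck) c hwt ?_ ?_ ?_ ?_ ?_
  · intro i j l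
    rw [← map_mul]
    congr 1
    exact Subtype.ext (C.e_mul i j l)
  · intro i j
    rw [← map_mul]
    by_cases hij : i = j
    · subst hij
      have : C.ce i i = 1 := Subtype.ext (C.e_self i)
      rw [this, mul_one, map_one]
    · exact hPz _ (C.e_sq i j hij)
  · intro σ i j
    show P (C.ck σ) * P (C.ce i j) * (P (C.ck σ))⁻¹ = _
    rw [← map_inv, ← map_mul, ← map_mul]
    congr 1
    exact Subtype.ext (C.k_conj σ i j)
  · rw [← map_mul]
    show P (C.cu 4) = _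
    rw [hP, ← hg0, hmk, ← map_inv, ← map_mul, ← map_mul, hh]
  · intro i j hij a ha
    have h3 : Cfsg.Agent.CoOneType.ClosingFacts.mk (h⁻¹ * signCo0 a * h) =
        Cfsg.Agent.BpSpor.MBigModel.pi (C.ce i j) := by
      rw [hmk, map_mul, map_mul, ← ha, hP, map_inv]
      group
    have h4 := h1 i j hij _ h3
    have h5 : h⁻¹ * signCo0 a * h * (h⁻¹ * signCo0 a * h) = 1 := by
      calc h⁻¹ * signCo0 a * h * (h⁻¹ * signCo0 a * h) = h⁻¹ * (signCo0 a * signCo0 a) * h := by group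
        _ = 1 := by rw [signCo0_mul_self, mul_one, inv_mul_cancel]
    have h6 : h⁻¹ * signCo0 a * h * (h⁻¹ * signCo0 a * h) = signCo0 allOne := h4
    exact allOne_ne (h6.symm.trans h5)

end Cfsg.Agent.H833.EFour
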