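import Mathlib
import Cfsg.Prelude.Def_MonsterType

/-!
# Extraspecial 2-groups acting on groups of odd order (helper833)

`Q ≤ G` with `[Q, Q] ≤ ⟨j⟩`, squares in `⟨j⟩`, `j` an involution, `X` a subgroup of odd order normalized by `Q`
with `C_X(j) = 1`. Then `|X|` is a `2 ^ k`-th power if `2 * 4 ^ k ≤ |Q : Z(Q)|`.

* `card_eq_pow` : this;
* `eq_bot` : if moreover `C(Q) ≤ Q`, `Q` is normal in `C(j)` and no odd `2 ^ k`-th power divides `|G|` then
  `X = 1` (no assumption on `C_X(j)`).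
-/

set_option autoImplicit false

namespace Cfsg.Agent.H833.OddSig

open Subgroup

variable {G : Type*} [Group G]

/-- the action of a 2-group with derived group in `⟨j⟩` -/
structure Act (Q : Subgroup G) (j : G) : Prop where
  jQ : j ∈ Q
  jj : j * j = 1
  j1 : j ≠ 1
  cen : ∀ x ∈ Q, x * j = j * x
  sq : ∀ x ∈ Q, x * x = 1 ∨ x * x = j
  comm : ∀ x ∈ Q, ∀ y ∈ Q, x * y = y * x ∨ x * y = j * (y * x)

/-- the centre of `Q` -/
def Z (Q : Subgroup G) : Subgroup G := Q ⊓ centralizer (Q : Set G)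

theorem mem_Z {Q : Subgroup G} {x : G} : x ∈ Z Q ↔ x ∈ Q ∧ ∀ y ∈ Q, y * x = x * y := by
  rw [Z, mem_inf, mem_centralizer_iff]
  rfl

theorem Act.j_Z {Q : Subgroup G} {j : G} (h : Act Q j) : j ∈ Z Q := mem_Z.2 ⟨h.jQ, h.cen⟩

/-- the centralizer in `Q` -/
def C (Q : Subgroup G) (x : G) : Subgroup G := Q ⊓ centralizer ({x} : Set G)

theorem mem_C {Q : Subgroup G} {x y : G} : y ∈ C Q x ↔ y ∈ Q ∧ y * x = x * y := by
  rw [C, mem_inf, mem_centralizer_singleton_iff]

theorem Act.toC {Q : Subgroup G} {j : G} (h : Act Q j) {x : G} (hx : x ∈ Q) : Act (C Q x) j where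
  jQ := mem_C.2 ⟨h.jQ, (h.cen x hx).symm⟩
  jj := h.jj
  j1 := h.j1
  cen y hy := h.cen y (mem_C.1 hy).1
  sq y hy := h.sq y (mem_C.1 hy).1
  comm y hy z hz := h.comm y (mem_C.1 hy).1 z (mem_C.1 hz).1

/-- a subgroup of index at most two: `y ∉ C_Q(x)` -/
theorem Act.card_C [Finite G] {Q : Subgroup G} {j : G} (h : Act Q j) {x : G} (hx : x ∈ Q) :
    Nat.card Q ≤ 2 * Nat.card (C Q x) := by
  classical
  by_cases hy : ∃ y ∈ Q, y * x ≠ x * y
  · obtain ⟨y, hyQ, hyx⟩ := hy
    have hyx' : x * y = j * (y * x) := (h.comm x hx y hyQ).resolve_left (fun e => hyx e.symm)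
    have hsub : (Q : Set G) ⊆ (C Q x : Set G) ∪ (fun g => y * g) '' (C Q x : Set G) := by
      intro q hq
      by_cases hqx : q * x = x * q
      · left; exact mem_C.2 ⟨hq, hqx⟩
      · right
        refine ⟨y⁻¹ * q, mem_C.2 ⟨mul_mem (inv_mem hyQ) hq, ?_⟩, mul_inv_cancel_left _ _⟩
        have h1 : x * q = j * (q * x) := (h.comm x hx q hq).resolve_left (fun e => hqx e.symm)
        have h2 : y * x = j * (x * y) := by
          rw [hyx', ← mul_assoc, h.jj, one_mul]
        have h3 : q * x = j * (x * q) := by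
          rw [h1, ← mul_assoc, h.jj, one_mul]
        have h4 : y⁻¹ * (j * x) = x * y⁻¹ := by
          rw [inv_mul_eq_iff_eq_mul, ← mul_assoc, h2]
          rw [mul_assoc, mul_assoc, mul_inv_cancel, mul_one]
        calc y⁻¹ * q * x = y⁻¹ * (q * x) := by group
          _ = y⁻¹ * (j * x) * q := by rw [h3]; group
          _ = x * (y⁻¹ * q) := by rw [h4]; group
    have h1 := Set.ncard_le_ncard hsub (Set.toFinite _)
    have h2 := Set.ncard_union_le (C Q x : Set G) ((fun g => y * g) '' (C Q x : Set G))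
    have h3 : ((fun g => y * g) '' (C Q x : Set G)).ncard ≤ (C Q x : Set G).ncard :=
      Set.ncard_image_le (Set.toFinite _)
    have e1 : Nat.card Q = (Q : Set G).ncard := rfl
    have e2 : Nat.card (C Q x) = (C Q x : Set G).ncard := rfl
    rw [e1, e2]
    omega
  · push Not at hy
    have : C Q x = Q := by
      apply le_antisymm
      · exact fun g hg => (mem_C.1 hg).1
      · exact fun g hg => mem_C.2 ⟨hg, hy g hg⟩
    rw [this]
    omega

theorem Act.card_ZC [Finite G] {Q : Subgroup G} {j : G} (h : Act Q j) {x y : G} (hx : x ∈ Q) (hy : y ∈ Q)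
    (hyx : y * x ≠ x * y) : Nat.card (Z (C Q x)) ≤ 2 * Nat.card (Z Q) := by
  classical
  have hQ : ∀ q ∈ Q, q ∈ C Q x ∨ y⁻¹ * q ∈ C Q x := by
    intro q hq
    have hyx' : x * y = j * (y * x) := (h.comm x hx y hy).resolve_left (fun e => hyx e.symm)
    by_cases hqx : q * x = x * q
    · left; exact mem_C.2 ⟨hq, hqx⟩
    · right
      refine mem_C.2 ⟨mul_mem (inv_mem hy) hq, ?_⟩
      have h1 : x * q = j * (q * x) := (h.comm x hx q hq).resolve_left (fun e => hqx e.symm)
      have h2 : y * x = j * (x * y) := by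
        rw [hyx', ← mul_assoc, h.jj, one_mul]
      have h3 : q * x = j * (x * q) := by
        rw [h1, ← mul_assoc, h.jj, one_mul]
      have h4 : y⁻¹ * (j * x) = x * y⁻¹ := by
        rw [inv_mul_eq_iff_eq_mul, ← mul_assoc, h2]
        rw [mul_assoc, mul_assoc, mul_inv_cancel, mul_one]
      calc y⁻¹ * q * x = y⁻¹ * (q * x) := by group
        _ = y⁻¹ * (j * x) * q := by rw [h3]; group
        _ = x * (y⁻¹ * q) := by rw [h4]; group
  -- a member of `Z (C Q x)` commuting with `y` is in `Z Q`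
  have key : ∀ w ∈ Z (C Q x), w * y = y * w → w ∈ Z Q := by
    intro w hw hwy
    obtain ⟨hw1, hw2⟩ := mem_Z.1 hw
    refine mem_Z.2 ⟨(mem_C.1 hw1).1, fun q hq => ?_⟩
    rcases hQ q hq with h1 | h1
    · exact hw2 q h1
    · have h2 := hw2 _ h1
      calc q * w = y * (y⁻¹ * q * w) := by group
        _ = y * (w * (y⁻¹ * q)) := by rw [h2]
        _ = (y * w) * y⁻¹ * q := by group
        _ = w * q := by rw [← hwy]; group
  by_cases hall : ∀ w ∈ Z (C Q x), w * y = y * w
  · have : (Z (C Q x) : Set G) ⊆ (Z Q : Set G) := fun w hw => key w hw (hall w hw)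
    have h1 := Set.ncard_le_ncard this (Set.toFinite _)
    have e1 : Nat.card (Z (C Q x)) = (Z (C Q x) : Set G).ncard := rfl
    have e2 : Nat.card (Z Q) = (Z Q : Set G).ncard := rfl
    omega
  · push Not at hall
    obtain ⟨w, hw, hwy⟩ := hall
    have hwQ : w ∈ Q := (mem_C.1 (mem_Z.1 hw).1).1
    have hwy' : w * y = j * (y * w) := (h.comm w hwQ y hy).resolve_left hwy
    have hsub : (Z (C Q x) : Set G) ⊆ (Z Q : Set G) ∪ (fun g => w * g) '' (Z Q : Set G) := by
      intro v hv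
      by_cases hvy : v * y = y * v
      · left; exact key v hv hvy
      · right
        have hvQ : v ∈ Q := (mem_C.1 (mem_Z.1 hv).1).1
        have hvy' : v * y = j * (y * v) := (h.comm v hvQ y hy).resolve_left hvy
        refine ⟨w⁻¹ * v, ?_, mul_inv_cancel_left _ _⟩
        apply key _ (mul_mem (inv_mem hw) hv)
        have h5 : w⁻¹ * (j * y) = y * w⁻¹ := by
          rw [inv_mul_eq_iff_eq_mul, ← mul_assoc, hwy']
          rw [mul_assoc, mul_assoc, mul_inv_cancel, mul_one]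
        calc w⁻¹ * v * y = w⁻¹ * (v * y) := by group
          _ = w⁻¹ * (j * y) * v := by rw [hvy']; group
          _ = y * (w⁻¹ * v) := by rw [h5]; group
    have h1 := Set.ncard_le_ncard hsub (Set.toFinite _)
    have h2 := Set.ncard_union_le (Z Q : Set G) ((fun g => w * g) '' (Z Q : Set G))
    have h3 : ((fun g => w * g) '' (Z Q : Set G)).ncard ≤ (Z Q : Set G).ncard :=
      Set.ncard_image_le (Set.toFinite _)
    have e1 : Nat.card (Z (C Q x)) = (Z (C Q x) : Set G).ncard := rfl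
    have e2 : Nat.card (Z Q) = (Z Q : Set G).ncard := rfl
    rw [e1, e2]
    omega

/-- a non-central involution -/
theorem Act.exists_inv [Finite G] {Q : Subgroup G} {j : G} (h : Act Q j)
    (hc : 8 * Nat.card (Z Q) ≤ Nat.card Q) :
    ∃ x ∈ Q, x * x = 1 ∧ ∃ y ∈ Q, y * x ≠ x * y := by
  classical
  have hpos : 0 < Nat.card (Z Q) := Nat.card_pos
  have hnc : ∀ x ∈ Q, x ∉ Z Q → ∃ y ∈ Q, y * x ≠ x * y := by
    intro x hx hxZ
    by_contra hcon
    push Not at hcon
    exact hxZ (mem_Z.2 ⟨hx, hcon⟩)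
  obtain ⟨a, haQ, haZ⟩ : ∃ a ∈ Q, a ∉ Z Q := by
    by_contra hcon
    push Not at hcon
    have h1 := Set.ncard_le_ncard (show (Q : Set G) ⊆ (Z Q : Set G) from hcon) (Set.toFinite _)
    have e1 : Nat.card Q = (Q : Set G).ncard := rfl
    have e2 : Nat.card (Z Q) = (Z Q : Set G).ncard := rfl
    omega
  rcases h.sq a haQ with haa | haa
  · exact ⟨a, haQ, haa, hnc a haQ haZ⟩
  · have hC := h.card_C haQ
    obtain ⟨b, hb, hbZ, hbZ'⟩ : ∃ b ∈ C Q a, b ∉ Z Q ∧ a⁻¹ * b ∉ Z Q := by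
      by_contra hcon
      push Not at hcon
      have hsub : (C Q a : Set G) ⊆ (Z Q : Set G) ∪ (fun g => a * g) '' (Z Q : Set G) := by
        intro b hb
        by_cases hbZ : b ∈ Z Q
        · left; exact hbZ
        · right
          exact ⟨a⁻¹ * b, hcon b hb hbZ, mul_inv_cancel_left _ _⟩
      have h1 := Set.ncard_le_ncard hsub (Set.toFinite _)
      have h2 := Set.ncard_union_le (Z Q : Set G) ((fun g => a * g) '' (Z Q : Set G))
      have h3 : ((fun g => a * g) '' (Z Q : Set G)).ncard ≤ (Z Q : Set G).ncard :=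
        Set.ncard_image_le (Set.toFinite _)
      have e1 : Nat.card (C Q a) = (C Q a : Set G).ncard := rfl
      have e2 : Nat.card (Z Q) = (Z Q : Set G).ncard := rfl
      omega
    obtain ⟨hbQ, hba⟩ := mem_C.1 hb
    rcases h.sq b hbQ with hbb | hbb
    · exact ⟨b, hbQ, hbb, hnc b hbQ hbZ⟩
    · refine ⟨a⁻¹ * b, mul_mem (inv_mem haQ) hbQ, ?_, hnc _ (mul_mem (inv_mem haQ) hbQ) hbZ'⟩
      have h1 : a⁻¹ * b = b * a⁻¹ := by
        rw [inv_mul_eq_iff_eq_mul, ← mul_assoc, ← hba, mul_inv_cancel_right]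
      calc a⁻¹ * b * (a⁻¹ * b) = a⁻¹ * (b * a⁻¹) * b := by group
        _ = a⁻¹ * (a⁻¹ * b) * b := by rw [h1]
        _ = (a * a)⁻¹ * (b * b) := by group
        _ = 1 := by rw [haa, hbb, inv_mul_cancel]

/-- the halving step -/
theorem card_sq [Finite G] {j x y : G} {X : Subgroup G} (hodd : Odd (Nat.card X))
    (hab : ∀ a ∈ X, ∀ b ∈ X, a * b = b * a) (hj : ∀ a ∈ X, j * a * j⁻¹ = a⁻¹)
    (hx : ∀ a ∈ X, x * a * x⁻¹ ∈ X) (hy : ∀ a ∈ X, y * a * y⁻¹ ∈ X) (hy' : ∀ a ∈ X, y⁻¹ * a * y ∈ X)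
    (hxx : x * x = 1) (hxj : x * j = j * x) (hxy : y * x = j * (x * y)) (hjj : j * j = 1) (hyj : y * j = j * y) :
    Nat.card X = Nat.card (C X x) ^ 2 := by
  have hxi : x⁻¹ = x := inv_eq_of_mul_eq_one_left hxx
  have hji : j⁻¹ = j := inv_eq_of_mul_eq_one_left hjj
  -- conjugation by `y`
  have e1 : Nat.card (C X x) = Nat.card (C X (x * j)) := by
    have hyx : y * x * y⁻¹ = x * j := by rw [hxy, hxj]; group
    have hyx' : y⁻¹ * (x * j) * y = x := by rw [← hyx]; group
    refine Nat.card_congr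
      { toFun := fun a => ⟨y * a * y⁻¹, mem_C.2 ⟨hy a (mem_C.1 a.2).1, ?_⟩⟩
        invFun := fun a => ⟨y⁻¹ * a * y, mem_C.2 ⟨hy' a (mem_C.1 a.2).1, ?_⟩⟩
        left_inv := fun a => Subtype.ext (by show y⁻¹ * (y * a * y⁻¹) * y = a; group)
        right_inv := fun a => Subtype.ext (by show y * (y⁻¹ * a * y) * y⁻¹ = a; group) }
    · rw [← hyx]
      have h1 := (mem_C.1 a.2).2
      calc y * (a : G) * y⁻¹ * (y * x * y⁻¹) = y * (a * x) * y⁻¹ := by group
        _ = y * (x * a) * y⁻¹ := by rw [h1]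
        _ = y * x * y⁻¹ * (y * a * y⁻¹) := by group
    · have h1 := (mem_C.1 a.2).2
      calc y⁻¹ * (a : G) * y * x = y⁻¹ * a * y * (y⁻¹ * (x * j) * y) := by rw [hyx']
        _ = y⁻¹ * (a * (x * j)) * y := by group
        _ = y⁻¹ * ((x * j) * a) * y := by rw [h1]
        _ = (y⁻¹ * (x * j) * y) * (y⁻¹ * a * y) := by group
        _ = x * (y⁻¹ * a * y) := by rw [hyx']
  -- the product map
  have hinvj : ∀ a ∈ X, a * j = j * a → a = 1 := by
    intro a ha hc
    have h1 := hj a ha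
    rw [← hc, mul_inv_cancel_right] at h1
    have h2 : a * a = 1 := mul_eq_one_iff_eq_inv.2 h1
    have h3 : orderOf (⟨a, ha⟩ : X) ∣ 2 := orderOf_dvd_of_pow_eq_one (by
      apply Subtype.ext
      show a ^ 2 = 1
      rw [pow_two, h2])
    have h4 : orderOf (⟨a, ha⟩ : X) ∣ Nat.card X := orderOf_dvd_natCard _
    have h5 : orderOf (⟨a, ha⟩ : X) = 1 := by
      rcases (Nat.dvd_prime Nat.prime_two).1 h3 with h | h
      · exact h
      · exfalso
        rw [h] at h4
        exact (Nat.not_even_iff_odd.2 hodd) (even_iff_two_dvd.2 h4)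
    exact congrArg Subtype.val (orderOf_eq_one_iff.1 h5)
  let f : C X x × C X (x * j) → X := fun p => ⟨(p.1 : G) * p.2, mul_mem (mem_C.1 p.1.2).1 (mem_C.1 p.2.2).1⟩
  have hf : Function.Bijective f := by
    constructor
    · rintro ⟨a, b⟩ ⟨a', b'⟩ hab'
      have h1 : (a : G) * b = a' * b' := congrArg Subtype.val hab'
      have h2 : (a' : G)⁻¹ * a = b' * (b : G)⁻¹ := by
        rw [inv_mul_eq_iff_eq_mul, ← mul_assoc, ← h1, mul_inv_cancel_right]
      have h3 : (a' : G)⁻¹ * a ∈ C X x := mul_mem (inv_mem a'.2) a.2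
      have h4 : (a' : G)⁻¹ * a ∈ C X (x * j) := by rw [h2]; exact mul_mem b'.2 (inv_mem b.2)
      obtain ⟨h5, h6⟩ := mem_C.1 h3
      obtain ⟨-, h7⟩ := mem_C.1 h4
      have h8 : (a' : G)⁻¹ * a = 1 := by
        apply hinvj _ h5
        set c := (a' : G)⁻¹ * a
        have h9 : x * (c * j) = x * (j * c) := by
          calc x * (c * j) = (x * c) * j := by group
            _ = c * (x * j) := by rw [← h6]; group
            _ = x * (j * c) := by rw [h7]; group
        exact mul_left_cancel h9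
      have h9 : (a : G) = a' := (inv_mul_eq_one.1 h8).symm
      have h10 : (b : G) = b' := by
        rw [h9] at h1
        exact mul_left_cancel h1
      rw [Prod.mk.injEq]
      exact ⟨Subtype.ext h9, Subtype.ext h10⟩
    · rintro ⟨a, ha⟩
      -- a square root
      obtain ⟨r, hr⟩ : ∃ r : X, r ^ 2 = ⟨a, ha⟩ := by
        have hcop : (Nat.card X).Coprime 2 := hodd.coprime_two_right
        exact (powCoprime hcop).surjective ⟨a, ha⟩
      have hr' : (r : G) * r = a := by
        have h1 := congrArg Subtype.val hr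
        rw [pow_two] at h1
        exact h1
      have hrx := hx r r.2
      refine ⟨⟨⟨r * (x * r * x⁻¹), mem_C.2 ⟨mul_mem r.2 hrx, ?_⟩⟩,
        ⟨r * (x * r * x⁻¹)⁻¹, mem_C.2 ⟨mul_mem r.2 (inv_mem hrx), ?_⟩⟩⟩, ?_⟩
      · have h1 := hab r r.2 _ hrx
        rw [hxi] at h1 ⊢
        calc (r : G) * (x * r * x) * x = r * (x * r) * (x * x) := by group
          _ = r * x * r * (x * x) := by group
          _ = (x * x) * (r * x * r) := by rw [hxx]; group
          _ = x * ((x * r * x) * r) := by group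
          _ = x * (r * (x * r * x)) := by rw [h1]
      · have h1 := hab r r.2 _ (inv_mem hrx)
        have hjr := hj r r.2
        have hjr' := hj r⁻¹ (inv_mem r.2)
        rw [inv_inv] at hjr'
        rw [hxi] at h1 ⊢
        rw [hji] at hjr hjr'
        -- `(xj) c = c (xj)` with `c = r (x r x)⁻¹`
        have h2 : (x * r * x)⁻¹ = x * (r : G)⁻¹ * x := by
          rw [mul_inv_rev, mul_inv_rev, hxi, mul_assoc]
        rw [h2] at h1 ⊢
        have h3 : (x * j) * (r * (x * (r : G)⁻¹ * x)) * (x * j) = r * (x * (r : G)⁻¹ * x) := by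
          calc (x * j) * (r * (x * (r : G)⁻¹ * x)) * (x * j)
              = x * (j * r) * x * (r : G)⁻¹ * (x * x) * j := by group
            _ = x * (j * r * j) * (j * x) * (r : G)⁻¹ * j := by
                rw [hxx]
                calc x * (j * r) * x * (r : G)⁻¹ * 1 * j = x * (j * r * (1 : G)) * x * (r : G)⁻¹ * j := by group
                  _ = x * (j * r * (j * j)) * x * (r : G)⁻¹ * j := by rw [hjj]
                  _ = _ := by group
            _ = x * (j * r * j) * x * (j * (r : G)⁻¹ * j) := by rw [← hxj]; group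
            _ = x * (r : G)⁻¹ * x * r := by rw [hjr, hjr']
            _ = _ := h1.symm
        have h4 : (x * j) * (x * j) = 1 := by
          calc (x * j) * (x * j) = x * (j * x) * j := by group
            _ = (x * x) * (j * j) := by rw [← hxj]; group
            _ = 1 := by rw [hxx, hjj, one_mul]
        calc (r : G) * (x * (r : G)⁻¹ * x) * (x * j)
            = ((x * j) * (x * j)) * (r * (x * (r : G)⁻¹ * x)) * (x * j) := by rw [h4, one_mul]
          _ = (x * j) * ((x * j) * (r * (x * (r : G)⁻¹ * x)) * (x * j)) := by group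
          _ = x * j * (r * (x * (r : G)⁻¹ * x)) := by rw [h3]
      · apply Subtype.ext
        show (r : G) * (x * r * x⁻¹) * (r * (x * r * x⁻¹)⁻¹) = a
        rw [← hr']
        have h1 := hab r r.2 _ hrx
        calc (r : G) * (x * r * x⁻¹) * (r * (x * r * x⁻¹)⁻¹) =
              r * ((x * r * x⁻¹) * r) * (x * r * x⁻¹)⁻¹ := by group
          _ = r * (r * (x * r * x⁻¹)) * (x * r * x⁻¹)⁻¹ := by rw [h1]
          _ = r * r := by group
  rw [← Nat.card_congr (Equiv.ofBijective f hf), Nat.card_prod, ← e1, pow_two]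

/-- **The order is a `2 ^ k`-th power.** -/
theorem card_eq_pow [Finite G] {j : G} : ∀ (k : ℕ) (Q X : Subgroup G), Act Q j →
    2 * 4 ^ k * Nat.card (Z Q) ≤ Nat.card Q → Odd (Nat.card X) → (∀ a ∈ X, ∀ b ∈ X, a * b = b * a) →
    (∀ a ∈ X, j * a * j⁻¹ = a⁻¹) → (∀ q ∈ Q, ∀ a ∈ X, q * a * q⁻¹ ∈ X) →
    ∃ s, Nat.card X = s ^ (2 ^ k) := by
  intro k
  induction k with
  | zero =>
    intro Q X _ _ _ _ _ _
    exact ⟨Nat.card X, by rw [pow_zero, pow_one]⟩
  | succ k ih =>
    intro Q X h hc hodd hab hj hn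
    have hpos : 0 < Nat.card (Z Q) := Nat.card_pos
    have h4k : 1 ≤ 4 ^ k := Nat.one_le_pow _ _ (by norm_num)
    have hc8 : 8 * Nat.card (Z Q) ≤ Nat.card Q := by
      refine le_trans ?_ hc
      apply Nat.mul_le_mul_right
      rw [pow_succ]
      omega
    obtain ⟨x, hx, hxx, y, hy, hyx⟩ := h.exists_inv hc8
    have h1 := h.card_C hx
    have h2 := h.card_ZC hx hy hyx
    have hyx' : y * x = j * (x * y) := (h.comm y hy x hx).resolve_left hyx
    have h3 : 2 * 4 ^ k * Nat.card (Z (C Q x)) ≤ Nat.card (C Q x) := by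
      have h5 : 2 * 4 ^ (k + 1) * Nat.card (Z Q) ≤ 2 * Nat.card (C Q x) := hc.trans h1
      rw [pow_succ] at h5
      have h6 : 2 * 4 ^ k * Nat.card (Z (C Q x)) ≤ 2 * 4 ^ k * (2 * Nat.card (Z Q)) :=
        Nat.mul_le_mul_left _ h2
      nlinarith
    have hCX : C X x ≤ X := fun a ha => (mem_C.1 ha).1
    obtain ⟨s, hs⟩ := ih (C Q x) (C X x) (h.toC hx) h3 (hodd.of_dvd_nat (Subgroup.card_dvd_of_le hCX))
      (fun a ha b hb => hab a (hCX ha) b (hCX hb)) (fun a ha => hj a (hCX ha)) (by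
        intro q hq a ha
        obtain ⟨hq1, hq2⟩ := mem_C.1 hq
        obtain ⟨ha1, ha2⟩ := mem_C.1 ha
        refine mem_C.2 ⟨hn q hq1 a ha1, ?_⟩
        have hq3 : q⁻¹ * x = x * q⁻¹ := by
          rw [inv_mul_eq_iff_eq_mul, ← mul_assoc, hq2, mul_inv_cancel_right]
        calc q * a * q⁻¹ * x = q * a * (q⁻¹ * x) := by group
          _ = q * (a * x) * q⁻¹ := by rw [hq3]; group
          _ = (q * x) * a * q⁻¹ := by rw [ha2]; group
          _ = x * (q * a * q⁻¹) := by rw [hq2]; group)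
    refine ⟨s, ?_⟩
    have h7 := card_sq (x := x) (y := y) hodd hab hj (hn x hx) (hn y hy) (fun a ha => by
      have := hn y⁻¹ (inv_mem hy) a ha
      rwa [inv_inv] at this) hxx (h.cen x hx) hyx' h.jj (h.cen y hy)
    rw [h7, hs, ← pow_mul, pow_succ]

/-- **No odd signalizer.** -/
theorem eq_bot [Finite G] {Q : Subgroup G} {j : G} (h : Act Q j)
    (hN : ∀ g : G, g * j = j * g → ∀ q ∈ Q, g * q * g⁻¹ ∈ Q) (hCQ : ∀ g : G, (∀ q ∈ Q, q * g = g * q) → g ∈ Q)
    {k : ℕ} (hc : 2 * 4 ^ k * Nat.card (Z Q) ≤ Nat.card Q)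
    (hG : ∀ s : ℕ, Odd s → 1 < s → ¬ s ^ (2 ^ k) ∣ Nat.card G) {X : Subgroup G} (hodd : Odd (Nat.card X))
    (hX : Q ≤ normalizer (X : Set G)) : X = ⊥ := by
  have hn : ∀ q ∈ Q, ∀ a ∈ X, q * a * q⁻¹ ∈ X := fun q hq a ha => (mem_normalizer_iff.1 (hX hq) a).1 ha
  -- `Q ∩ X = 1`
  have hQX : ∀ w ∈ Q, w ∈ X → w = 1 := by
    intro w hw hwX
    have h4 : w ^ 4 = 1 := by
      have e : w ^ 4 = (w * w) * (w * w) := by
        rw [pow_succ, pow_succ, pow_two]
        simp only [mul_assoc]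
      rw [e]
      rcases h.sq w hw with h1 | h1
      · rw [h1, one_mul]
      · rw [h1, h.jj]
    have h5 : orderOf (⟨w, hwX⟩ : X) ∣ 4 := orderOf_dvd_of_pow_eq_one (Subtype.ext h4)
    have h6 : orderOf (⟨w, hwX⟩ : X) ∣ Nat.card X := orderOf_dvd_natCard _
    have h7 : Nat.Coprime (Nat.card X) 4 := by
      have : (Nat.card X).Coprime (2 ^ 2) := Nat.Coprime.pow_right 2 hodd.coprime_two_right
      simpa using this
    have h8 : orderOf (⟨w, hwX⟩ : X) = 1 := Nat.eq_one_of_dvd_coprimes h7 h6 h5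
    exact congrArg Subtype.val (orderOf_eq_one_iff.1 h8)
  -- `C_X(j) = 1`
  have hfix : ∀ a ∈ X, j * a * j⁻¹ = a → a = 1 := by
    intro a ha haj
    have haj' : a * j = j * a := (mul_inv_eq_iff_eq_mul.1 haj).symm
    apply hQX a _ ha
    apply hCQ
    intro q hq
    have h1 : a * q * a⁻¹ * q⁻¹ = 1 := by
      apply hQX
      · exact mul_mem (hN a haj' q hq) (inv_mem hq)
      · have h2 := hn q hq a⁻¹ (inv_mem ha)
        have h3 : a * q * a⁻¹ * q⁻¹ = a * (q * a⁻¹ * q⁻¹) := by group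
        rw [h3]
        exact mul_mem ha h2
    have h2 := mul_inv_eq_one.1 h1
    rw [mul_inv_eq_iff_eq_mul] at h2
    exact h2.symm
  -- `j` inverts `X`
  let φ : X →* X :=
    { toFun := fun a => ⟨j * a * j⁻¹, hn j h.jQ a a.2⟩
      map_one' := Subtype.ext (by show j * 1 * j⁻¹ = 1; group)
      map_mul' := fun a b => Subtype.ext (by show j * (a * b) * j⁻¹ = j * a * j⁻¹ * (j * b * j⁻¹); group) }
  have hff : MonoidHom.FixedPointFree φ := fun a ha => Subtype.ext (hfix a a.2 (congrArg Subtype.val ha))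
  have hji : j⁻¹ = j := inv_eq_of_mul_eq_one_left h.jj
  have hinv : Function.Involutive φ := by
    intro a
    apply Subtype.ext
    show j * (j * a * j⁻¹) * j⁻¹ = a
    rw [hji]
    calc j * (j * (a : G) * j) * j = (j * j) * a * (j * j) := by group
      _ = a := by rw [h.jj, one_mul, mul_one]
  have hab : ∀ a ∈ X, ∀ b ∈ X, a * b = b * a := by
    intro a ha b hb
    have := hff.commute_all_of_involutive hinv ⟨a, ha⟩ ⟨b, hb⟩
    exact congrArg Subtype.val this.eq
  have hj : ∀ a ∈ X, j * a * j⁻¹ = a⁻¹ := by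
    intro a ha
    have := congrFun (hff.coe_eq_inv_of_involutive hinv) ⟨a, ha⟩
    exact congrArg Subtype.val this
  obtain ⟨s, hs⟩ := card_eq_pow k Q X h hc hodd hab hj hn
  have hs1 : Odd s := by
    by_contra hcon
    rw [Nat.not_odd_iff_even] at hcon
    rw [hs] at hodd
    exact (Nat.not_even_iff_odd.2 hodd) (hcon.pow_of_ne_zero (pow_ne_zero _ two_ne_zero))
  by_contra hne
  have h1 : s ≠ 1 := by
    rintro rfl
    rw [one_pow] at hs
    exact hne (Subgroup.card_eq_one.1 hs)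
  have h2 : s ≠ 0 := by
    rintro rfl
    exact absurd hs1 (by decide)
  apply hG s hs1 (by omega)
  rw [← hs]
  exact Subgroup.card_subgroup_dvd_card X

end Cfsg.Agent.H833.OddSig
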