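import Cfsg.Agent.H833.TrivAct
import Cfsg.Agent.H833.CentQuot
import Cfsg.Agent.H833.OddSig
import Cfsg.Agent.H833.Flip
import Cfsg.Agent.J2.ExtQuot

/-!
# The centralizer of `conj (a b)` in `Aut Fi22` (helper833)

* `rigid_two` : an automorphism fixing the transpositions which commute with `a` and `b` is conjugation by an
  element of `⟨a, b⟩`;
-/

set_option autoImplicit false

namespace Cfsg.Agent.H833.AutPair

open Cfsg Subgroup Cfsg.Agent.KFacts.FiTT
open Cfsg.Agent.OddHalf.D8.Fi22 (KTrans kTrans Rig)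

universe v

variable {K : Type v} [Group K] {T : Set K}

/-- **Rigidity at a pair.** -/
theorem rigid_two (h : KTrans K T) {a b : K} (ha : a ∈ T) (hb : b ∈ T) (hne : a ≠ b) (hab : a * b = b * a)
    (α : MulAut K) (hα : ∀ c ∈ T, c * a = a * c → c * b = b * c → α c = c) :
    α = 1 ∨ α = MulAut.conj a ∨ α = MulAut.conj b ∨ α = MulAut.conj (a * b) := by
  have hmem : ∀ x : K, x ∈ centralizer ({a} : Set K) ↔ x * a = a * x := fun x => mem_centralizer_singleton_iff
  have hαa : α a = a := hα a ha rfl hab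
  have hb' : b ∈ centralizer ({a} : Set K) := (hmem b).2 hab.symm
  let P : Set (centralizer ({a} : Set K)) := {x | (x : K) ∈ T ∧ (x : K) ≠ a}
  have hconj : ∀ (k x : centralizer ({a} : Set K)), x ∈ P → k * x * k⁻¹ ∈ P := by
    rintro k x ⟨hx, hxa⟩
    refine ⟨h.conj k x hx, fun e => hxa ?_⟩
    have e1 : (k : K) * x * (k : K)⁻¹ = a := e
    have hk := (hmem k).1 k.2
    calc (x : K) = (k : K)⁻¹ * (k * x * (k : K)⁻¹) * k := by group
      _ = (k : K)⁻¹ * (a * k) := by rw [e1]; group
      _ = a := by rw [← hk]; group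
  have R0 : Rig P ⟨b, hb'⟩ := by
    refine ⟨fun x hx => Subtype.ext (h.sq x hx.1), ⟨hb, hne.symm⟩, hconj, ?_, ?_, ?_, ?_, ?_⟩
    · rintro x ⟨hx, hxa⟩
      obtain ⟨g, h1, h2⟩ := h.trans2 a ha b hb a ha x hx hne (Ne.symm hxa) hab ((hmem x).1 x.2).symm
      exact ⟨⟨g, (hmem g).2 (mul_inv_eq_iff_eq_mul.1 h1)⟩, Subtype.ext h2⟩
    · rintro x ⟨hx, -⟩ y ⟨hy, -⟩
      rcases h.three x hx y hy with h1 | h1
      · exact Or.inl (Subtype.ext h1)
      · exact Or.inr (Subtype.ext h1)
    · -- generation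
      rw [eq_top_iff]
      rintro ⟨x, hx⟩ -
      have h1 : (closure P).map (centralizer ({a} : Set K)).subtype = centralizer ({a} : Set K) := by
        rw [MonoidHom.map_closure]
        refine Eq.trans ?_ (h.cent' a ha)
        congr 1
        ext y
        constructor
        · rintro ⟨y, ⟨hy, hya⟩, rfl⟩
          exact ⟨hy, (hmem y).1 y.2, hya⟩
        · rintro ⟨hy, h2, hya⟩
          exact ⟨⟨y, (hmem y).2 h2⟩, ⟨hy, hya⟩, rfl⟩
      have h2 : x ∈ (closure P).map (centralizer ({a} : Set K)).subtype := by rw [h1]; exact hx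
      obtain ⟨y, hy, e⟩ := h2
      have : (⟨x, hx⟩ : centralizer ({a} : Set K)) = y := Subtype.ext e.symm
      rw [this]
      exact hy
    · rintro c ⟨hc, -⟩ c' ⟨hc', -⟩ n n' hd
      rcases h.same a ha b hb c hc c' hc' hab.symm ((hmem c).1 c.2) ((hmem c').1 c'.2)
        (fun e => n (Subtype.ext e)) (fun e => n' (Subtype.ext e)) (fun d hdT k1 k2 k3 => by
          by_cases hda : d = a
          · rw [hda]; exact ((hmem c').1 c'.2).symm
          · exact congrArg Subtype.val
              ((hd ⟨d, (hmem d).2 k1⟩ ⟨hdT, hda⟩ (Subtype.ext k2)).1 (Subtype.ext k3))) with h1 | h1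
      · exact Or.inl (Subtype.ext h1)
      · exact Or.inr (Subtype.ext h1)
    · intro S hne' hS hcl x hx n
      obtain ⟨y, hy⟩ := hne'
      have hcon := h.conn a ha b hb hab.symm (Subtype.val '' S) (by
        rintro _ ⟨c, hc, rfl⟩ d hd k1 k2 k3
        refine ⟨⟨d, (hmem d).2 k1⟩, hcl c hc _ ⟨hd, fun e => k2 ?_⟩ (fun e => k2 (congrArg Subtype.val e))
          (Subtype.ext k3), rfl⟩
        rw [show d = a from e]; exact hab) y (hS y hy).1.1 x hx.1 ((hmem y).1 y.2) ((hmem x).1 x.2)
          (fun e => (hS y hy).2 (Subtype.ext e)) (fun e => n (Subtype.ext e)) ⟨y, hy, rfl⟩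
      obtain ⟨x', hx', e⟩ := hcon
      rwa [show x = x' from Subtype.ext e.symm]
  let τ : centralizer ({a} : Set K) →* centralizer ({a} : Set K) :=
    { toFun := fun x => ⟨α (x : K), (hmem _).2 (by
        have := congrArg α ((hmem x).1 x.2)
        rwa [map_mul, map_mul, hαa] at this)⟩
      map_one' := Subtype.ext (map_one α)
      map_mul' := fun x y => Subtype.ext (map_mul α (x : K) (y : K)) }
  have hinj : Function.Injective τ := fun x y e => Subtype.ext (α.injective (congrArg Subtype.val e))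
  rcases R0.rigid hinj (fun c hc hcb => Subtype.ext (hα c hc.1 ((hmem c).1 c.2) (congrArg Subtype.val hcb)))
    with h1 | h1
  · rcases h.cJ ha α (fun c _ hca => congrArg Subtype.val (h1 ⟨c, (hmem c).2 hca⟩)) with h2 | h2
    · exact Or.inl h2
    · exact Or.inr (Or.inl h2)
  · have h3 : ∀ c ∈ T, c * a = a * c → ((MulAut.conj b)⁻¹ * α) c = c := by
      intro c _ hca
      have h4 : α c = b * c * b⁻¹ := congrArg Subtype.val (h1 ⟨c, (hmem c).2 hca⟩)
      rw [← map_inv, MulAut.mul_apply, MulAut.conj_apply, h4]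
      group
    rcases h.cJ ha _ h3 with h2 | h2
    · right; right; left
      rw [inv_mul_eq_iff_eq_mul, mul_one] at h2
      exact h2
    · right; right; right
      rw [inv_mul_eq_iff_eq_mul, ← map_mul, ← hab] at h2
      exact h2

theorem conj_aut (α : MulAut K) (x : K) : α * MulAut.conj x * α⁻¹ = MulAut.conj (α x) := by
  apply MulEquiv.ext
  intro y
  show α (x * (α⁻¹ y) * x⁻¹) = α x * y * (α x)⁻¹
  rw [map_mul, map_mul, map_inv, MulAut.apply_inv_self]

variable {a b : K} {R : Subgroup K}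

theorem eq_one_of_central (F : Facts K a b R) {x : K} (hx : ∀ y, x * y = y * x) : x = 1 := by
  rcases F.cc x (fun y _ => hx y) with h | h
  · exact h
  · exfalso
    obtain ⟨p, hp, -⟩ := F.swap
    apply F.ne
    rw [← hp, ← h, ← hx p, mul_inv_cancel_right]

theorem conj_inj (F : Facts K a b R) : Function.Injective (MulAut.conj : K →* MulAut K) := by
  rw [injective_iff_map_eq_one]
  intro x hx
  apply eq_one_of_central F
  intro y
  have h1 := congrArg (fun α : MulAut K => α y) hx
  simp only [MulAut.conj_apply, MulAut.one_apply] at h1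
  exact mul_inv_eq_iff_eq_mul.1 h1

theorem mem_Cz (F : Facts K a b R) {α : MulAut K} {z : K} :
    α ∈ centralizer ({MulAut.conj z} : Set (MulAut K)) ↔ α z = z := by
  rw [mem_centralizer_singleton_iff]
  constructor
  · intro h1
    apply conj_inj F
    rw [← conj_aut, h1, mul_inv_cancel_right]
  · intro h1
    have := conj_aut α z
    rw [h1] at this
    exact mul_inv_eq_iff_eq_mul.1 this

theorem zz (F : Facts K a b R) : a * b * (a * b) = 1 := by
  calc a * b * (a * b) = a * (b * a) * b := by group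
    _ = (a * a) * (b * b) := by rw [← F.comm]; group
    _ = 1 := by rw [F.dd, F.dd', one_mul]

theorem z_ne (F : Facts K a b R) : a * b ≠ 1 := by
  intro h
  apply F.ne
  have h5 := eq_inv_of_mul_eq_one_left h
  rw [h5]
  exact inv_eq_of_mul_eq_one_left F.dd'

section

variable (h : KTrans K T) (ha : a ∈ T) (hb : b ∈ T) (F : Facts K a b R)
include h ha hb F

theorem swap_or_fix {α : MulAut K} (hα : α (a * b) = a * b) :
    (α a = a ∧ α b = b) ∨ (α a = b ∧ α b = a) := by
  have h1 : α a * α b = a * b := by rw [← map_mul]; exact hα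
  have h2 : α a * α b = α b * α a := by rw [← map_mul, ← map_mul, F.comm]
  rcases h.uniq a ha b hb (α a) (h.aut α a ha) (α b) (h.aut α b hb) F.ne F.comm h2 h1.symm with h3 | h3
  · left
    refine ⟨h3, ?_⟩
    rw [h3] at h1
    exact mul_left_cancel h1
  · right
    refine ⟨h3, ?_⟩
    rw [h3, F.comm] at h1
    exact mul_left_cancel h1

theorem map_P {α : MulAut K} (hα : α (a * b) = a * b) {x : K} (hx : x ∈ centralizer ({a, b} : Set K)) :
    α x ∈ centralizer ({a, b} : Set K) := by
  obtain ⟨x1, x2⟩ := mem_pair.1 hx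
  have e1 := congrArg α x1
  have e2 := congrArg α x2
  rw [map_mul, map_mul] at e1 e2
  rcases swap_or_fix h ha hb F hα with ⟨h1, h2⟩ | ⟨h1, h2⟩
  · rw [h1] at e1
    rw [h2] at e2
    exact mem_pair.2 ⟨e1, e2⟩
  · rw [h1] at e1
    rw [h2] at e2
    exact mem_pair.2 ⟨e2, e1⟩

omit h ha hb F in
theorem inv_fix {α : MulAut K} {z : K} (hα : α z = z) : α⁻¹ z = z := by
  apply α.injective
  rw [MulAut.apply_inv_self, hα]

theorem map_R {α : MulAut K} (hα : α (a * b) = a * b) {x : K} (hx : x ∈ R) : α x ∈ R := by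
  apply F.O2 (R.map α.toMonoidHom)
  · rintro _ ⟨y, hy, rfl⟩
    exact map_P h ha hb F hα (F.R_le hy)
  · rintro g g1 g2 _ ⟨y, hy, rfl⟩
    have hg : α⁻¹ g ∈ centralizer ({a, b} : Set K) := map_P h ha hb F (inv_fix hα) (mem_pair.2 ⟨g1, g2⟩)
    refine ⟨α⁻¹ g * y * (α⁻¹ g)⁻¹, F.R_normal _ ?_ y hy, ?_⟩
    · obtain ⟨k1, k2⟩ := mem_pair.1 hg
      rw [← mul_assoc, k1, mul_assoc, k2, mul_assoc]
    · show α (α⁻¹ g * y * (α⁻¹ g)⁻¹) = g * α y * g⁻¹
      rw [map_mul, map_mul, map_inv, MulAut.apply_inv_self]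
  · exact F.R_two.map _
  · exact ⟨x, hx, rfl⟩

/-- **The homomorphism of the centralizer into `Aut U4(2)`.** -/
theorem exists_star {U : Type*} [Group U] (f : centralizer ({a, b} : Set K) →* U)
    (hf : Function.Surjective f) (hfR : ∀ x, f x = 1 ↔ (x : K) ∈ R)
    (Φ : centralizer ({a * b} : Set K) →* MulAut U) (hΦs : Function.Surjective Φ)
    (hΦ : ∀ (g : centralizer ({a * b} : Set K)) (x y : centralizer ({a, b} : Set K)),
            (y : K) = g * x * (g : K)⁻¹ → Φ g (f x) = f y) :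
    ∃ Ψ : centralizer ({MulAut.conj (a * b)} : Set (MulAut K)) →* MulAut U, Function.Surjective Ψ ∧
      ∀ α, Ψ α = 1 ↔ ∀ x ∈ centralizer ({a, b} : Set K), (α : MulAut K) x * x⁻¹ ∈ R := by
  have hP : ∀ (α : centralizer ({MulAut.conj (a * b)} : Set (MulAut K))) (x : K),
      x ∈ centralizer ({a, b} : Set K) →
      (centralizer ({MulAut.conj (a * b)} : Set (MulAut K))).subtype α x ∈ centralizer ({a, b} : Set K) :=
    fun α x hx => map_P h ha hb F ((mem_Cz F).1 α.2) hx
  obtain ⟨Ψ, hΨ⟩ := Cfsg.Agent.H833.Induced.exists_induced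
    (centralizer ({MulAut.conj (a * b)} : Set (MulAut K))).subtype (centralizer ({a, b} : Set K)) f hf hP (by
      intro α x hx
      rw [hfR] at hx ⊢
      exact map_R h ha hb F ((mem_Cz F).1 α.2) hx)
  refine ⟨Ψ, ?_, ?_⟩
  · intro u
    obtain ⟨g, rfl⟩ := hΦs u
    have hg : (g : K) * (a * b) = a * b * g := mem_centralizer_singleton_iff.1 g.2
    have hgm : MulAut.conj (g : K) ∈ centralizer ({MulAut.conj (a * b)} : Set (MulAut K)) := by
      rw [mem_Cz F, MulAut.conj_apply, hg, mul_inv_cancel_right]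
    refine ⟨⟨MulAut.conj (g : K), hgm⟩, ?_⟩
    apply MulEquiv.ext
    intro u
    obtain ⟨x, rfl⟩ := hf u
    rw [hΨ]
    exact (hΦ g x _ rfl).symm
  · intro α
    constructor
    · intro h1 x hx
      have h2 := hΨ α ⟨x, hx⟩
      rw [h1, MulAut.one_apply] at h2
      have h3 : f (⟨_, hP α x hx⟩ * ⟨x, hx⟩⁻¹) = 1 := by
        rw [map_mul, map_inv, ← h2, mul_inv_cancel]
      rw [hfR] at h3
      exact h3
    · intro h1
      apply MulEquiv.ext
      intro u
      obtain ⟨x, rfl⟩ := hf u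
      rw [hΨ, MulAut.one_apply]
      have h3 : f (⟨_, hP α x x.2⟩ * x⁻¹) = 1 := (hfR _).2 (h1 x x.2)
      rw [map_mul, map_inv] at h3
      exact mul_inv_eq_one.1 h3

end

/-- an outer automorphism fixing a pair of commuting transpositions -/
def OutFix (T : Set K) : Prop := ∃ β : MulAut K, (∀ x, β ≠ MulAut.conj x) ∧ ∃ a ∈ T, ∃ b ∈ T,
  a ≠ b ∧ a * b = b * a ∧ β a = a ∧ β b = b

theorem card_star (h : KTrans K T) (ha : a ∈ T) (hb : b ∈ T) (F : Facts K a b R) (ho : OutFix T) :
    Nat.card (centralizer ({MulAut.conj (a * b)} : Set (MulAut K))) =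
      2 * Nat.card (centralizer ({a * b} : Set K)) := by
  classical
  set I : Subgroup (MulAut K) := (MulAut.conj : K →* MulAut K).range with hI
  have hIn : I.Normal := by
    constructor
    rintro _ ⟨x, rfl⟩ α
    rw [conj_aut]
    exact ⟨_, rfl⟩
  obtain ⟨β, hβ, a', ha', b', hb', hne, hc, h1, h2⟩ := ho
  obtain ⟨g, g1, g2⟩ := h.trans2 a' ha' b' hb' a ha b hb hne F.ne hc F.comm
  have hβ' : MulAut.conj g * β * (MulAut.conj g)⁻¹ ∈ centralizer ({MulAut.conj (a * b)} : Set (MulAut K)) := by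
    rw [mem_Cz F, ← map_inv]
    show g * β (g⁻¹ * (a * b) * g⁻¹⁻¹) * g⁻¹ = a * b
    have e : g⁻¹ * (a * b) * g⁻¹⁻¹ = a' * b' := by rw [← g1, ← g2]; group
    rw [e, map_mul, h1, h2, ← g1, ← g2]
    group
  have hβI : MulAut.conj g * β * (MulAut.conj g)⁻¹ ∉ I := by
    intro h3
    have h4 := hIn.conj_mem _ h3 (MulAut.conj g)⁻¹
    have h5 : (MulAut.conj g)⁻¹ * (MulAut.conj g * β * (MulAut.conj g)⁻¹) * (MulAut.conj g)⁻¹⁻¹ = β := by group
    rw [h5] at h4
    obtain ⟨x, hx⟩ := h4
    exact hβ x hx.symm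
  have hrel : I.relIndex (centralizer ({MulAut.conj (a * b)} : Set (MulAut K))) = 2 := by
    have h3 := relIndex_dvd_index_of_normal I (centralizer ({MulAut.conj (a * b)} : Set (MulAut K)))
    have h4 : I.relIndex (centralizer ({MulAut.conj (a * b)} : Set (MulAut K))) ≠ 1 := by
      rw [Ne, relIndex_eq_one]
      exact fun hle => hβI (hle hβ')
    have h5 : I.index ∣ 2 := by
      rcases Cfsg.Agent.OddHalf.D8.Fi22.OutIdx.MulOuter.index_le h.out with h6 | h6 <;> rw [← hI] at h6 <;> rw [h6]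
      · exact one_dvd _
    rcases (Nat.dvd_prime Nat.prime_two).1 (h3.trans h5) with h6 | h6
    · exact absurd h6 h4
    · exact h6
  have hcard : Nat.card (I.subgroupOf (centralizer ({MulAut.conj (a * b)} : Set (MulAut K)))) =
      Nat.card (centralizer ({a * b} : Set K)) := by
    have hm : ∀ g : centralizer ({a * b} : Set K),
        MulAut.conj (g : K) ∈ centralizer ({MulAut.conj (a * b)} : Set (MulAut K)) := by
      intro g
      have hg : (g : K) * (a * b) = a * b * g := mem_centralizer_singleton_iff.1 g.2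
      rw [mem_Cz F, MulAut.conj_apply, hg, mul_inv_cancel_right]
    symm
    apply Nat.card_eq_of_bijective (fun g : centralizer ({a * b} : Set K) =>
      (⟨⟨MulAut.conj (g : K), hm g⟩, ⟨(g : K), rfl⟩⟩ :
        I.subgroupOf (centralizer ({MulAut.conj (a * b)} : Set (MulAut K)))))
    constructor
    · intro x y hxy
      have := congrArg (fun w => ((w : centralizer ({MulAut.conj (a * b)} : Set (MulAut K))) : MulAut K))
        (congrArg Subtype.val hxy)
      exact Subtype.ext (conj_inj F this)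
    · rintro ⟨⟨α, hα⟩, ⟨x, hx⟩⟩
      have hx' : MulAut.conj x = α := hx
      subst hx'
      have h1 := (mem_Cz F).1 hα
      rw [MulAut.conj_apply] at h1
      exact ⟨⟨x, mem_centralizer_singleton_iff.2 (mul_inv_eq_iff_eq_mul.1 h1)⟩, rfl⟩
  have h3 := (I.subgroupOf (centralizer ({MulAut.conj (a * b)} : Set (MulAut K)))).card_mul_index
  rw [hcard] at h3
  have h4 : (I.subgroupOf (centralizer ({MulAut.conj (a * b)} : Set (MulAut K)))).index = 2 := hrel
  rw [h4] at h3
  rw [← h3, mul_comm]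

end Cfsg.Agent.H833.AutPair
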