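import Cfsg.Agent.H833.AutPair

/-!
# The large extraspecial subgroup of `C_{Aut Fi22}(conj (a b))` (helper833)

`Star K T a b R Q` : `Q` the group of the `α` with `α (a b) = a b` trivial on `C(a, b) / R`, of order `2 ^ 11`.
-/

set_option autoImplicit false

namespace Cfsg.Agent.H833.AutStar

open Cfsg Subgroup Cfsg.Agent.KFacts.FiTT
open Cfsg.Agent.OddHalf.D8.Fi22 (KTrans kTrans Rig)
open Cfsg.Agent.H833.AutPair Cfsg.Agent.H833.TrivAct

universe v

variable {K : Type v} [Group K] {T : Set K} {a b : K} {R : Subgroup K}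

/-- the situation -/
structure Star (K : Type v) [Group K] (T : Set K) (a b : K) (R : Subgroup K) (Q : Subgroup (MulAut K)) : Prop where
  h : KTrans K T
  ha : a ∈ T
  hb : b ∈ T
  F : Facts K a b R
  mem : ∀ α, α ∈ Q ↔ α (a * b) = a * b ∧ ∀ x ∈ centralizer ({a, b} : Set K), α x * x⁻¹ ∈ R
  card : Nat.card Q = 2 ^ 11

namespace Star

variable {Q : Subgroup (MulAut K)} (S : Star K T a b R Q)
include S

theorem conj_mem {r : K} (hr : r ∈ R) : MulAut.conj r ∈ Q := by
  rw [S.mem]
  obtain ⟨h1, h2⟩ := mem_pair.1 (S.F.R_le hr)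
  refine ⟨?_, fun x hx => ?_⟩
  · rw [MulAut.conj_apply, ← mul_assoc, h1, mul_assoc a, h2, ← mul_assoc, mul_inv_cancel_right]
  · obtain ⟨x1, x2⟩ := mem_pair.1 hx
    have hxz : x * (a * b) = a * b * x := by rw [← mul_assoc, x1, mul_assoc, x2, mul_assoc]
    have e : MulAut.conj r x * x⁻¹ = r * (x * r⁻¹ * x⁻¹) := by rw [MulAut.conj_apply]; group
    rw [e]
    exact mul_mem hr (S.F.R_normal x hxz _ (inv_mem hr))

theorem triv {α : MulAut K} (hα : α ∈ Q) : Triv a b R α where
  mapR _ hx := map_R S.h S.ha S.hb S.F ((S.mem α).1 hα).1 hx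
  tri x h1 h2 := ((S.mem α).1 hα).2 x (mem_pair.2 ⟨h1, h2⟩)

theorem pow_one {α : MulAut K} (hα : α ∈ Q) : α ^ 2 ^ 11 = 1 := by
  have h1 : (⟨α, hα⟩ : Q) ^ Nat.card Q = 1 := pow_card_eq_one'
  have h2 : ((⟨α, hα⟩ ^ Nat.card Q : Q) : MulAut K) = 1 := by rw [h1]; rfl
  rw [SubmonoidClass.coe_pow, S.card] at h2
  exact h2

theorem finite : Finite K := Nat.finite_of_card_ne_zero (by rw [S.F.card]; norm_num)

/-- an element of `Q` fixing `a` is in `conj R` -/
theorem exists_conj {α : MulAut K} (hα : α ∈ Q) (h1 : α a = a) : ∃ s ∈ R, α = MulAut.conj s := by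
  have := S.finite
  have h2 : α b = b := by
    rcases swap_or_fix S.h S.ha S.hb S.F ((S.mem α).1 hα).1 with ⟨-, h2⟩ | ⟨h3, -⟩
    · exact h2
    · exact absurd (h1.symm.trans h3) S.F.ne
  obtain ⟨s, hs, hsP⟩ := TrivAct.exists_conj S.F (S.triv hα) (S.pow_one hα) h1 h2
  have h3 : ∀ c ∈ T, c * a = a * c → c * b = b * c → ((MulAut.conj s)⁻¹ * α) c = c := by
    intro c _ c1 c2
    rw [← map_inv, MulAut.mul_apply, MulAut.conj_apply, hsP c c1 c2]
    group
  rcases rigid_two S.h S.ha S.hb S.F.ne S.F.comm _ h3 with h4 | h4 | h4 | h4 <;>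
    rw [inv_mul_eq_iff_eq_mul] at h4
  · exact ⟨s, hs, by rw [h4, mul_one]⟩
  · exact ⟨s * a, mul_mem hs S.F.d_mem, by rw [h4, map_mul]⟩
  · exact ⟨s * b, mul_mem hs S.F.d'_mem, by rw [h4, map_mul]⟩
  · exact ⟨s * (a * b), mul_mem hs (mul_mem S.F.d_mem S.F.d'_mem), by rw [h4, ← map_mul]⟩

theorem exists_swap : ∃ q ∈ Q, q a = b ∧ q b = a := by
  by_contra hcon
  push Not at hcon
  have := S.finite
  have hle : Q ≤ R.map (MulAut.conj : K →* MulAut K) := by
    intro q hq
    rcases swap_or_fix S.h S.ha S.hb S.F ((S.mem q).1 hq).1 with ⟨h1, -⟩ | ⟨h1, h2⟩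
    · obtain ⟨s, hs, e⟩ := S.exists_conj hq h1
      exact ⟨s, hs, e.symm⟩
    · exact absurd h2 (hcon q hq h1)
  have hf : Finite (R.map (MulAut.conj : K →* MulAut K)) := inferInstance
  have h1 := Nat.le_of_dvd Nat.card_pos (Subgroup.card_dvd_of_le hle)
  rw [S.card, card_map_of_injective (conj_inj S.F), S.F.R_card] at h1
  norm_num at h1

/-- the automorphisms centralizing `Q` are in `Q` -/
theorem mem_of_cent {α : MulAut K} (hα : ∀ q ∈ Q, q * α = α * q) : α ∈ Q := by
  have hfix : ∀ r ∈ R, α r = r := by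
    intro r hr
    apply conj_inj S.F
    rw [← conj_aut, ← hα _ (S.conj_mem hr), mul_inv_cancel_right]
  rw [S.mem]
  refine ⟨hfix _ (mul_mem S.F.d_mem S.F.d'_mem), fun x hx => ?_⟩
  obtain ⟨x1, x2⟩ := mem_pair.1 hx
  have hxz : x * (a * b) = a * b * x := by rw [← mul_assoc, x1, mul_assoc, x2, mul_assoc]
  have hz := S.F.R_center (x⁻¹ * α x) (by
    intro r hr
    have h1 := hfix (x * r * x⁻¹) (S.F.R_normal x hxz r hr)
    rw [map_mul, map_mul, map_inv, hfix r hr] at h1
    -- `α x r (α x)⁻¹ = x r x⁻¹`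
    calc x⁻¹ * α x * r = x⁻¹ * (α x * r * (α x)⁻¹) * α x := by group
      _ = x⁻¹ * (x * r * x⁻¹) * α x := by rw [h1]
      _ = r * (x⁻¹ * α x) := by group)
  have hR : x⁻¹ * α x ∈ R := by
    rcases hz with h | h | h | h <;> rw [h]
    · exact one_mem _
    · exact S.F.d_mem
    · exact S.F.d'_mem
    · exact mul_mem S.F.d_mem S.F.d'_mem
  have := S.F.R_normal x hxz _ hR
  have e : x * (x⁻¹ * α x) * x⁻¹ = α x * x⁻¹ := by group
  rwa [e] at this

/-- **The centralizer of `Q`.** -/
theorem cent {α : MulAut K} (hα : ∀ q ∈ Q, q * α = α * q) : α = 1 ∨ α = MulAut.conj (a * b) := by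
  have hfix : ∀ r ∈ R, α r = r := by
    intro r hr
    apply conj_inj S.F
    rw [← conj_aut, ← hα _ (S.conj_mem hr), mul_inv_cancel_right]
  obtain ⟨s, hs, rfl⟩ := S.exists_conj (S.mem_of_cent hα) (hfix a S.F.d_mem)
  obtain ⟨q, hq, q1, q2⟩ := S.exists_swap
  have h1 : q s = s := by
    apply conj_inj S.F
    rw [← conj_aut, hα q hq, mul_inv_cancel_right]
  rcases S.F.R_center s (fun r hr => by
    have := hfix r hr
    rw [MulAut.conj_apply] at this
    exact mul_inv_eq_iff_eq_mul.1 this) with h2 | h2 | h2 | h2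
  · left; rw [h2, map_one]
  · exfalso
    rw [h2, q1] at h1
    exact S.F.ne h1.symm
  · exfalso
    rw [h2, q2] at h1
    exact S.F.ne h1
  · right; rw [h2]

/-- **Squares.** -/
theorem sq {q : MulAut K} (hq : q ∈ Q) : q * q = 1 ∨ q * q = MulAut.conj (a * b) := by
  have hfin := S.finite
  have hsqR : ∀ r ∈ R, MulAut.conj r * MulAut.conj r = 1 ∨ MulAut.conj r * MulAut.conj r = MulAut.conj (a * b) := by
    intro r hr
    rcases S.F.R_sq r hr with h1 | h1
    · left; rw [← map_mul, h1, map_one]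
    · right; rw [← map_mul, h1]
  have hqz := ((S.mem q).1 hq).1
  rcases swap_or_fix S.h S.ha S.hb S.F hqz with ⟨h1, -⟩ | ⟨h1, h2⟩
  · obtain ⟨s, hs, rfl⟩ := S.exists_conj hq h1
    exact hsqR s hs
  · obtain ⟨r0, hr0, e0⟩ := S.exists_conj (mul_mem hq hq) (by rw [MulAut.mul_apply, h1, h2])
    have hq0 : q r0 = r0 := by
      apply conj_inj S.F
      rw [← conj_aut, ← e0, ← mul_assoc, mul_inv_cancel_right]
    have hmz := mod_z S.F (S.triv hq) (S.pow_one hq)
    have hz1 : a * b ∈ R := mul_mem S.F.d_mem S.F.d'_mem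
    have hzz := AutPair.zz S.F
    -- conjugates of `r0`
    have key : ∀ g : K, g * a = a * g → g * b = b * g → g * r0 * g⁻¹ = r0 ∨ g * r0 * g⁻¹ = a * b * r0 := by
      intro g g1 g2
      obtain ⟨s, hs⟩ : ∃ s, s = g * (q g)⁻¹ := ⟨_, rfl⟩
      have hsR : s ∈ R := by
        have h3 := inv_mem (((S.mem q).1 hq).2 g (mem_pair.2 ⟨g1, g2⟩))
        have e : (q g * g⁻¹)⁻¹ = s := by rw [hs]; group
        rwa [e] at h3
      have e1 : MulAut.conj g * q * (MulAut.conj g)⁻¹ = MulAut.conj s * q := by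
        have e2 : q * (MulAut.conj g)⁻¹ = MulAut.conj (q g⁻¹) * q := by
          rw [← map_inv, ← conj_aut, inv_mul_cancel_right]
        rw [mul_assoc, e2, ← mul_assoc, ← map_mul, hs, map_inv]
      have e3 : MulAut.conj (g * r0 * g⁻¹) = MulAut.conj (s * q s * r0) := by
        calc MulAut.conj (g * r0 * g⁻¹) = MulAut.conj g * (q * q) * (MulAut.conj g)⁻¹ := by
              rw [map_mul, map_mul, map_inv, ← e0]
          _ = (MulAut.conj g * q * (MulAut.conj g)⁻¹) * (MulAut.conj g * q * (MulAut.conj g)⁻¹) := by group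
          _ = MulAut.conj s * (q * MulAut.conj s * q⁻¹) * (q * q) := by rw [e1]; group
          _ = MulAut.conj (s * q s * r0) := by rw [conj_aut, e0, ← map_mul, ← map_mul]
      have e4 := conj_inj S.F e3
      have hsz := comm_P S.F (R_P S.F hsR).1 (R_P S.F hsR).2 (c := a * b) (Or.inr (Or.inr (Or.inr rfl)))
      rcases hmz s hsR with h3 | h3
      · have h4 : q s = s := mul_inv_eq_one.1 h3
        rw [h4] at e4
        rcases S.F.R_sq s hsR with h5 | h5
        · left; rw [e4, h5, one_mul]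
        · right; rw [e4, h5]
      · have h4 : q s = a * b * s := mul_inv_eq_iff_eq_mul.1 h3
        have h6 : s * q s = a * b * (s * s) := by
          rw [h4, ← mul_assoc, hsz, mul_assoc]
        rw [h6] at e4
        rcases S.F.R_sq s hsR with h5 | h5
        · right; rw [e4, h5, mul_one]
        · left; rw [e4, h5, hzz, one_mul]
    -- the subgroup
    have hNR : closure ({a * b, r0} : Set K) ≤ R := by
      rw [closure_le]
      rintro x (rfl | hx)
      · exact hz1
      · rw [Set.mem_singleton_iff.1 hx]; exact hr0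
    have hcen : closure ({a * b, r0} : Set K) ≤ centralizer ({r0} : Set K) := by
      rw [closure_le]
      rintro x (rfl | hx)
      · exact mem_centralizer_singleton_iff.2
          (comm_P S.F (R_P S.F hr0).1 (R_P S.F hr0).2 (Or.inr (Or.inr (Or.inr rfl)))).symm
      · rw [Set.mem_singleton_iff.1 hx]
        exact mem_centralizer_singleton_iff.2 rfl
    have hr0N : r0 ∈ closure ({a * b, r0} : Set K) := subset_closure (Or.inr rfl)
    have hzN : a * b ∈ closure ({a * b, r0} : Set K) := subset_closure (Or.inl rfl)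
    have hinv : ∀ g, g * a = a * g → g * b = b * g → ∀ x ∈ closure ({a * b, r0} : Set K),
        g * x * g⁻¹ ∈ closure ({a * b, r0} : Set K) := by
      intro g g1 g2
      have hle : closure ({a * b, r0} : Set K) ≤
          (closure ({a * b, r0} : Set K)).comap (MulAut.conj g).toMonoidHom := by
        rw [closure_le]
        rintro x (rfl | hx)
        · show g * (a * b) * g⁻¹ ∈ closure ({a * b, r0} : Set K)
          rw [comm_P S.F g1 g2 (c := a * b) (Or.inr (Or.inr (Or.inr rfl))), mul_inv_cancel_right]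
          exact hzN
        · rw [Set.mem_singleton_iff.1 hx]
          show g * r0 * g⁻¹ ∈ closure ({a * b, r0} : Set K)
          rcases key g g1 g2 with h3 | h3 <;> rw [h3]
          · exact hr0N
          · exact mul_mem hzN hr0N
      exact fun x hx => hle hx
    have hr0Z : r0 = 1 ∨ r0 = a ∨ r0 = b ∨ r0 = a * b := by
      rcases S.F.dich _ hNR hinv with h3 | h3
      · apply S.F.R_center
        intro y hy
        rw [← h3] at hy
        exact (mem_centralizer_singleton_iff.1 (hcen hy)).symm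
      · exact h3 r0 hr0N
    rcases hr0Z with h3 | h3 | h3 | h3
    · left; rw [e0, h3, map_one]
    · exfalso
      rw [h3, h1] at hq0
      exact S.F.ne hq0.symm
    · exfalso
      rw [h3, h2] at hq0
      exact S.F.ne hq0
    · right; rw [e0, h3]

theorem j_mem : MulAut.conj (a * b) ∈ Q := S.conj_mem (mul_mem S.F.d_mem S.F.d'_mem)

theorem j_comm {q : MulAut K} (hq : q ∈ Q) : q * MulAut.conj (a * b) = MulAut.conj (a * b) * q :=
  mem_centralizer_singleton_iff.1 ((mem_Cz S.F).2 ((S.mem q).1 hq).1)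

theorem jj : MulAut.conj (a * b) * MulAut.conj (a * b) = 1 := by
  rw [← map_mul, AutPair.zz S.F, map_one]

theorem j_ne : MulAut.conj (a * b) ≠ 1 := by
  intro h1
  exact z_ne S.F (conj_inj S.F (by rw [h1, map_one]))

theorem act : Cfsg.Agent.H833.OddSig.Act Q (MulAut.conj (a * b)) where
  jQ := S.j_mem
  jj := S.jj
  j1 := S.j_ne
  cen _ hx := S.j_comm hx
  sq _ hx := S.sq hx
  comm x hx y hy := by
    have hj := S.jj
    have c1 : ∀ q ∈ Q, q * q ∈ ({1, MulAut.conj (a * b)} : Set (MulAut K)) := fun q hq => S.sq hq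
    have e : x * y * x⁻¹ * y⁻¹ = (x * x) * ((x⁻¹ * y) * (x⁻¹ * y)) * (y⁻¹ * y⁻¹) := by group
    have h1 : x * y * x⁻¹ * y⁻¹ = 1 ∨ x * y * x⁻¹ * y⁻¹ = MulAut.conj (a * b) := by
      rw [e]
      rcases S.sq hx with h1 | h1 <;> rcases S.sq (mul_mem (inv_mem hx) hy) with h2 | h2 <;>
        rcases S.sq (inv_mem hy) with h3 | h3 <;> rw [h1, h2, h3]
      · left; rw [one_mul, one_mul]
      · right; rw [one_mul, one_mul]
      · right; rw [one_mul, mul_one]
      · left; rw [one_mul, hj]
      · right; rw [mul_one, mul_one]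
      · left; rw [mul_one, hj]
      · left; rw [hj, one_mul]
      · right; rw [hj, one_mul]
    rcases h1 with h1 | h1
    · left
      exact mul_inv_eq_iff_eq_mul.1 (mul_inv_eq_one.1 h1)
    · right
      rw [mul_inv_eq_iff_eq_mul, mul_inv_eq_iff_eq_mul] at h1
      rw [h1, mul_assoc]

theorem center_card : Nat.card (center Q) = 2 := by
  have hm : (center Q : Set Q) = {1, ⟨MulAut.conj (a * b), S.j_mem⟩} := by
    ext q
    rw [SetLike.mem_coe, mem_center_iff, Set.mem_insert_iff, Set.mem_singleton_iff]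
    constructor
    · intro h1
      rcases S.cent (α := (q : MulAut K)) (fun g hg => congrArg Subtype.val (h1 ⟨g, hg⟩)) with h2 | h2
      · exact Or.inl (Subtype.ext h2)
      · exact Or.inr (Subtype.ext h2)
    · rintro (rfl | rfl) g
      · rw [mul_one, one_mul]
      · exact Subtype.ext (S.j_comm g.2)
  have h1 : Nat.card (center Q) = (center Q : Set Q).ncard := rfl
  rw [h1, hm, Set.ncard_pair]
  intro h2
  exact S.j_ne (congrArg Subtype.val h2).symm

theorem center_map : (center Q).map Q.subtype = zpowers (MulAut.conj (a * b)) := by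
  apply le_antisymm
  · rintro _ ⟨q, hq, rfl⟩
    rw [SetLike.mem_coe, mem_center_iff] at hq
    rcases S.cent (α := (q : MulAut K)) (fun g hg => congrArg Subtype.val (hq ⟨g, hg⟩)) with h2 | h2
    · show (q : MulAut K) ∈ _
      rw [h2]; exact one_mem _
    · show (q : MulAut K) ∈ _
      rw [h2]; exact mem_zpowers _
  · rw [zpowers_le]
    exact ⟨⟨MulAut.conj (a * b), S.j_mem⟩, mem_center_iff.2 fun g => Subtype.ext (S.j_comm g.2), rfl⟩

theorem isPGroup : IsPGroup 2 Q := IsPGroup.of_card S.card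

theorem centralizer_eq : centralizer (Q : Set (MulAut K)) = (center Q).map Q.subtype := by
  rw [S.center_map]
  apply le_antisymm
  · intro α hα
    rcases S.cent (α := α) (fun g hg => mem_centralizer_iff.1 hα g hg) with h2 | h2
    · rw [h2]; exact one_mem _
    · rw [h2]; exact mem_zpowers _
  · rw [zpowers_le, mem_centralizer_iff]
    exact fun g hg => S.j_comm hg

theorem extraspecial : IsExtraspecial 2 Q := by
  have hf : Finite Q := Nat.finite_of_card_ne_zero (by rw [S.card]; norm_num)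
  apply Cfsg.Agent.J2.ExtQuot.isExtraspecial_two S.isPGroup S.center_card
  · intro x
    rw [mem_center_iff]
    intro g
    apply Subtype.ext
    show (g : MulAut K) * (x : MulAut K) ^ 2 = (x : MulAut K) ^ 2 * g
    rw [pow_two]
    rcases S.sq x.2 with h1 | h1 <;> rw [h1]
    · rw [mul_one, one_mul]
    · exact S.j_comm g.2
  · obtain ⟨x, hx, y, hy, hxy⟩ := S.F.R_nonab
    refine ⟨⟨_, S.conj_mem hx⟩, ⟨_, S.conj_mem hy⟩, fun h1 => ?_⟩
    have h2 : MulAut.conj x * MulAut.conj y = MulAut.conj y * MulAut.conj x := congrArg Subtype.val h1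
    rw [← map_mul, ← map_mul] at h2
    have h3 := conj_inj S.F h2
    apply z_ne S.F
    rw [← hxy, h3]
    group

/-- `Q` is normal in the centralizer of `conj (a b)` -/
theorem normal {g : MulAut K} (hg : g ∈ centralizer ({MulAut.conj (a * b)} : Set (MulAut K))) {q : MulAut K}
    (hq : q ∈ Q) : g * q * g⁻¹ ∈ Q := by
  have hgz := (mem_Cz S.F).1 hg
  rw [S.mem] at hq ⊢
  refine ⟨?_, fun x hx => ?_⟩
  · show g (q (g⁻¹ (a * b))) = a * b
    rw [inv_fix hgz, hq.1, hgz]
  · have h1 := map_P S.h S.ha S.hb S.F (inv_fix hgz) hx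
    have h2 := map_R S.h S.ha S.hb S.F hgz (hq.2 _ h1)
    rw [map_mul, map_inv, MulAut.apply_inv_self] at h2
    exact h2

theorem card_aut (ho : OutFix T) : Nat.card (MulAut K) = 2 * 64561751654400 := by
  have hf := S.finite
  set I : Subgroup (MulAut K) := (MulAut.conj : K →* MulAut K).range with hI
  have h1 : Nat.card I = 64561751654400 := by
    rw [← S.F.card]
    exact (Nat.card_congr (MonoidHom.ofInjective (conj_inj S.F)).toEquiv).symm
  have h2 := I.card_mul_index
  rw [h1] at h2
  rcases Cfsg.Agent.OddHalf.D8.Fi22.OutIdx.MulOuter.index_le S.h.out with h3 | h3 <;> rw [← hI] at h3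
  · exfalso
    obtain ⟨β, hβ, -⟩ := ho
    have h4 : β ∈ I := by rw [index_eq_one.1 h3]; trivial
    obtain ⟨x, hx⟩ := h4
    exact hβ x hx.symm
  · rw [h3] at h2
    omega

theorem large (ho : OutFix T) : IsLargeExtraspecial Q := by
  have hfin := S.finite
  refine ⟨S.extraspecial, S.centralizer_eq, ?_, ?_⟩
  · rw [S.center_map]
    intro g hg
    have hg' : g ∈ centralizer ({MulAut.conj (a * b)} : Set (MulAut K)) := by
      rw [mem_centralizer_singleton_iff]
      exact (mem_centralizer_iff.1 hg _ (mem_zpowers _)).symm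
    rw [mem_normalizer_iff]
    intro q
    refine ⟨fun hq => S.normal hg' hq, fun hq => ?_⟩
    have := S.normal (inv_mem hg') hq
    have e : g⁻¹ * (g * q * g⁻¹) * g⁻¹⁻¹ = q := by group
    rwa [e] at this
  · intro X hodd hX
    have hfa : Finite (MulAut K) := Nat.finite_of_card_ne_zero (by rw [S.card_aut ho]; norm_num)
    apply Cfsg.Agent.H833.OddSig.eq_bot S.act (k := 4) _ _ _ _ hodd hX
    · intro g hg q hq
      exact S.normal (mem_centralizer_singleton_iff.2 hg) hq
    · intro g hg
      exact S.mem_of_cent hg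
    · have h1 : Nat.card (Cfsg.Agent.H833.OddSig.Z Q) = 2 := by
        have h2 : Cfsg.Agent.H833.OddSig.Z Q = zpowers (MulAut.conj (a * b)) := by
          apply le_antisymm
          · intro g hg
            obtain ⟨h1, h2⟩ := Cfsg.Agent.H833.OddSig.mem_Z.1 hg
            rcases S.cent (α := g) h2 with h3 | h3
            · rw [h3]; exact one_mem _
            · rw [h3]; exact mem_zpowers _
          · rw [zpowers_le]
            exact S.act.j_Z
        rw [h2, Nat.card_zpowers]
        exact orderOf_eq_prime (by rw [pow_two, S.jj]) S.j_ne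
      rw [h1, S.card]
      norm_num
    · intro s hs h1 hdvd
      rw [S.card_aut ho] at hdvd
      -- a prime divisor
      obtain ⟨p, hp, hps⟩ := Nat.exists_prime_and_dvd (n := s) (by omega)
      have hp2 : p ≠ 2 := by
        rintro rfl
        exact (Nat.not_even_iff_odd.2 hs) (even_iff_two_dvd.2 hps)
      have h3 : p ^ 10 ∣ 2 * 64561751654400 :=
        ((pow_dvd_pow_of_dvd hps 10).trans (pow_dvd_pow s (by norm_num))).trans hdvd
      have h4 : p ≤ 26 := by
        by_contra hcon
        push Not at hcon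
        have h5 := Nat.le_of_dvd (by norm_num) h3
        have h6 : 27 ^ 10 ≤ p ^ 10 := Nat.pow_le_pow_left hcon 10
        have h7 : (27 : ℕ) ^ 10 = 205891132094649 := by norm_num
        omega
      have h5 : 2 ≤ p := hp.two_le
      interval_cases p <;> omega

end Star

end Cfsg.Agent.H833.AutStar
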