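import Cfsg.Agent.H830.OutInv22

/-!
# The fixed points of the flip times `d` (helper833)

* `fixed_iff` : they are the fixed points of the flip commuting with `d`;
* `iso` : this group is `2 × Sp6(2)`.
-/

set_option autoImplicit false
set_option maxRecDepth 100000

namespace Cfsg.Agent.H833.CaseD

open Subgroup Cfsg Cfsg.Spor Cfsg.Spor.Fi22 Cfsg.Agent.LieClassical.HermBasic
open Cfsg.Agent.Lib.PermNet Cfsg.Agent.Lib.PermNetOrbit
open Cfsg.Agent.ClassicalGeometry.UnitTransv Cfsg.Agent.SporadicStructure.UnitTwo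
open Cfsg.Agent.R01.Lifts Cfsg.Agent.R01.PSUSix Cfsg.Agent.R01.Label Cfsg.Agent.R01.InvForm
open Cfsg.Agent.R01.ComLabel (Iso)
open Cfsg.Agent.R01.Start (zel)
open Cfsg.Agent.U62.Semi Cfsg.Agent.U62.Semi2 Cfsg.Agent.CpAut.UnitInv Cfsg.Agent.H830.SemiConj
open Cfsg.Agent.SporRec.GF4 (F4)
open Cfsg.Agent.Fischer.Unit22 (hF)
open Cfsg.Agent.Fischer.Fi22PtsRep Cfsg.Agent.Fischer.Fi22Order
open Cfsg.Agent.H833.Flip
open Cfsg.Agent.CpAut.TwoAbs (restr)
open Cfsg.Agent.CpAut.Fi22Row (inv_cent)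
open Cfsg.Agent.CpAut.UnitFix (Sp6 toPSp exists_theta)
open Cfsg.Agent.H830.OutInv22
open Cfsg.Agent.H836.EightData Cfsg.Agent.H836.EightChk Cfsg.Agent.H836.EightPts
open Cfsg.Agent.H836.EightCent (lt12 mv_false)
open Cfsg.Agent.H836.EightBlk (labV exists_code lab_surj lab_q comm_iff in_M1_d lab_d lab_inj fx_of_M1)
open Cfsg.Agent.H836.EightMain (in_M1_of_comm_d ρ ρ_d d_mem)
open Cfsg.Agent.StdO8.Model (V q B)
open Cfsg.Agent.StdO8.Code (dec qn Bn cc dec_surj dec_inj q_dec B_dec cc_inj)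

/-! ### The fixed points -/

/-- the points fixed by the flip times `d` are in the block and commute with `d` -/
theorem chk : Nat.beq (Nat.lor (mv (sN :: nw [.d])) (Nat.land M1 (Nat.xor U (mv (nw [.d]))))) U = true := by
  decide +kernel

/-- the flip times `d` -/
noncomputable def td : MulAut Spor.Fi22 := flipA * MulAut.conj (gen .d)

theorem td_tp (x : X) : td (tp x) = tp (fl (gen .d • x)) := by
  show flipA (MulAut.conj (gen .d) (tp x)) = _
  rw [MulAut.conj_apply, ← tp_smul, flipA_tp]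

theorem td_d : td (gen .d) = gen .d := by
  show flipA (MulAut.conj (gen .d) (gen .d)) = _
  rw [MulAut.conj_apply, mul_inv_cancel_right, flip_d]

theorem wok_d : WOk (2 ^ 12) (sN :: nw [.d]) := WOk.cons sN_ok (nw_ok _)

theorem fixed_point {x : X} (h : td (tp x) = tp x) : In M1 x ∧ tp (pg .d) • x = x := by
  have h0 : fl (gen .d • x) = x := tp_inj (by rw [← td_tp]; exact h)
  have h1 : wperm (sN :: nw [.d]) x.1 = x.1 := by
    rw [wperm_cons, Equiv.Perm.mul_apply, wperm_eq, wd_cons, wd_nil, mul_one]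
    exact congrArg Subtype.val h0
  have h2 : (mv (sN :: nw [.d])).testBit x.1 = false := by
    cases h3 : (mv (sN :: nw [.d])).testBit x.1
    · rfl
    · exact absurd h1 ((testBit_mv wok_d (lt12 x)).1 h3)
  have h4 := testBit_U.2 x.2
  rw [← Nat.eq_of_beq_eq_true chk, nor, h2, Bool.false_or, nand, nxor, Bool.and_eq_true, testBit_U.2 x.2] at h4
  refine ⟨h4.1, ?_⟩
  have h5 : (mv (nw [.d])).testBit x.1 = false := by
    cases h6 : (mv (nw [.d])).testBit x.1
    · rfl
    · rw [h6] at h4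
      exact absurd h4.2 (by decide)
  rw [mv_false] at h5
  rw [tp_pg]
  simpa [wd] using h5

/-- A member of the block commuting with `d`, different from `d`, does not commute with all of them. -/
theorem exists_not {x : X} (hx1 : In M1 x) (hxd : tp (pg .d) • x = x) (hne : x ≠ pg .d) :
    ∃ w, In M1 w ∧ tp (pg .d) • w = w ∧ tp x • w ≠ w := by
  obtain ⟨n, hn, hnx, -⟩ := exists_code x
  have hqn : qn n = true := by
    have h1 := lab_q hx1
    rw [hnx, q_dec] at h1
    cases h2 : qn n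
    · rw [h2] at h1
      exact absurd h1 (by decide)
    · rfl
  have hBn : Bn 137 n = false := by
    have h1 := hxd
    rw [comm_iff in_M1_d hx1, lab_d, hnx, B_dec] at h1
    cases h2 : Bn 137 n
    · rfl
    · rw [h2] at h1
      exact absurd h1 (by decide)
  have hn137 : n ≠ 137 := by
    rintro rfl
    exact hne (lab_inj hx1 in_M1_d (by rw [hnx, lab_d]))
  obtain ⟨m, hm1, hm2, hm3⟩ := table ⟨n, hn⟩ hqn hn137 hBn
  obtain ⟨w, hw, hwl⟩ := lab_surj (v := dec m.1) (by rw [q_dec, hm1]; rfl)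
  refine ⟨w, hw, ?_, ?_⟩
  · rw [comm_iff in_M1_d hw, lab_d, hwl, B_dec, hm2]
    rfl
  · intro h1
    rw [comm_iff hx1 hw, hnx, hwl, B_dec, show Bn n m.1 = true from hm3] at h1
    exact absurd h1 (by decide)

/-- **(D1)** -/
theorem fixed_iff (g : Spor.Fi22) : (flipA * MulAut.conj (gen .d)) g = g ↔
    g ∈ Cs ⊓ centralizer ({gen .d} : Set Spor.Fi22) := by
  rw [mem_inf, mem_centralizer_singleton_iff, mem_Cs]
  constructor
  · intro hg
    have hg' : td g = g := hg
    -- the conjugates of fixed elements are fixed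
    have hfix : ∀ (k : Spor.Fi22), td k = k → ∀ y, td (tp y) = tp y → td (tp (k • y)) = tp (k • y) := by
      intro k hk y hy
      rw [tp_smul, map_mul, map_mul, map_inv, hk, hy]
    have hgi : td g⁻¹ = g⁻¹ := by rw [map_inv, hg']
    have h1 : td (tp (g • pg .d)) = tp (g • pg .d) := hfix g hg' _ (by rw [tp_pg, td_d])
    obtain ⟨h2, h3⟩ := fixed_point h1
    have hcd : g * gen .d = gen .d * g := by
      by_contra hcon
      have hne : g • pg .d ≠ pg .d := by
        intro h4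
        apply hcon
        rw [← tp_pg]
        exact (smul_eq_iff g _).1 h4
      obtain ⟨w, hw1, hw2, hw3⟩ := exists_not h2 h3 hne
      have hw : td (tp w) = tp w := by
        rw [td_tp]
        have h5 : gen .d • w = w := by rw [← tp_pg]; exact hw2
        rw [h5, (fl_eq_iff w).2 (fx_of_M1 hw1)]
      obtain ⟨-, h6⟩ := fixed_point (hfix g⁻¹ hgi w hw)
      apply hw3
      -- `d` commutes with `g⁻¹ w`, so `g d` commutes with `w`
      rw [tp_smul, mul_smul, mul_smul, h6, smul_inv_smul]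
    refine ⟨?_, hcd⟩
    have h7 : flipA (gen .d * g * (gen .d)⁻¹) = g := hg
    rwa [← hcd, mul_inv_cancel_right] at h7
  · rintro ⟨h1, h2⟩
    show flipA (gen .d * g * (gen .d)⁻¹) = g
    rw [← h2, mul_inv_cancel_right, h1]

/-! ### The structure -/

/-- the map onto `Sp6(2)` -/
theorem exists_map : ∃ θ : ↥(Cs ⊓ centralizer ({gen .d} : Set Spor.Fi22)) →* Sp6, Function.Surjective θ ∧
    ∀ c, θ c = 1 ↔ (c : Spor.Fi22) = 1 ∨ (c : Spor.Fi22) = gen .d := by
  obtain ⟨π, lift, L, hT⟩ := Cfsg.Agent.R01.Fi22Facts.loc _ (gen_mem .d)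
  obtain ⟨φ, g, k, hN, hφφ, hφ⟩ := type_flip L hT
  let a : MulAut ↥(centralizer ({gen .d} : Set Spor.Fi22)) :=
    restr flipA_sq (centralizer ({gen .d} : Set Spor.Fi22)) (inv_cent (x := flipA) ⟨gen .d, flip_d⟩)
  have haz : a (zel (gen .d)) = zel (gen .d) := Subtype.ext flip_d
  have ha : ∀ v, Iso F4 v → a (lift v) = lift (φ v) := fun v hv => Subtype.ext (hφ v hv)
  have hk : ∀ i, φ (k i) = k i := by
    intro i
    fin_cases i
    · have := hN.k0
      rwa [zero_smul, add_zero] at this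
    · exact hN.k1
    · exact hN.k2
  obtain ⟨θ, hθ, hker⟩ := exists_theta L haz hN.sem ha hφφ hN.hyp hN.fg hk
  have hto : ∀ c : ↥(Cs ⊓ centralizer ({gen .d} : Set Spor.Fi22)),
      (⟨c, (mem_inf.1 c.2).2⟩ : ↥(centralizer ({gen .d} : Set Spor.Fi22))) ∈
        Cfsg.fixedSubgroup a := fun c =>
    Subtype.ext (mem_Cs.1 (mem_inf.1 c.2).1)
  let f : ↥(Cs ⊓ centralizer ({gen .d} : Set Spor.Fi22)) →* ↥(Cfsg.fixedSubgroup a) :=
    { toFun := fun c => ⟨⟨c, (mem_inf.1 c.2).2⟩, hto c⟩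
      map_one' := rfl
      map_mul' := fun _ _ => rfl }
  have hf : Function.Surjective f := by
    rintro ⟨⟨c, hc⟩, hc'⟩
    exact ⟨⟨c, mem_inf.2 ⟨mem_Cs.2 (congrArg Subtype.val hc'), hc⟩⟩, rfl⟩
  refine ⟨θ.comp f, hθ.comp hf, fun c => ?_⟩
  show θ (f c) = 1 ↔ _
  rw [hker]
  constructor
  · rintro (h | h)
    · exact Or.inl (congrArg Subtype.val h)
    · exact Or.inr (congrArg Subtype.val h)
  · rintro (h | h)
    · exact Or.inl (Subtype.ext h)
    · exact Or.inr (Subtype.ext h)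

theorem z2_mul : ∀ u x y : Multiplicative (ZMod 2), y ≠ 1 → ¬ x = u → x * y = u := by decide

/-- **(D2)** -/
theorem iso : Nonempty (↥(Cs ⊓ centralizer ({gen .d} : Set Spor.Fi22)) ≃*
    Multiplicative (ZMod 2) × PSp 3 (ZMod 2)) := by
  obtain ⟨θ, hθ, hker⟩ := exists_map
  have hdm : gen .d ∈ Cs ⊓ centralizer ({gen .d} : Set Spor.Fi22) :=
    mem_inf.2 ⟨d_mem, mem_centralizer_singleton_iff.2 rfl⟩
  -- the sign on the blocks
  have hp2 : Fact (Nat.Prime 2) := ⟨Nat.prime_two⟩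
  let E : ℤˣ ≃* Multiplicative (ZMod 2) := mulEquivOfPrimeCardEq (p := 2) (by simp [Nat.card_eq_fintype_card])
    (by simp)
  let χ : ↥(Cs ⊓ centralizer ({gen .d} : Set Spor.Fi22)) →* Multiplicative (ZMod 2) :=
    E.toMonoidHom.comp ((Equiv.Perm.sign : Equiv.Perm (Fin 3) →* ℤˣ).comp
      (ρ.comp (inclusion (inf_le_left : Cs ⊓ centralizer ({gen .d} : Set Spor.Fi22) ≤ Cs))))
  have hρ : ρ ⟨gen .d, d_mem⟩ = Equiv.swap 1 2 := by
    have h1 := ρ_d
    have hsq : ρ ⟨gen .d, d_mem⟩ * ρ ⟨gen .d, d_mem⟩ = 1 := by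
      rw [← map_mul]
      have : (⟨gen .d, d_mem⟩ : Cs) * ⟨gen .d, d_mem⟩ = 1 := Subtype.ext (gen_sq .d)
      rw [this, map_one]
    revert h1 hsq
    generalize ρ ⟨gen .d, d_mem⟩ = σ
    revert σ
    decide
  have hχd : χ ⟨gen .d, hdm⟩ ≠ 1 := by
    intro h
    have h1 : E (Equiv.Perm.sign (ρ ⟨gen .d, d_mem⟩)) = 1 := h
    rw [hρ, Equiv.Perm.sign_swap (by decide)] at h1
    have h2 : (-1 : ℤˣ) = 1 := E.injective (by rw [h1, map_one])
    exact absurd h2 (by decide)
  have hθd : θ ⟨gen .d, hdm⟩ = 1 := (hker _).2 (Or.inr rfl)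
  let F : ↥(Cs ⊓ centralizer ({gen .d} : Set Spor.Fi22)) →* Multiplicative (ZMod 2) × PSp 3 (ZMod 2) :=
    χ.prod (toPSp.toMonoidHom.comp θ)
  have hF : Function.Bijective F := by
    constructor
    · rw [injective_iff_map_eq_one]
      intro c hc
      have h3 : χ c = 1 := congrArg Prod.fst hc
      have h4 : toPSp (θ c) = 1 := congrArg Prod.snd hc
      have h5 : θ c = 1 := toPSp.injective (by rw [h4, map_one])
      rcases (hker c).1 h5 with h | h
      · exact Subtype.ext h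
      · exfalso
        apply hχd
        rw [← h3]
        congr 1
        exact Subtype.ext h.symm
    · rintro ⟨u, M⟩
      obtain ⟨M, rfl⟩ := toPSp.surjective M
      obtain ⟨c, rfl⟩ := hθ M
      by_cases hu : χ c = u
      · exact ⟨c, Prod.ext hu rfl⟩
      · refine ⟨c * ⟨gen .d, hdm⟩, Prod.ext ?_ ?_⟩
        · show χ (c * _) = u
          rw [map_mul]
          exact z2_mul u _ _ hχd hu
        · show toPSp (θ (c * _)) = toPSp (θ c)
          rw [map_mul, hθd, mul_one]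
  exact ⟨MulEquiv.ofBijective F hF⟩

theorem card_PSp : Nat.card (PSp 3 (ZMod 2)) = 1451520 := by
  rw [← Nat.card_congr toPSp.toEquiv, Cfsg.Agent.CpAut.UnitFix.card_sp6]

end Cfsg.Agent.H833.CaseD
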