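import Cfsg.Agent.R01.PSUSix

/-!
# Transvections on a totally isotropic line of `SU 4 F 2`, `|F| = 4` (helper833)

* `three_ne_one` : the product of three commuting transvections is not `1`;
* `no_fix` : if the product of five commuting transvections is `1`, no element fixes three of them and maps the
  fourth one onto the fifth one.
-/

set_option autoImplicit false

namespace Cfsg.Agent.H833.Line

open Cfsg Cfsg.Agent.LieClassical.HermBasic Cfsg.Agent.ClassicalGeometry.UnitTransv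
open Cfsg.Agent.SporadicStructure.UnitTwo Cfsg.Agent.R01.PSUSix
open Cfsg.Agent.ClassicalGeometry.UnitAutBasic (tau pr)

variable {F : Type*} [Field F] [Fintype F] (hF : Fintype.card F = 2 ^ 2) {n : ℕ}

theorem T_congr {v w : Fin n → F} (hv : hermForm n F 2 v v = 0) (hw : hermForm n F 2 w w = 0) (h : v = w) :
    T hF v hv = T hF w hw := by
  subst h; rfl

theorem T_smul {v : Fin n → F} (hv : hermForm n F 2 v v = 0) {c : F} (hc : c ≠ 0)
    (hw : hermForm n F 2 (c • v) (c • v) = 0) : T hF (c • v) hw = T hF v hv := by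
  apply ext_act
  intro x
  rw [act_T, act_T, herm_smul_right, smul_smul]
  congr 2
  have := pow_three hF hc
  linear_combination hermForm n F 2 x v * this

theorem T_par (hn : 3 ≤ n) {v w : Fin n → F} (hv : hermForm n F 2 v v = 0) (hw : hermForm n F 2 w w = 0)
    (h0 : v ≠ 0) (h : T hF v hv = T hF w hw) : ∃ c : F, c ≠ 0 ∧ w = c • v := by
  rw [← tau_eq_iff hF hn hv hw h0, tau_eq_pr hF hv, tau_eq_pr hF hw, h]

theorem T_ne_one {v : Fin n → F} (hv : hermForm n F 2 v v = 0) (h0 : v ≠ 0) : T hF v hv ≠ 1 := by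
  intro h
  obtain ⟨x, hx⟩ := exists_herm_ne_zero hF h0
  have h1 := act_T hF v hv x
  rw [h, act_one, left_eq_add] at h1
  rcases smul_eq_zero.1 h1 with h2 | h2
  · exact hx (herm_eq_zero_swap hF h2)
  · exact h0 h2

/-- The product of three commuting transvections is not `1`. -/
theorem three_ne_one {v1 v2 v3 : Fin n → F} (h1 : hermForm n F 2 v1 v1 = 0)
    (h2 : hermForm n F 2 v2 v2 = 0) (h3 : hermForm n F 2 v3 v3 = 0) (n1 : v1 ≠ 0) (n2 : v2 ≠ 0) (n3 : v3 ≠ 0)
    (h12 : hermForm n F 2 v2 v1 = 0) (h13 : hermForm n F 2 v3 v1 = 0) (h23 : hermForm n F 2 v3 v2 = 0) :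
    T hF v1 h1 * T hF v2 h2 * T hF v3 h3 ≠ 1 := by
  intro h
  have hS : ∀ x : Fin n → F, hermForm n F 2 x v1 • v1 + hermForm n F 2 x v2 • v2 +
      hermForm n F 2 x v3 • v3 = 0 := by
    intro x
    have e := congrArg (fun g => act g x) h
    simp only [act_mul, act_one] at e
    rw [act_T hF v3, act_T hF v2, act_T hF v1] at e
    simp only [herm_add_left, herm_smul_left, h12, h13, h23, mul_zero, add_zero] at e
    have : hermForm n F 2 x v1 • v1 + hermForm n F 2 x v2 • v2 + hermForm n F 2 x v3 • v3 =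
        (x + hermForm n F 2 x v3 • v3 + hermForm n F 2 x v2 • v2 + hermForm n F 2 x v1 • v1) - x := by abel
    rw [this, e, sub_self]
  by_cases hp : ∃ c : F, v2 = c • v1
  · obtain ⟨c, rfl⟩ := hp
    have hc : c ≠ 0 := by rintro rfl; exact n2 (zero_smul _ _)
    rw [T_smul hF h1 hc, T_mul_self, one_mul] at h
    exact T_ne_one hF h3 n3 h
  · obtain ⟨x, hx1, hx2⟩ := exists_perp_ne hF n1 hp
    have hx2' : hermForm n F 2 x v2 ≠ 0 := fun h0 => hx2 (herm_eq_zero_swap hF h0)
    have e := hS x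
    rw [hx1, zero_smul, zero_add] at e
    have e2 : v2 = (- (hermForm n F 2 x v2)⁻¹ * hermForm n F 2 x v3) • v3 := by
      have e3 : hermForm n F 2 x v2 • v2 = - (hermForm n F 2 x v3 • v3) := eq_neg_of_add_eq_zero_left e
      calc v2 = (hermForm n F 2 x v2)⁻¹ • (hermForm n F 2 x v2 • v2) := by
            rw [smul_smul, inv_mul_cancel₀ hx2', one_smul]
        _ = _ := by rw [e3, smul_neg, smul_smul, neg_mul, neg_smul]
    set c := - (hermForm n F 2 x v2)⁻¹ * hermForm n F 2 x v3 with hc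
    have hc0 : c ≠ 0 := by
      intro h0
      rw [h0, zero_smul] at e2
      exact n2 e2
    have e3 : T hF v2 h2 = T hF v3 h3 := by
      have h2' : hermForm n F 2 (c • v3) (c • v3) = 0 := by rw [← e2]; exact h2
      rw [T_congr hF h2 h2' e2, T_smul hF h3 hc0]
    rw [e3, mul_assoc, T_mul_self, mul_one] at h
    exact T_ne_one hF h1 n1 h

include hF in
/-- A vector orthogonal to a totally isotropic line of the 4-space is on the line. -/
theorem mem_line {v1 v2 v3 : Fin 4 → F} (h1 : hermForm 4 F 2 v1 v1 = 0)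
    (h2 : hermForm 4 F 2 v2 v2 = 0) (n1 : v1 ≠ 0) (hp : ¬ ∃ c : F, v2 = c • v1)
    (h12 : hermForm 4 F 2 v1 v2 = 0) (h13 : hermForm 4 F 2 v3 v1 = 0) (h23 : hermForm 4 F 2 v3 v2 = 0) :
    ∃ a b : F, v3 = a • v1 + b • v2 := by
  let Φ : (Fin 4 → F) →ₗ[F] (Fin 2 → F) :=
    { toFun := fun x => ![hermForm 4 F 2 x v1, hermForm 4 F 2 x v2]
      map_add' := fun x y => by
        funext i
        fin_cases i <;> simp [herm_add_left]
      map_smul' := fun c x => by
        funext i
        fin_cases i <;> simp [herm_smul_left] }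
  have n2 : v2 ≠ 0 := fun h => hp ⟨0, by rw [h, zero_smul]⟩
  have hp' : ¬ ∃ c : F, v1 = c • v2 := by
    rintro ⟨c, hc⟩
    apply hp
    have hc0 : c ≠ 0 := by rintro rfl; exact n1 (by rw [hc, zero_smul])
    exact ⟨c⁻¹, by rw [hc, smul_smul, inv_mul_cancel₀ hc0, one_smul]⟩
  obtain ⟨x, hx1, hx2⟩ := exists_perp_ne hF n1 hp
  obtain ⟨y, hy1, hy2⟩ := exists_perp_ne hF n2 hp'
  have hx2' : hermForm 4 F 2 x v2 ≠ 0 := fun h0 => hx2 (herm_eq_zero_swap hF h0)
  have hy2' : hermForm 4 F 2 y v1 ≠ 0 := fun h0 => hy2 (herm_eq_zero_swap hF h0)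
  have hsurj : Function.Surjective Φ := by
    intro t
    refine ⟨(t 0 * (hermForm 4 F 2 y v1)⁻¹) • y + (t 1 * (hermForm 4 F 2 x v2)⁻¹) • x, ?_⟩
    funext i
    fin_cases i
    · show hermForm 4 F 2 _ v1 = t 0
      rw [herm_add_left, herm_smul_left, herm_smul_left, hx1, mul_zero, add_zero, mul_assoc,
        inv_mul_cancel₀ hy2', mul_one]
    · show hermForm 4 F 2 _ v2 = t 1
      rw [herm_add_left, herm_smul_left, herm_smul_left, hy1, mul_zero, zero_add, mul_assoc,
        inv_mul_cancel₀ hx2', mul_one]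
  have hr : Module.finrank F (LinearMap.ker Φ) = 2 := by
    have e := LinearMap.finrank_range_add_finrank_ker Φ
    rw [LinearMap.range_eq_top.2 hsurj, finrank_top, Module.finrank_fin_fun, Module.finrank_fin_fun] at e
    omega
  have hli : LinearIndependent F ![v1, v2] := by
    rw [LinearIndependent.pair_iff' n1]
    intro a ha
    exact hp ⟨a, ha.symm⟩
  have hspan : Submodule.span F (Set.range ![v1, v2]) = LinearMap.ker Φ := by
    apply Submodule.eq_of_le_of_finrank_eq
    · rw [Submodule.span_le]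
      rintro _ ⟨i, rfl⟩
      rw [SetLike.mem_coe, LinearMap.mem_ker]
      have h21 := herm_eq_zero_swap hF h12
      funext j
      fin_cases i <;> fin_cases j
      · exact h1
      · exact h12
      · exact h21
      · exact h2
    · rw [finrank_span_eq_card hli, hr, Fintype.card_fin]
  have h3 : v3 ∈ LinearMap.ker Φ := by
    rw [LinearMap.mem_ker]
    funext j
    fin_cases j
    · exact h13
    · exact h23
  rw [← hspan, Matrix.range_cons, Matrix.range_cons, Matrix.range_empty, Set.union_empty,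
    Set.singleton_union, Submodule.mem_span_pair] at h3
  obtain ⟨a, b, h⟩ := h3
  exact ⟨a, b, h.symm⟩

/-- If `k` centralizes a transvection it acts as a scalar on the centre. -/
theorem act_of_conj {k : SU 4 F 2} {v w : Fin 4 → F} (hv : hermForm 4 F 2 v v = 0)
    (hw : hermForm 4 F 2 w w = 0) (n1 : w ≠ 0) (h : k * T hF v hv * k⁻¹ = T hF w hw) :
    ∃ c : F, c ≠ 0 ∧ act k v = c • w := by
  rw [conj_T hF k v hv (by rw [herm_act, hv])] at h
  exact T_par hF (by norm_num) hw _ n1 h.symm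

/-- **No element fixes three of the five points and moves the fourth one to the fifth one.** -/
theorem no_fix (v : Fin 5 → Fin 4 → F) (hv : ∀ i, hermForm 4 F 2 (v i) (v i) = 0) (h0 : ∀ i, v i ≠ 0)
    (ho : ∀ i j, hermForm 4 F 2 (v i) (v j) = 0)
    (hp : T hF (v 0) (hv 0) * T hF (v 1) (hv 1) * T hF (v 2) (hv 2) * T hF (v 3) (hv 3) *
      T hF (v 4) (hv 4) = 1) (k : SU 4 F 2)
    (k0 : k * T hF (v 0) (hv 0) * k⁻¹ = T hF (v 0) (hv 0))
    (k1 : k * T hF (v 1) (hv 1) * k⁻¹ = T hF (v 1) (hv 1))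
    (k2 : k * T hF (v 2) (hv 2) * k⁻¹ = T hF (v 2) (hv 2))
    (k3 : k * T hF (v 3) (hv 3) * k⁻¹ = T hF (v 4) (hv 4)) : False := by
  have hcomm : ∀ i j, T hF (v i) (hv i) * T hF (v j) (hv j) = T hF (v j) (hv j) * T hF (v i) (hv i) := by
    intro i j
    apply ext_act
    intro x
    rw [act_mul, act_mul, act_T hF (v j), act_T hF (v i), act_T hF (v i), act_T hF (v j)]
    simp only [herm_add_left, herm_smul_left, ho, mul_zero, add_zero]
    abel
  have hsq : ∀ i, T hF (v i) (hv i) * T hF (v i) (hv i) = 1 := fun i => T_mul_self hF (v i) (hv i)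
  -- different points
  have d34 : ¬ ∃ c : F, v 4 = c • v 3 := by
    rintro ⟨c, hc⟩
    have hc0 : c ≠ 0 := by rintro rfl; exact h0 4 (by rw [hc, zero_smul])
    have e : T hF (v 4) (hv 4) = T hF (v 3) (hv 3) := by
      rw [T_congr hF (hv 4) (by rw [← hc]; exact hv 4) hc, T_smul hF (hv 3) hc0]
    rw [e, mul_assoc, hsq, mul_one] at hp
    exact three_ne_one hF (hv 0) (hv 1) (hv 2) (h0 0) (h0 1) (h0 2) (ho _ _) (ho _ _) (ho _ _) hp
  have dd : ∀ (i j k l m : Fin 5), T hF (v i) (hv i) * T hF (v j) (hv j) * T hF (v k) (hv k) *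
      T hF (v l) (hv l) * T hF (v m) (hv m) = 1 → ¬ ∃ c : F, v j = c • v i := by
    intro i j k l m h
    rintro ⟨c, hc⟩
    have hc0 : c ≠ 0 := by rintro rfl; exact h0 j (by rw [hc, zero_smul])
    have e : T hF (v j) (hv j) = T hF (v i) (hv i) := by
      rw [T_congr hF (hv j) (by rw [← hc]; exact hv j) hc, T_smul hF (hv i) hc0]
    rw [e, hsq, one_mul] at h
    exact three_ne_one hF (hv k) (hv l) (hv m) (h0 _) (h0 _) (h0 _) (ho _ _) (ho _ _) (ho _ _) h
  have d01 := dd 0 1 2 3 4 hp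
  have d02 := dd 0 2 1 3 4 (by
    rw [mul_assoc (T hF (v 0) (hv 0)), hcomm 2 1, ← mul_assoc]; exact hp)
  have d12 := dd 1 2 0 3 4 (by
    rw [mul_assoc (T hF (v 1) (hv 1)), hcomm 2 0, ← mul_assoc, hcomm 1 0]; exact hp)
  obtain ⟨c0, -, e0⟩ := act_of_conj hF (hv 0) (hv 0) (h0 0) k0
  obtain ⟨c1, -, e1⟩ := act_of_conj hF (hv 1) (hv 1) (h0 1) k1
  obtain ⟨c2, -, e2⟩ := act_of_conj hF (hv 2) (hv 2) (h0 2) k2
  obtain ⟨c3, hc3, e3⟩ := act_of_conj hF (hv 3) (hv 4) (h0 4) k3
  obtain ⟨a, b, hab⟩ := mem_line hF (hv 0) (hv 1) (h0 0) d01 (ho 0 1) (ho 2 0) (ho 2 1)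
  obtain ⟨a', b', hab'⟩ := mem_line hF (hv 0) (hv 1) (h0 0) d01 (ho 0 1) (ho 3 0) (ho 3 1)
  have hli : LinearIndependent F ![v 0, v 1] := by
    rw [LinearIndependent.pair_iff' (h0 0)]
    intro a ha
    exact d01 ⟨a, ha.symm⟩
  rw [LinearIndependent.pair_iff] at hli
  have ha : a ≠ 0 := by
    rintro rfl
    apply d12
    exact ⟨b, by rw [hab, zero_smul, zero_add]⟩
  have hb : b ≠ 0 := by
    rintro rfl
    apply d02
    exact ⟨a, by rw [hab, zero_smul, add_zero]⟩
  have h1 : (a * c0 - c2 * a) • v 0 + (b * c1 - c2 * b) • v 1 = 0 := by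
    have e4 : act k (v 2) = (a * c0) • v 0 + (b * c1) • v 1 := by
      conv_lhs => rw [hab]
      rw [act_add, act_smul, act_smul, e0, e1, smul_smul, smul_smul]
    have e5 : act k (v 2) = (c2 * a) • v 0 + (c2 * b) • v 1 := by
      rw [e2]
      conv_lhs => rw [hab]
      rw [smul_add, smul_smul, smul_smul]
    rw [sub_smul, sub_smul]
    calc (a * c0) • v 0 - (c2 * a) • v 0 + ((b * c1) • v 1 - (c2 * b) • v 1)
        = ((a * c0) • v 0 + (b * c1) • v 1) - ((c2 * a) • v 0 + (c2 * b) • v 1) := by abel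
      _ = 0 := by rw [← e4, ← e5, sub_self]
  obtain ⟨f1, f2⟩ := hli _ _ h1
  have g1 : c0 = c2 := mul_left_cancel₀ ha (by linear_combination f1)
  have g2 : c1 = c2 := mul_left_cancel₀ hb (by linear_combination f2)
  have e6 : act k (v 3) = c2 • v 3 := by
    conv_lhs => rw [hab']
    conv_rhs => rw [hab']
    rw [act_add, act_smul, act_smul, e0, e1, g1, g2, smul_add, smul_comm, smul_comm b']
  apply d34
  refine ⟨c3⁻¹ * c2, ?_⟩
  rw [mul_smul, ← e6, e3, smul_smul, inv_mul_cancel₀ hc3, one_smul]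

end Cfsg.Agent.H833.Line
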