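import Cfsg.Agent.KFacts.FiTT.AllPairs
import Cfsg.Agent.H833.Line

/-!
# `C_K(d d')` interchanges the classes of involutions: no element interchanging `d` and `d'` centralizes
`C_K(d, d') / R` (helper833)

* `exists_seven` : seven commuting transpositions with product `1` and an element interchanging two pairs of them;
* `Base.not_central` : if `p` interchanges `d` and `d2`, it does not centralize `C_K(d, d2) / R`.
-/

set_option autoImplicit false

namespace Cfsg.Agent.H833.CentPair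

open Cfsg Cfsg.Agent.LieClassical.HermBasic Cfsg.Agent.ClassicalGeometry.UnitTransv
open Cfsg.Agent.SporadicStructure.UnitTwo Cfsg.Agent.R01.PSUSix
open Cfsg.Agent.ClassicalGeometry.UnitAutBasic (tau pr pr_surjective)
open Cfsg.Agent.R01.Lifts Cfsg.Agent.R01.Label Cfsg.Agent.R01.Start Cfsg.Agent.R01.Loc
open Cfsg.Agent.KFacts.FiTT Cfsg.Agent.KFacts.FiTT.Levi Cfsg.Agent.KFacts.FiTT.Cent
  Cfsg.Agent.KFacts.FiTT.Radical Cfsg.Agent.KFacts.FiTT.Hept

universe v w

/-- Seven commuting transpositions `δ, δ', x 0, …, x 4` with product `1` and an element interchanging `δ`, `δ'`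
and `x 3`, `x 4`. -/
structure Seven {K : Type v} [Group K] (T : Set K) (a b r : K) (x : Fin 5 → K) : Prop where
  ma : a ∈ T
  mb : b ∈ T
  ne : a ≠ b
  cab : a * b = b * a
  m : ∀ i, x i ∈ T
  ca : ∀ i, x i * a = a * x i
  cb : ∀ i, x i * b = b * x i
  na : ∀ i, x i ≠ a
  nb : ∀ i, x i ≠ b
  cc : ∀ i j, x i * x j = x j * x i
  prod : x 0 * x 1 * x 2 * x 3 * x 4 = a * b
  ra : r * a * r⁻¹ = b
  rb : r * b * r⁻¹ = a
  r0 : r * x 0 * r⁻¹ = x 0
  r1 : r * x 1 * r⁻¹ = x 1
  r2 : r * x 2 * r⁻¹ = x 2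
  r3 : r * x 3 * r⁻¹ = x 4

theorem Seven.map {K : Type v} [Group K] {K' : Type w} [Group K'] {T : Set K} {a b r : K} {x : Fin 5 → K}
    (S : Seven T a b r x) (e : K →* K') (he : Function.Injective e) {T' : Set K'}
    (hT : ∀ x ∈ T, e x ∈ T') : Seven T' (e a) (e b) (e r) (fun i => e (x i)) where
  ma := hT _ S.ma
  mb := hT _ S.mb
  ne := fun h => S.ne (he h)
  cab := by rw [← map_mul, ← map_mul, S.cab]
  m i := hT _ (S.m i)
  ca i := by rw [← map_mul, ← map_mul, S.ca]
  cb i := by rw [← map_mul, ← map_mul, S.cb]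
  na i := fun h => S.na i (he h)
  nb i := fun h => S.nb i (he h)
  cc i j := by rw [← map_mul, ← map_mul, S.cc]
  prod := by rw [← map_mul, ← map_mul, ← map_mul, ← map_mul, ← map_mul, S.prod]
  ra := by rw [← map_mul, ← map_inv, ← map_mul, S.ra]
  rb := by rw [← map_mul, ← map_inv, ← map_mul, S.rb]
  r0 := by rw [← map_mul, ← map_inv, ← map_mul, S.r0]
  r1 := by rw [← map_mul, ← map_inv, ← map_mul, S.r1]
  r2 := by rw [← map_mul, ← map_inv, ← map_mul, S.r2]
  r3 := by rw [← map_mul, ← map_inv, ← map_mul, S.r3]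

/-! ### The heptad relation with orthogonality -/

section Abs

variable {C : Type*} [Group C] {F : Type*} [Field F] [Fintype F] {hF : Fintype.card F = 2 ^ 2}
  {π : C →* PSU 6 F 2} {z : C} {lift : (Fin 6 → F) → C}

/-- the heptad relation, with orthogonality and different members -/
structure HeptO (lift : (Fin 6 → F) → C) (z : C) (v a b c : Fin 6 → F) : Prop where
  ha : AdmV v a
  hb : AdmV v b
  hc : AdmV v c
  ab : hermForm 6 F 2 a b = 0
  ac : hermForm 6 F 2 a c = 0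
  bc : hermForm 6 F 2 b c = 0
  n1 : lift b ≠ lift a
  n2 : lift b ≠ lift (a + v)
  n3 : lift (b + v) ≠ lift a
  n4 : lift (b + v) ≠ lift (a + v)
  n5 : lift c ≠ lift a
  n6 : lift c ≠ lift (a + v)
  n7 : lift (c + v) ≠ lift a
  n8 : lift (c + v) ≠ lift (a + v)
  rel : lift a * lift (a + v) * (lift b * lift (b + v)) * (lift c * lift (c + v)) = z

theorem admV_add (hF : Fintype.card F = 2 ^ 2) {v w : Fin 6 → F} (hv : hermForm 6 F 2 v v = 0)
    (hw : AdmV v w) : hermForm 6 F 2 (w + v) (w + v) = 0 ∧ w + v ≠ 0 := by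
  constructor
  · rw [herm_add_left, herm_add_right hF, herm_add_right hF, hw.iso, hw.perp,
      herm_eq_zero_swap hF hw.perp, hv]
    ring
  · intro h0
    apply hw.indep
    refine ⟨1, ?_⟩
    rw [one_smul]
    have := congrArg (fun y => y + v) h0
    simp only [add_assoc, vadd_self hF, add_zero, zero_add] at this
    exact this

theorem HeptO.move (L : Lab hF π z z lift) {v a b c : Fin 6 → F} (hv0 : v ≠ 0)
    (hv : hermForm 6 F 2 v v = 0) (H : HeptO lift z v a b c) :
    ∃ a' b' c', HeptO lift z u a' b' c' := by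
  obtain ⟨g, k, hk, hg⟩ := exists_map hF v u hv0 (u_ne hF) hv (hu hF)
  obtain ⟨x, hx⟩ := L.ext.surj (pr 6 F 2 g)
  have key : ∀ w, AdmV v w → lift (k⁻¹ • act g w) = x * lift w * x⁻¹ ∧
      lift (k⁻¹ • act g w + u) = x * lift (w + v) * x⁻¹ := by
    intro w hw
    have hw0 : w ≠ 0 := fun h0 => hw.indep ⟨0, by rw [h0, zero_smul]⟩
    have hA := hw.map hF hk hg
    have hA' := hA.add hF 1
    rw [one_smul] at hA'
    have e : k • (k⁻¹ • act g w) = act g w := by rw [smul_smul, mul_inv_cancel₀ hk, one_smul]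
    have e' : k • (k⁻¹ • act g w + u) = act g (w + v) := by
      rw [smul_add, e, act_add, hg]
    constructor
    · rw [L.conj x g w hx hw0 hw.iso]
      conv_rhs => rw [← e]
      exact (L.smul _ k hA.iso hk).symm
    · obtain ⟨h1, h0⟩ := admV_add hF hv hw
      rw [L.conj x g _ hx h0 h1, ← e']
      exact (L.smul _ k hA'.iso hk).symm
  have hadm : ∀ w, AdmV v w → AdmV (u : Fin 6 → F) (k⁻¹ • act g w) := fun w hw =>
    ⟨(hw.map hF hk hg).iso, (hw.map hF hk hg).perp, (hw.map hF hk hg).indep⟩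
  have horth : ∀ w w', hermForm 6 F 2 w w' = 0 → hermForm 6 F 2 (k⁻¹ • act g w) (k⁻¹ • act g w') = 0 := by
    intro w w' h
    rw [herm_smul_left, herm_smul_right, herm_act, h, mul_zero, mul_zero]
  have hinj : ∀ p q : C, p ≠ q → x * p * x⁻¹ ≠ x * q * x⁻¹ := fun p q h h' =>
    h (mul_left_cancel (mul_right_cancel h'))
  refine ⟨k⁻¹ • act g a, k⁻¹ • act g b, k⁻¹ • act g c, hadm a H.ha, hadm b H.hb, hadm c H.hc,
    horth _ _ H.ab, horth _ _ H.ac, horth _ _ H.bc, ?_, ?_, ?_, ?_, ?_, ?_, ?_, ?_, ?_⟩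
  · rw [(key _ H.ha).1, (key _ H.hb).1]; exact hinj _ _ H.n1
  · rw [(key _ H.ha).2, (key _ H.hb).1]; exact hinj _ _ H.n2
  · rw [(key _ H.ha).1, (key _ H.hb).2]; exact hinj _ _ H.n3
  · rw [(key _ H.ha).2, (key _ H.hb).2]; exact hinj _ _ H.n4
  · rw [(key _ H.ha).1, (key _ H.hc).1]; exact hinj _ _ H.n5
  · rw [(key _ H.ha).2, (key _ H.hc).1]; exact hinj _ _ H.n6
  · rw [(key _ H.ha).1, (key _ H.hc).2]; exact hinj _ _ H.n7
  · rw [(key _ H.ha).2, (key _ H.hc).2]; exact hinj _ _ H.n8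
  · rw [(key _ H.ha).1, (key _ H.ha).2, (key _ H.hb).1, (key _ H.hb).2, (key _ H.hc).1, (key _ H.hc).2]
    have h1 : x * z * x⁻¹ = z := by rw [L.ext.comm, mul_inv_cancel_right]
    rw [← h1]
    conv_rhs => rw [← H.rel]
    group

/-- an element of the radical with a given parameter -/
theorem exists_rad (L : Lab hF π z z lift) (α : Fin 4 → F) : ∃ x ∈ Rad lift, ∀ w : Fin 6 → F, Adm w →
    x * lift w * x⁻¹ = lift (w + hermForm 4 F 2 (top (m := 4) w) α • u) := by
  obtain ⟨r, hr, hP⟩ := exists_mem_Q (m := 4) hF (by norm_num) α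
  obtain ⟨x, hx, hxr⟩ := exists_lift_Q L hr
  refine ⟨x, hx, fun w hw => ?_⟩
  rw [L.conj x r w hxr hw.ne hw.iso]
  congr 1
  have h2 := perp_eq (m := 4) hF hw.perp
  conv_lhs => rw [h2]
  conv_rhs => rw [h2]
  rw [act_add, act_smul, hP.2, hP.1]
  have h3 : top (m := 4) (ι (top (m := 4) w) + w (Fin.natAdd 4 (0 : Fin 2)) • (u : Fin 6 → F)) =
      top (m := 4) w := by rw [← h2]
  rw [h3]
  abel

/-- the parameters of the three pairs have sum zero -/
theorem HeptO.sum (L : Lab hF π z z lift) {a b c : Fin 6 → F} (H : HeptO lift z u a b c) :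
    top (m := 4) a + top (m := 4) b + top (m := 4) c = 0 := by
  have one : ∀ w : Fin 6 → F, w + u = w + (1 : F) • u := fun w => by rw [one_smul]
  obtain ⟨Aa, Ab, Ac⟩ : Adm a ∧ Adm b ∧ Adm c :=
    ⟨⟨H.ha.iso, H.ha.perp, H.ha.indep⟩, ⟨H.hb.iso, H.hb.perp, H.hb.indep⟩, ⟨H.hc.iso, H.hc.perp, H.hc.indep⟩⟩
  have hl : ∀ {w : Fin 6 → F} (hw : Adm w), (st L ⟨lift w, lift_mem L hw.ne hw.iso hw.perp⟩ : SU 6 F 2) =
      T hF w hw.iso := fun hw => by rw [st_lift L hw.ne hw.iso hw.perp]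
  have pp : ∀ {w : Fin 6 → F} (hw : Adm w), Par (T hF w hw.iso * T hF (w + (1 : F) • u) (hw.add hF 1).iso)
      (top (m := 4) w) := by
    intro w hw
    have := pair_par (m := 4) hF hw.iso hw.perp 1
    have h1 : ((1 : F) ^ 2) • top (m := 4) w = top (m := 4) w := by rw [one_pow, one_smul]
    rw [h1] at this
    exact this
  have hprod : T hF a Aa.iso * T hF (a + (1 : F) • u) (Aa.add hF 1).iso *
      (T hF b Ab.iso * T hF (b + (1 : F) • u) (Ab.add hF 1).iso) *
      (T hF c Ac.iso * T hF (c + (1 : F) • u) (Ac.add hF 1).iso) = 1 := by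
    rw [← hl Aa, ← hl Ab, ← hl Ac, ← hl (Aa.add hF 1), ← hl (Ab.add hF 1), ← hl (Ac.add hF 1)]
    simp only [← Subgroup.coe_mul, ← map_mul]
    have h1 : ∀ c : P0 lift, (c : C) = z → st L c = 1 := fun c hc => (st_eq_one_iff L c).2 (Or.inr hc)
    have h2 := h1 _ (show ((((⟨lift a, lift_mem L Aa.ne Aa.iso Aa.perp⟩ : P0 lift) *
        ⟨lift (a + (1 : F) • u), lift_mem L (Aa.add hF 1).ne (Aa.add hF 1).iso (Aa.add hF 1).perp⟩) *
        (⟨lift b, lift_mem L Ab.ne Ab.iso Ab.perp⟩ *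
        ⟨lift (b + (1 : F) • u), lift_mem L (Ab.add hF 1).ne (Ab.add hF 1).iso (Ab.add hF 1).perp⟩) *
        (⟨lift c, lift_mem L Ac.ne Ac.iso Ac.perp⟩ *
        ⟨lift (c + (1 : F) • u), lift_mem L (Ac.add hF 1).ne (Ac.add hF 1).iso (Ac.add hF 1).perp⟩) :
        P0 lift) : C) = z by
      show lift a * lift (a + (1 : F) • u) * (lift b * lift (b + (1 : F) • u)) *
        (lift c * lift (c + (1 : F) • u)) = z
      rw [← one, ← one, ← one]
      exact H.rel)
    rw [h2]
    rfl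
  have hpar := ((pp Aa).mul hF (pp Ab)).mul hF (pp Ac)
  rw [hprod] at hpar
  apply herm_nondeg hF
  intro y
  apply herm_eq_zero_swap hF
  have h1 := hpar.2 y
  rw [act_one, left_eq_add] at h1
  rcases smul_eq_zero.1 h1 with h2 | h2
  · exact h2
  · exact absurd h2 (u_ne hF)

/-- the first two blocks are different -/
theorem HeptO.indep (L : Lab hF π z z lift) {a b c : Fin 6 → F} (H : HeptO lift z u a b c) :
    ¬ ∃ k : F, top (m := 4) b = k • top (m := 4) a := by
  rintro ⟨k, hk⟩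
  have hs := H.sum L
  obtain ⟨Aa, Ab, Ac⟩ : Adm a ∧ Adm b ∧ Adm c :=
    ⟨⟨H.ha.iso, H.ha.perp, H.ha.indep⟩, ⟨H.hb.iso, H.hb.perp, H.hb.indep⟩, ⟨H.hc.iso, H.hc.perp, H.hc.indep⟩⟩
  have htop : ∀ {w : Fin 6 → F}, Adm w → top (m := 4) w ≠ 0 := by
    intro w hw h
    apply hw.indep
    refine ⟨w (Fin.natAdd 4 (0 : Fin 2)), ?_⟩
    have := perp_eq (m := 4) hF hw.perp
    rw [h, ι_zero, zero_add] at this
    exact this
  have hk0 : k ≠ 0 := by
    rintro rfl
    exact htop Ab (by rw [hk, zero_smul])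
  -- `b = k a + s u`
  obtain ⟨s, hs'⟩ : ∃ s : F, b = k • a + s • u := by
    obtain ⟨s1, e1⟩ : ∃ s1 : F, b = k • ι (top (m := 4) a) + s1 • (u : Fin 6 → F) := by
      refine ⟨b (Fin.natAdd 4 (0 : Fin 2)), ?_⟩
      have := perp_eq (m := 4) hF Ab.perp
      rwa [hk, ι_smul] at this
    obtain ⟨s0, e2⟩ : ∃ s0 : F, ι (top (m := 4) a) = a + s0 • (u : Fin 6 → F) := by
      refine ⟨a (Fin.natAdd 4 (0 : Fin 2)), ?_⟩
      have h1 := perp_eq (m := 4) hF Aa.perp
      have h2 := vadd_self hF (a (Fin.natAdd 4 (0 : Fin 2)) • (u : Fin 6 → F))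
      calc ι (top (m := 4) a) = ι (top (m := 4) a) + (a (Fin.natAdd 4 (0 : Fin 2)) • (u : Fin 6 → F) +
            a (Fin.natAdd 4 (0 : Fin 2)) • (u : Fin 6 → F)) := by rw [h2, add_zero]
        _ = (ι (top (m := 4) a) + a (Fin.natAdd 4 (0 : Fin 2)) • (u : Fin 6 → F)) +
            a (Fin.natAdd 4 (0 : Fin 2)) • (u : Fin 6 → F) := by rw [add_assoc]
        _ = _ := by rw [← h1]
    refine ⟨k * s0 + s1, ?_⟩
    rw [e1, e2, smul_add, smul_smul, add_smul, add_assoc]
  have hb1 : lift b = lift (a + (k⁻¹ * s) • u) := by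
    have e : b = k • (a + (k⁻¹ * s) • u) := by
      rw [hs', smul_add, smul_smul, ← mul_assoc, mul_inv_cancel₀ hk0, one_mul]
    rw [e]
    exact L.smul _ k (Aa.add hF _).iso hk0
  have hb2 : lift (b + u) = lift (a + (k⁻¹ * (s + 1)) • u) := by
    have e : b + u = k • (a + (k⁻¹ * (s + 1)) • u) := by
      rw [hs', smul_add, smul_smul, ← mul_assoc, mul_inv_cancel₀ hk0, one_mul, add_smul, one_smul]
      abel
    rw [e]
    exact L.smul _ k (Aa.add hF _).iso hk0
  have hq : ∀ t : F, t ≠ 0 → t ≠ 1 → t ^ 2 + t + 1 = 0 := by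
    intro t h0 h1
    have h3 := pow_three hF h0
    have h4 : (t - 1) * (t ^ 2 + t + 1) = 0 := by linear_combination h3
    exact (mul_eq_zero.1 h4).resolve_left (sub_ne_zero.2 h1)
  have z0 : ∀ w : Fin 6 → F, w + (0 : F) • u = w := fun w => by rw [zero_smul, add_zero]
  have t1 : k⁻¹ * s ≠ 0 := fun h => H.n1 (by rw [hb1, h, z0])
  have t2 : k⁻¹ * s ≠ 1 := fun h => H.n2 (by rw [hb1, h, one_smul])
  have t3 : k⁻¹ * (s + 1) ≠ 0 := fun h => H.n3 (by rw [hb2, h, z0])
  have t4 : k⁻¹ * (s + 1) ≠ 1 := fun h => H.n4 (by rw [hb2, h, one_smul])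
  have e1 := hq _ t1 t2
  have e2 := hq _ t3 t4
  have h2 := two_eq_zero hF
  have e3 : k⁻¹ * (k⁻¹ + 1) = 0 := by
    linear_combination e2 - e1 - (k⁻¹ * k⁻¹ * s) * h2
  have e4 : k⁻¹ = 1 := by
    have := (mul_eq_zero.1 e3).resolve_left (inv_ne_zero hk0)
    linear_combination this - h2
  have e5 : k = 1 := by rw [← inv_inv k, e4, inv_one]
  rw [hk, e5, one_smul] at hs
  have e6 : top (m := 4) a + top (m := 4) a = 0 := vadd_self hF _
  rw [e6, zero_add] at hs
  exact htop Ac hs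

/-- **Seven commuting transpositions.** -/
theorem HeptO.seven (L : Lab hF π z z lift) {a b c : Fin 6 → F} (H : HeptO lift z u a b c) :
    ∃ r : C, Seven {x | x = z ∨ x ∈ Dset lift} (lift a) (lift (a + u)) r
      ![z, lift c, lift (c + u), lift b, lift (b + u)] := by
  have one : ∀ w : Fin 6 → F, w + u = w + (1 : F) • u := fun w => by rw [one_smul]
  obtain ⟨Aa, Ab, Ac⟩ : Adm a ∧ Adm b ∧ Adm c :=
    ⟨⟨H.ha.iso, H.ha.perp, H.ha.indep⟩, ⟨H.hb.iso, H.hb.perp, H.hb.indep⟩, ⟨H.hc.iso, H.hc.perp, H.hc.indep⟩⟩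
  have Aa' : Adm (a + u) := by rw [one]; exact Aa.add hF 1
  have Ab' : Adm (b + u) := by rw [one]; exact Ab.add hF 1
  have Ac' : Adm (c + u) := by rw [one]; exact Ac.add hF 1
  have hind := H.indep L
  have hsum := H.sum L
  have ha0 : top (m := 4) a ≠ 0 := by
    intro h
    apply Aa.indep
    refine ⟨a (Fin.natAdd 4 (0 : Fin 2)), ?_⟩
    have := perp_eq (m := 4) hF Aa.perp
    rw [h, ι_zero, zero_add] at this
    exact this
  have hb0 : top (m := 4) b ≠ 0 := fun h => hind ⟨0, by rw [h, zero_smul]⟩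
  have hind' : ¬ ∃ k : F, top (m := 4) a = k • top (m := 4) b := by
    rintro ⟨k, hk⟩
    have hk0 : k ≠ 0 := by rintro rfl; exact ha0 (by rw [hk, zero_smul])
    exact hind ⟨k⁻¹, by rw [hk, smul_smul, inv_mul_cancel₀ hk0, one_smul]⟩
  -- the parameter
  obtain ⟨α, α1, α2⟩ : ∃ α : Fin 4 → F, hermForm 4 F 2 (top (m := 4) a) α = 1 ∧
      hermForm 4 F 2 (top (m := 4) b) α = 1 := by
    obtain ⟨x, hx1, hx2⟩ := exists_perp_ne hF ha0 hind
    obtain ⟨y, hy1, hy2⟩ := exists_perp_ne hF hb0 hind'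
    have hsq : ∀ t : F, t ≠ 0 → (t ^ 2)⁻¹ ^ 2 * t = 1 := by
      intro t ht
      have h3 := pow_three hF ht
      have : (t ^ 2)⁻¹ ^ 2 = t⁻¹ := by
        rw [inv_pow]
        congr 1
        linear_combination t * h3
      rw [this, inv_mul_cancel₀ ht]
    refine ⟨(hermForm 4 F 2 (top (m := 4) b) x ^ 2)⁻¹ • x + (hermForm 4 F 2 (top (m := 4) a) y ^ 2)⁻¹ • y, ?_, ?_⟩
    · rw [herm_add_right hF, herm_smul_right, herm_smul_right, herm_eq_zero_swap hF hx1, mul_zero, zero_add,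
        hsq _ hy2]
    · rw [herm_add_right hF, herm_smul_right, herm_smul_right, herm_eq_zero_swap hF hy1, mul_zero, add_zero,
        hsq _ hx2]
  have α3 : hermForm 4 F 2 (top (m := 4) c) α = 0 := by
    have h1 : hermForm 4 F 2 (top (m := 4) a + top (m := 4) b + top (m := 4) c) α = 0 := by
      rw [hsum, herm_zero_left]
    rw [herm_add_left, herm_add_left, α1, α2] at h1
    linear_combination h1 - two_eq_zero hF
  obtain ⟨r, hr, hract⟩ := exists_rad L α
  have hu' : top (m := 4) (u : Fin 6 → F) = 0 := top_u0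
  have tu : ∀ w : Fin 6 → F, top (m := 4) (w + u) = top (m := 4) w := by
    intro w
    rw [Levi.top_add, hu', add_zero]
  have uu2 : ∀ w : Fin 6 → F, w + u + u = w := by
    intro w
    rw [add_assoc, vadd_self hF, add_zero]
  have mem : ∀ {w : Fin 6 → F}, Adm w → lift w ∈ Dset lift := fun hw => ⟨_, hw.ne, hw.iso, rfl⟩
  have znot : ∀ {w : Fin 6 → F}, Adm w → z ≠ lift w := fun hw h => L.z_notMem (h ▸ mem hw)
  have cm : ∀ {w w' : Fin 6 → F}, Adm w → Adm w' → hermForm 6 F 2 w w' = 0 →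
      lift w * lift w' = lift w' * lift w := fun hw hw' h =>
    (L.commute_iff hw.iso hw'.iso hw.ne hw'.ne).2 h
  have pu : ∀ {w w' : Fin 6 → F}, Adm w → Adm w' → hermForm 6 F 2 w w' = 0 →
      hermForm 6 F 2 w (w' + u) = 0 := by
    intro w w' hw _ h
    rw [herm_add_right hF, h, hw.perp, add_zero]
  have up : ∀ {w w' : Fin 6 → F}, Adm w → Adm w' → hermForm 6 F 2 w w' = 0 →
      hermForm 6 F 2 (w + u) w' = 0 := by
    intro w w' _ hw' h
    rw [herm_add_left, h, herm_eq_zero_swap hF hw'.perp, add_zero]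
  have sw := fun {w w' : Fin 6 → F} (h : hermForm 6 F 2 w w' = 0) => herm_eq_zero_swap hF h
  have zc : ∀ x : C, z * x = x * z := fun x => (L.ext.comm x).symm
  have o_ab := H.ab
  have o_ac := H.ac
  have o_bc := H.bc
  have caa' := cm Aa Aa' (pu Aa Aa Aa.iso)
  have cbb' := cm Ab Ab' (pu Ab Ab Ab.iso)
  have ccc' := cm Ac Ac' (pu Ac Ac Ac.iso)
  have cbc := cm Ab Ac o_bc
  have cbc' := cm Ab Ac' (pu Ab Ac o_bc)
  have cb'c := cm Ab' Ac (up Ab Ac o_bc)
  have cb'c' := cm Ab' Ac' (pu Ab' Ac (up Ab Ac o_bc))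
  have cab := cm Aa Ab o_ab
  have cab' := cm Aa Ab' (pu Aa Ab o_ab)
  have ca'b := cm Aa' Ab (up Aa Ab o_ab)
  have ca'b' := cm Aa' Ab' (pu Aa' Ab (up Aa Ab o_ab))
  have cac := cm Aa Ac o_ac
  have cac' := cm Aa Ac' (pu Aa Ac o_ac)
  have ca'c := cm Aa' Ac (up Aa Ac o_ac)
  have ca'c' := cm Aa' Ac' (pu Aa' Ac (up Aa Ac o_ac))
  have sqb := L.sq b Ab.ne Ab.iso
  have sqb' := L.sq (b + u) Ab'.ne Ab'.iso
  have sqc := L.sq c Ac.ne Ac.iso
  have sqc' := L.sq (c + u) Ac'.ne Ac'.iso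
  refine ⟨r, ?_⟩
  refine
    { ma := Or.inr (mem Aa)
      mb := Or.inr (mem Aa')
      ne := ?_
      cab := caa'
      m := ?_
      ca := ?_
      cb := ?_
      na := ?_
      nb := ?_
      cc := ?_
      prod := ?_
      ra := ?_
      rb := ?_
      r0 := ?_
      r1 := ?_
      r2 := ?_
      r3 := ?_ }
  · intro h
    have h1 := lift_block_eq (hF := hF) L Aa (c := 1) (by rw [one_smul]; exact h.symm)
    exact one_ne_zero h1
  · intro i
    fin_cases i
    exacts [Or.inl rfl, Or.inr (mem Ac), Or.inr (mem Ac'), Or.inr (mem Ab), Or.inr (mem Ab')]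
  · intro i
    fin_cases i
    exacts [zc _, cac.symm, cac'.symm, cab.symm, cab'.symm]
  · intro i
    fin_cases i
    exacts [zc _, ca'c.symm, ca'c'.symm, ca'b.symm, ca'b'.symm]
  · intro i
    fin_cases i
    exacts [znot Aa, H.n5, H.n7, H.n1, H.n3]
  · intro i
    fin_cases i
    exacts [znot Aa', H.n6, H.n8, H.n2, H.n4]
  · intro i j
    fin_cases i <;> fin_cases j
    all_goals first
      | rfl
      | exact zc _
      | exact (zc _).symm
      | assumption
      | (apply Eq.symm; assumption)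
  · show z * lift c * lift (c + u) * lift b * lift (b + u) = lift a * lift (a + u)
    rw [← H.rel]
    calc lift a * lift (a + u) * (lift b * lift (b + u)) * (lift c * lift (c + u)) * lift c * lift (c + u) *
          lift b * lift (b + u)
        = lift a * lift (a + u) * (lift b * lift (b + u)) * (lift c * (lift (c + u) * lift c) * lift (c + u)) *
          lift b * lift (b + u) := by group
      _ = lift a * lift (a + u) * (lift b * lift (b + u)) * ((lift c * lift c) * (lift (c + u) * lift (c + u))) *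
          lift b * lift (b + u) := by rw [← ccc']; group
      _ = lift a * lift (a + u) * (lift b * (lift (b + u) * lift b) * lift (b + u)) := by
          rw [sqc, sqc']; group
      _ = lift a * lift (a + u) * ((lift b * lift b) * (lift (b + u) * lift (b + u))) := by
          rw [← cbb']; group
      _ = lift a * lift (a + u) := by rw [sqb, sqb']; group
  · rw [hract a Aa, α1, one_smul]
  · rw [hract _ Aa', tu, α1, one_smul, uu2]
  · show r * z * r⁻¹ = z
    rw [← zc, mul_inv_cancel_right]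
  · show r * lift c * r⁻¹ = lift c
    rw [hract c Ac, α3, zero_smul, add_zero]
  · show r * lift (c + u) * r⁻¹ = lift (c + u)
    rw [hract _ Ac', tu, α3, zero_smul, add_zero]
  · show r * lift b * r⁻¹ = lift (b + u)
    rw [hract b Ab, α2, one_smul]

end Abs

/-! ### The group on 3510 points -/

section G22

open Cfsg.Agent.Fischer Cfsg.Agent.Fischer.Cert Cfsg.Agent.Fischer.Abstract
  Cfsg.Agent.Fischer.Centralizer Cfsg.Agent.Fischer.Group22 Cfsg.Agent.Fischer.Rank22
  Cfsg.Agent.Fischer.Vec22 Cfsg.Agent.Fischer.Unit22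
open Cfsg.Agent.SporRec.GF4 Cfsg.Agent.R01.Fi22Loc

theorem perp_ab : hermForm 6 F4 2 (P.vec l5) (P.vec l6) = 0 := perp_of (by decide +kernel)
theorem perp_ac : hermForm 6 F4 2 (P.vec l5) (P.vec l2) = 0 := perp_of (by decide +kernel)
theorem perp_bc : hermForm 6 F4 2 (P.vec l6) (P.vec l2) = 0 := perp_of (by decide +kernel)

theorem ne_link {x y : Link R} (h : (x.1 : X).1 ≠ (y.1 : X).1) : x ≠ y := by
  rintro rfl
  exact h rfl

theorem exists_hepto {lift : (Fin 6 → F4) → C R} (L : Lab hF π (zel (R.t R.x0)) (zel (R.t R.x0)) lift)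
    (hl : ∀ y, lift (P.vec y) = τ y) : ∃ a b c, HeptO lift (zel (R.t R.x0)) u a b c := by
  have hH : HeptO lift (zel (R.t R.x0)) (P.vec pv) (P.vec l5) (P.vec l6) (P.vec l2) := by
    refine ⟨admV perp_a (ne_pv (by decide)), admV perp_b (ne_pv (by decide)), admV perp_c (ne_pv (by decide)),
      perp_ab, perp_ac, perp_bc, ?_, ?_, ?_, ?_, ?_, ?_, ?_, ?_, ?_⟩
    · rw [hl, hl]; exact fun h => ne_link (by decide) (τ_injective h)
    · rw [← vec_a, hl, hl]; exact fun h => ne_link (by decide) (τ_injective h)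
    · rw [← vec_b, hl, hl]; exact fun h => ne_link (by decide) (τ_injective h)
    · rw [← vec_a, ← vec_b, hl, hl]; exact fun h => ne_link (by decide) (τ_injective h)
    · rw [hl, hl]; exact fun h => ne_link (by decide) (τ_injective h)
    · rw [← vec_a, hl, hl]; exact fun h => ne_link (by decide) (τ_injective h)
    · rw [← vec_c, hl, hl]; exact fun h => ne_link (by decide) (τ_injective h)
    · rw [← vec_a, ← vec_c, hl, hl]; exact fun h => ne_link (by decide) (τ_injective h)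
    · rw [← vec_a, ← vec_b, ← vec_c]
      have h := prod_sixL
      rw [sixL_eq] at h
      simp only [List.map_cons, List.map_nil, List.prod_cons, List.prod_nil, mul_one, ← hl] at h
      rw [← h]
      have hcomm : ∀ {x y : Link R}, hermForm 6 F4 2 (P.vec x) (P.vec y) = 0 →
          lift (P.vec x) * lift (P.vec y) = lift (P.vec y) * lift (P.vec x) := by
        intro x y h
        exact (L.commute_iff (P.iso _) (P.iso _) (P.ne _) (P.ne _)).2 h
      have e1 := hcomm perp_ca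
      have e2 := hcomm perp_ca'
      have e3 := hcomm perp_cb
      have e4 := hcomm perp_cb'
      calc lift (P.vec l5) * lift (P.vec l1) * (lift (P.vec l6) * lift (P.vec l4)) *
            (lift (P.vec l2) * lift (P.vec l3))
          = lift (P.vec l5) * lift (P.vec l1) * lift (P.vec l6) *
              (lift (P.vec l4) * lift (P.vec l2)) * lift (P.vec l3) := by group
        _ = lift (P.vec l5) * lift (P.vec l1) * (lift (P.vec l6) * lift (P.vec l2)) *
              lift (P.vec l4) * lift (P.vec l3) := by rw [← e4]; group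
        _ = lift (P.vec l5) * (lift (P.vec l1) * lift (P.vec l2)) * lift (P.vec l6) *
              lift (P.vec l4) * lift (P.vec l3) := by rw [← e3]; group
        _ = (lift (P.vec l5) * lift (P.vec l2)) * lift (P.vec l1) * lift (P.vec l6) *
              lift (P.vec l4) * lift (P.vec l3) := by rw [← e2]; group
        _ = _ := by rw [← e1]; group
  exact hH.move L (P.ne pv) (P.iso pv)

/-- Seven commuting transpositions of the group on 3510 points. -/
theorem exists_seven_G : ∃ (a b r : G) (x : Fin 5 → G), Seven Cfsg.Agent.R01.Fi22Loc.D a b r x := by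
  obtain ⟨lift, L, hl⟩ := Cfsg.Agent.R01.Fi22Loc.exists_lift
  obtain ⟨a, b, c, H⟩ := exists_hepto L hl
  obtain ⟨r, S⟩ := H.seven L
  refine ⟨_, _, _, _, S.map (Subgroup.subtype _) (Subgroup.subtype_injective _)
    (T' := Cfsg.Agent.R01.Fi22Loc.D) ?_⟩
  intro x hx
  exact (mem_D_iff x).2 (by rw [← Dset_eq L hl]; exact hx)

end G22

variable {K : Type v} [Group K]

theorem exists_seven (e : K ≃* Spor.Fi22) : ∃ (a b r : K) (x : Fin 5 → K), Seven (TK e) a b r x := by
  obtain ⟨a, b, r, x, S⟩ := exists_seven_G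
  refine ⟨_, _, _, _, S.map (Cfsg.Agent.R01.Fi22Facts.E.trans e.symm).toMonoidHom
    (Cfsg.Agent.R01.Fi22Facts.E.trans e.symm).injective ?_⟩
  intro y hy
  refine ⟨Cfsg.Agent.R01.Fi22Facts.E y, ?_, rfl⟩
  rw [← Cfsg.Agent.R01.Fi22Facts.image_D]
  exact ⟨y, hy, rfl⟩

section Main

open Cfsg.Agent.SporRec.GF4
open Cfsg.Agent.Fischer.Unit22 (hF)

variable {Δ : Set K} {d : K}
  {π : Subgroup.centralizer ({d} : Set K) →* PSU 6 F4 2}
  {lift : (Fin 6 → F4) → Subgroup.centralizer ({d} : Set K)}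

/-- seven commuting transpositions at any pair -/
theorem seven_at (B : Base K Δ d π lift) (h : ∃ (a b r : K) (x : Fin 5 → K), Seven Δ a b r x) :
    ∃ (r : K) (x : Fin 5 → K), Seven Δ d (d2 lift) r x := by
  obtain ⟨a, b, r, x, S⟩ := h
  obtain ⟨g, hg1, hg2⟩ := B.trans a S.ma b S.mb d B.mem _ B.d2_mem S.ne B.ne S.cab B.d2_comm.symm
  have S' := S.map (MulAut.conj g).toMonoidHom (MulAut.conj g).injective (T' := Δ)
    (fun x hx => B.conj_mem hx g)
  have e1 : (MulAut.conj g).toMonoidHom a = d := hg1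
  have e2 : (MulAut.conj g).toMonoidHom b = d2 lift := hg2
  rw [e1, e2] at S'
  exact ⟨_, _, S'⟩

/-- **No element interchanging `d` and `d2` centralizes `C_K(d, d2) / R`.** -/
theorem not_central (B : Base K Δ d π lift) {r : K} {x : Fin 5 → K} (S : Seven Δ d (d2 lift) r x)
    {p : K} (hp1 : p * d * p⁻¹ = d2 lift) (hp2 : p * d2 lift * p⁻¹ = d)
    (h : ∀ y : K, y * d = d * y → y * d2 lift = d2 lift * y → p * y * p⁻¹ * y⁻¹ ∈ RK lift) : False := by
  have hex : ∀ i, ∃ w : Fin 6 → F4, Adm w ∧ x i = (lift w : Subgroup.centralizer ({d} : Set K)) := fun i =>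
    B.exists_adm (S.m i) (S.ca i) (S.cb i) (S.na i) (S.nb i)
  choose w hw hxw using hex
  have hp1' : p * d = d2 lift * p := mul_inv_eq_iff_eq_mul.1 hp1
  have hp2' : p * d2 lift = d * p := mul_inv_eq_iff_eq_mul.1 hp2
  have hp1'' : p⁻¹ * d2 lift = d * p⁻¹ := by
    rw [inv_mul_eq_iff_eq_mul, ← mul_assoc, hp1', mul_inv_cancel_right]
  have hp2'' : p⁻¹ * d = d2 lift * p⁻¹ := by
    rw [inv_mul_eq_iff_eq_mul, ← mul_assoc, hp2', mul_inv_cancel_right]
  have hr1 : r * d = d2 lift * r := mul_inv_eq_iff_eq_mul.1 S.ra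
  have hr2 : r * d2 lift = d * r := mul_inv_eq_iff_eq_mul.1 S.rb
  -- `k = p⁻¹ r`
  have hk1 : p⁻¹ * r * d = d * (p⁻¹ * r) := by
    rw [mul_assoc, hr1, ← mul_assoc, hp1'', mul_assoc]
  have hk2 : p⁻¹ * r * d2 lift = d2 lift * (p⁻¹ * r) := by
    rw [mul_assoc, hr2, ← mul_assoc, hp2'', mul_assoc]
  let X : Fin 5 → P0 lift := fun i => ⟨lift (w i), lift_mem B.lab (hw i).ne (hw i).iso (hw i).perp⟩
  let k : P0 lift := ⟨⟨p⁻¹ * r, mem_cent.2 hk1⟩, mem_P0_of hk1 hk2⟩
  have hX : ∀ i, lv B.lab (X i) = T hF (top (m := 4) (w i)) (top_iso (m := 4) hF (hw i).iso (hw i).perp) :=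
    fun i => lv_lift B.lab (hw i).ne (hw i).iso (hw i).perp
  have hXc : ∀ i, ((X i : Subgroup.centralizer ({d} : Set K)) : K) = x i := fun i => (hxw i).symm
  -- conjugation by `k`
  have hconj : ∀ i j, r * x i * r⁻¹ = x j → lv B.lab k * lv B.lab (X i) * (lv B.lab k)⁻¹ = lv B.lab (X j) := by
    intro i j hij
    rw [← map_mul, ← map_inv, ← map_mul]
    -- `y = p⁻¹ x_j p`
    have hy1 : p⁻¹ * x j * p * d = d * (p⁻¹ * x j * p) := by
      calc p⁻¹ * x j * p * d = p⁻¹ * x j * (p * d) := by group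
        _ = p⁻¹ * (x j * d2 lift) * p := by rw [hp1']; group
        _ = (p⁻¹ * d2 lift) * x j * p := by rw [S.cb]; group
        _ = _ := by rw [hp1'']; group
    have hy2 : p⁻¹ * x j * p * d2 lift = d2 lift * (p⁻¹ * x j * p) := by
      calc p⁻¹ * x j * p * d2 lift = p⁻¹ * x j * (p * d2 lift) := by group
        _ = p⁻¹ * (x j * d) * p := by rw [hp2']; group
        _ = (p⁻¹ * d) * x j * p := by rw [S.ca]; group
        _ = _ := by rw [hp2'']; group
    have hR := h _ hy1 hy2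
    have e1 : p * (p⁻¹ * x j * p) * p⁻¹ * (p⁻¹ * x j * p)⁻¹ = x j * (p⁻¹ * x j * p)⁻¹ := by group
    rw [e1] at hR
    let Y : P0 lift := ⟨⟨p⁻¹ * x j * p, mem_cent.2 hy1⟩, mem_P0_of hy1 hy2⟩
    have e2 : k * X i * k⁻¹ = Y := by
      apply Subtype.ext
      apply Subtype.ext
      show (p⁻¹ * r) * ((X i : Subgroup.centralizer ({d} : Set K)) : K) * (p⁻¹ * r)⁻¹ = p⁻¹ * x j * p
      rw [hXc, ← hij]
      group
    rw [e2]
    have e3 : lv B.lab (X j * Y⁻¹) = 1 := by
      apply lv_of_mem_Rad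
      apply B.mem_RK_of
      show ((X j : Subgroup.centralizer ({d} : Set K)) : K) * (p⁻¹ * x j * p)⁻¹ ∈ RK lift
      rw [hXc]
      exact hR
    rw [map_mul, map_inv, mul_inv_eq_one] at e3
    exact e3.symm
  have c0 := hconj 0 0 S.r0
  have c1 := hconj 1 1 S.r1
  have c2 := hconj 2 2 S.r2
  have c3 := hconj 3 4 S.r3
  simp only [hX] at c0 c1 c2 c3
  have hprod : lv B.lab (X 0) * lv B.lab (X 1) * lv B.lab (X 2) * lv B.lab (X 3) * lv B.lab (X 4) = 1 := by
    rw [← map_mul, ← map_mul, ← map_mul, ← map_mul]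
    apply lv_of_mem_Rad
    apply B.mem_RK_of
    show ((X 0 : Subgroup.centralizer ({d} : Set K)) : K) * ((X 1 : Subgroup.centralizer ({d} : Set K)) : K) *
      ((X 2 : Subgroup.centralizer ({d} : Set K)) : K) * ((X 3 : Subgroup.centralizer ({d} : Set K)) : K) *
      ((X 4 : Subgroup.centralizer ({d} : Set K)) : K) ∈ RK lift
    rw [hXc, hXc, hXc, hXc, hXc, S.prod]
    exact mul_mem B.d_mem B.d2_mem_RK
  simp only [hX] at hprod
  refine Cfsg.Agent.H833.Line.no_fix hF (fun i => top (m := 4) (w i))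
    (fun i => top_iso (m := 4) hF (hw i).iso (hw i).perp) ?_ ?_ hprod _ c0 c1 c2 c3
  · intro i h0
    have h1 : top (m := 4) (w i) = 0 := h0
    apply (hw i).indep
    refine ⟨w i (Fin.natAdd 4 (0 : Fin 2)), ?_⟩
    have := perp_eq (m := 4) hF (hw i).perp
    rw [h1, ι_zero, zero_add] at this
    exact this
  · intro i j
    show hermForm 4 F4 2 (top (m := 4) (w i)) (top (m := 4) (w j)) = 0
    rw [herm_top (m := 4) hF (hw i).perp (hw j).perp]
    apply (B.lab.commute_iff (hw i).iso (hw j).iso (hw i).ne (hw j).ne).1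
    have h1 := S.cc i j
    rw [hxw i, hxw j] at h1
    exact Subtype.ext h1

end Main

end Cfsg.Agent.H833.CentPair
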