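import Cfsg.Agent.CTwoTab.Fi22

/-!
# Products of two commuting transpositions of `Fi22` (helper833)

* `comm_of_perfect` : a perfect subgroup acting on `{c, d}` centralises `c`;
* `pair_ne` : the product of two commuting transpositions is not a transposition;
* `pair_eq` : it determines the two transpositions;
* `card_gt` : sixteen commuting transpositions generate a group with more than 128 elements.
-/

set_option autoImplicit false

namespace Cfsg.Agent.H833.FiPairs

open Subgroup Cfsg Cfsg.Agent.R01 Cfsg.Agent.R01.Fi22Facts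

theorem comm_of_perfect {G : Type*} [Group G] {H : Subgroup G} (hH : commutator ↥H = ⊤) {c d : G}
    (h : ∀ x ∈ H, (x * c * x⁻¹ = c ∧ x * d * x⁻¹ = d) ∨ (x * c * x⁻¹ = d ∧ x * d * x⁻¹ = c)) :
    ∀ x ∈ H, x * c = c * x := by
  have h1 : commutator ↥H ≤ (centralizer ({c} : Set G)).subgroupOf H := by
    rw [commutator_def, commutator_le]
    intro x _ y _
    rw [mem_subgroupOf, mem_centralizer_singleton_iff]
    have hx := h x x.2
    have hy := h y y.2
    have hx' : ∀ u v : G, (x : G) * u * (x : G)⁻¹ = v → (x : G)⁻¹ * v * x = u := by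
      intro u v huv
      rw [← huv]; group
    have hy' : ∀ u v : G, (y : G) * u * (y : G)⁻¹ = v → (y : G)⁻¹ * v * y = u := by
      intro u v huv
      rw [← huv]; group
    have key : (x : G) * y * (x : G)⁻¹ * (y : G)⁻¹ * c * ((x : G) * y * (x : G)⁻¹ * (y : G)⁻¹)⁻¹ = c := by
      have e : (x : G) * y * (x : G)⁻¹ * (y : G)⁻¹ * c * ((x : G) * y * (x : G)⁻¹ * (y : G)⁻¹)⁻¹ =
          (x : G) * (y * ((x : G)⁻¹ * ((y : G)⁻¹ * c * y) * x) * (y : G)⁻¹) * (x : G)⁻¹ := by group
      rw [e]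
      rcases hx with ⟨hx1, hx2⟩ | ⟨hx1, hx2⟩ <;> rcases hy with ⟨hy1, hy2⟩ | ⟨hy1, hy2⟩
      · rw [hy' _ _ hy1, hx' _ _ hx1, hy1, hx1]
      · rw [hy' _ _ hy2, hx' _ _ hx2, hy2, hx1]
      · rw [hy' _ _ hy1, hx' _ _ hx2, hy2, hx2]
      · rw [hy' _ _ hy2, hx' _ _ hx1, hy1, hx2]
    have key' := mul_inv_eq_iff_eq_mul.1 key
    exact key'
  intro x hx
  have h2 : (⟨x, hx⟩ : H) ∈ commutator ↥H := by rw [hH]; trivial
  exact mem_centralizer_singleton_iff.1 (mem_subgroupOf.1 (h1 h2))

theorem ne_one {a : Spor.Fi22} (ha : a ∈ T) : a ≠ 1 := by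
  rintro rfl
  have h1 := isThreeTranspositionClass_T.1.1 1 ha
  rw [orderOf_one] at h1
  omega

theorem sq {a : Spor.Fi22} (ha : a ∈ T) : a * a = 1 := by
  have := pow_orderOf_eq_one a
  rw [isThreeTranspositionClass_T.1.1 a ha, pow_two] at this
  exact this

/-- the product of two commuting transpositions is not a transposition -/
theorem pair_ne {a b c : Spor.Fi22} (ha : a ∈ T) (hb : b ∈ T) (hc : c ∈ T) (hab : a ≠ b) (cab : a * b = b * a) :
    a * b ≠ c := by
  intro h
  obtain ⟨R, F⟩ := CTwoTab.Fi22.facts ha hb hab cab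
  have hca : c ≠ a := by
    intro h1
    rw [h1] at h
    exact ne_one hb (mul_eq_left.1 h)
  have cca : c * a = a * c := by rw [← h, mul_assoc, ← cab]
  obtain ⟨R', F'⟩ := CTwoTab.Fi22.facts hc ha hca cca
  have hp : commutator ↥(centralizer ({c} : Set Spor.Fi22)) = ⊤ := F'.quasi.1.commutator_eq_top
  obtain ⟨p, hp1, hp2⟩ := F.swap
  have h1 := comm_of_perfect hp (c := a) (d := b) (fun x hx => by
    have hx' : x * (a * b) = a * b * x := by
      rw [h]
      exact mem_centralizer_singleton_iff.1 hx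
    rcases F.cz x hx' with ⟨h1, h2⟩ | h1
    · exact Or.inl ⟨mul_inv_eq_iff_eq_mul.2 h1, mul_inv_eq_iff_eq_mul.2 h2⟩
    · exact Or.inr h1) p (by
      rw [mem_centralizer_singleton_iff, ← h]
      have h3 : p * (a * b) * p⁻¹ = a * b := by
        calc p * (a * b) * p⁻¹ = (p * a * p⁻¹) * (p * b * p⁻¹) := by group
          _ = b * a := by rw [hp1, hp2]
          _ = a * b := cab.symm
      exact mul_inv_eq_iff_eq_mul.1 h3)
  apply hab
  rw [← hp1, h1, mul_inv_cancel_right]

/-- the product of two commuting transpositions determines them -/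
theorem pair_eq {a b c d : Spor.Fi22} (ha : a ∈ T) (hb : b ∈ T) (hc : c ∈ T) (hd : d ∈ T) (hab : a ≠ b)
    (cab : a * b = b * a) (hcd : c ≠ d) (ccd : c * d = d * c) (h : a * b = c * d) :
    (c = a ∧ d = b) ∨ (c = b ∧ d = a) := by
  obtain ⟨R, F⟩ := CTwoTab.Fi22.facts ha hb hab cab
  obtain ⟨R', F'⟩ := CTwoTab.Fi22.facts hc hd hcd ccd
  have h1 := comm_of_perfect F.perfect (c := c) (d := d) (fun x hx => by
    obtain ⟨h1, h2⟩ := CTwoTab.Fi22.mem_pair.1 hx
    have hx' : x * (c * d) = c * d * x := by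
      rw [← h]
      exact CTwoTab.Fi22.comm_mul h1 h2
    rcases F'.cz x hx' with ⟨h1, h2⟩ | h1
    · exact Or.inl ⟨mul_inv_eq_iff_eq_mul.2 h1, mul_inv_eq_iff_eq_mul.2 h2⟩
    · exact Or.inr h1)
  rcases F.czP c (fun y hy1 hy2 => (h1 y (CTwoTab.Fi22.mem_pair.2 ⟨hy1, hy2⟩)).symm) with h2 | h2 | h2 | h2
  · exact absurd h2 (ne_one hc)
  · left
    refine ⟨h2, ?_⟩
    rw [h2] at h
    exact (mul_left_cancel h).symm
  · right
    refine ⟨h2, ?_⟩
    rw [h2, cab] at h
    exact (mul_left_cancel h).symm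
  · exfalso
    rw [h2] at h
    exact ne_one hd (mul_eq_left.1 h.symm)

/-- sixteen commuting transpositions generate a group with more than 128 elements -/
theorem card_gt {X : Subgroup Spor.Fi22} (e : Fin 16 → Spor.Fi22) (he : ∀ i, e i ∈ T) (hX : ∀ i, e i ∈ X)
    (hinj : Function.Injective e) (hcomm : ∀ i j, e i * e j = e j * e i) : 136 ≤ Nat.card ↥X := by
  classical
  have hfin := CTwoTab.Fi22.finite
  let P : Finset (Fin 16 × Fin 16) := Finset.univ.filter fun p => p.1 ≤ p.2
  let F : Fin 16 × Fin 16 → Spor.Fi22 := fun p => if p.1 = p.2 then e p.1 else e p.1 * e p.2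
  have hF : Set.InjOn F (P : Set (Fin 16 × Fin 16)) := by
    rintro ⟨i, j⟩ hij ⟨k, l⟩ hkl h
    have hij' : i ≤ j := (Finset.mem_filter.1 hij).2
    have hkl' : k ≤ l := (Finset.mem_filter.1 hkl).2
    simp only [F] at h
    by_cases h1 : i = j
    · by_cases h2 : k = l
      · rw [if_pos h1, if_pos h2] at h
        have h3 := hinj h
        rw [← h1, ← h2, h3]
      · rw [if_pos h1, if_neg h2] at h
        exact absurd h.symm (pair_ne (he k) (he l) (he i) (fun h3 => h2 (hinj h3)) (hcomm k l))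
    · by_cases h2 : k = l
      · rw [if_neg h1, if_pos h2] at h
        exact absurd h (pair_ne (he i) (he j) (he k) (fun h3 => h1 (hinj h3)) (hcomm i j))
      · rw [if_neg h1, if_neg h2] at h
        rcases pair_eq (he i) (he j) (he k) (he l) (fun h3 => h1 (hinj h3)) (hcomm i j) (fun h3 => h2 (hinj h3))
          (hcomm k l) h with ⟨h3, h4⟩ | ⟨h3, h4⟩
        · rw [hinj h3, hinj h4]
        · have h5 := hinj h3
          have h6 := hinj h4
          subst h5 h6
          exact absurd (le_antisymm hij' hkl') h1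
  have h1 : (P.image F).card = 136 := by
    rw [Finset.card_image_of_injOn hF]
    decide +kernel
  have h2 : ((P.image F : Finset Spor.Fi22) : Set Spor.Fi22) ⊆ (X : Set Spor.Fi22) := by
    intro x hx
    obtain ⟨⟨i, j⟩, -, rfl⟩ := Finset.mem_image.1 (Finset.mem_coe.1 hx)
    simp only [F]
    split_ifs
    · exact hX i
    · exact X.mul_mem (hX i) (hX j)
  have h3 := Set.ncard_le_ncard h2 (Set.toFinite _)
  rw [Set.ncard_coe_finset, h1] at h3
  exact h3

end Cfsg.Agent.H833.FiPairs
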