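import Cfsg.Agent.LieClassical.ReflGen

/-!
# 3-transpositions labelled by the nonsingular vectors of a quadratic space over `𝔽₂` (helper833)

`Lab q H tp F lam`: `H` acts on the points, `F` is the set of points with `tp x ∈ H`; the point `x ∈ F` has the label
`lam x`, a nonsingular vector; every label belongs to exactly two points; `tp x` acts on the labels by the reflection.

* `rigid`;
* `Lab.exists_rho` : `ρ : H →* orth q`, `lam (g • x) = ρ g (lam x)`;
* `Lab.surjective`;
* `Lab.sq_ker`, `Lab.card_ker`.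
-/

set_option autoImplicit false

namespace Cfsg.Agent.H833.LabOrth

open QuadraticMap Cfsg.Agent.LieClassical.ReflGen

variable {V : Type*} [AddCommGroup V] [Module (ZMod 2) V]

theorem z2 (a : ZMod 2) : a = 0 ∨ a = 1 := by
  revert a; decide

/-- a space over `𝔽₂` with nondegenerate polar form, spanned by its nonsingular vectors -/
structure Sp (q : QuadraticForm (ZMod 2) V) : Prop where
  nondeg : ∀ a : V, (∀ b, polar q a b = 0) → a = 0
  span : Submodule.span (ZMod 2) {v : V | q v = 1} = ⊤

variable {q : QuadraticForm (ZMod 2) V}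

theorem q_add (u v : V) : q (u + v) = q u + q v + polar q u v := by
  simp only [polar]
  ring

theorem add_self (v : V) : v + v = 0 := by
  have : (2 : ZMod 2) • v = 0 := by
    rw [show (2 : ZMod 2) = 0 from rfl, zero_smul]
  rwa [two_smul] at this

theorem q_zero' : q (0 : V) = 0 := QuadraticMap.map_zero q

theorem eq_of_polar (hq : Sp q) {u v : V} (h : ∀ w, q w = 1 → polar q u w = polar q v w) : u = v := by
  have h1 : u - v = 0 := by
    apply hq.nondeg
    intro b
    have hb : b ∈ Submodule.span (ZMod 2) {v : V | q v = 1} := by rw [hq.span]; trivial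
    induction hb using Submodule.span_induction with
    | mem w hw => rw [polar_sub_left, h w hw, sub_self]
    | zero => exact polar_zero_right (Q := q) _
    | add x y _ _ hx hy => rw [polar_add_right, hx, hy, add_zero]
    | smul a x _ hx => rw [polar_smul_right, hx, smul_zero]
  exact sub_eq_zero.1 h1

theorem orth_polar (A : orth (q : V → ZMod 2)) (u v : V) :
    polar q ((A : V ≃ₗ[ZMod 2] V) u) ((A : V ≃ₗ[ZMod 2] V) v) = polar q u v := by
  have h := A.2
  simp only [polar]
  rw [← map_add]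
  have h1 := h (u + v)
  have h2 := h u
  have h3 := h v
  rw [h1, h2, h3]

theorem eq_of_ns (hq : Sp q) {A A' : orth (q : V → ZMod 2)}
    (h : ∀ v, q v = 1 → (A : V ≃ₗ[ZMod 2] V) v = (A' : V ≃ₗ[ZMod 2] V) v) : A = A' := by
  apply Subtype.ext
  apply LinearEquiv.ext
  intro x
  have hx : x ∈ Submodule.span (ZMod 2) {v : V | q v = 1} := by rw [hq.span]; trivial
  induction hx using Submodule.span_induction with
  | mem w hw => exact h w hw
  | zero => rw [map_zero, map_zero]
  | add x y _ _ hx hy => rw [map_add, map_add, hx, hy]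
  | smul a x _ hx => rw [map_smul, map_smul, hx]

/-- **Rigidity**: a map of the nonsingular vectors preserving the polar form is induced by an isometry. -/
theorem rigid [Finite V] (hq : Sp q) (π : V → V) (h1 : ∀ v, q v = 1 → q (π v) = 1)
    (hB : ∀ u v, q u = 1 → q v = 1 → polar q (π u) (π v) = polar q u v) :
    ∃ A : orth (q : V → ZMod 2), ∀ v, q v = 1 → π v = (A : V ≃ₗ[ZMod 2] V) v := by
  classical
  let b := Module.Basis.ofSpan (K := ZMod 2) (V := V) (s := {v : V | q v = 1}) hq.span.ge
  have hb : ∀ i, q (b i) = 1 := fun i =>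
    Module.Basis.ofSpan_subset (K := ZMod 2) (V := V) (s := {v : V | q v = 1}) hq.span.ge ⟨i, rfl⟩
  let A₀ : V →ₗ[ZMod 2] V := b.constr (ZMod 2) (fun i => π (b i))
  have hA : ∀ i, A₀ (b i) = π (b i) := fun i => b.constr_basis (ZMod 2) _ i
  have hsp : ∀ x : V, x ∈ Submodule.span (ZMod 2) (Set.range b) := fun x => by
    rw [b.span_eq]; trivial
  have hB1 : ∀ i y, polar q (A₀ (b i)) (A₀ y) = polar q (b i) y := by
    intro i y
    refine Submodule.span_induction ?_ ?_ ?_ ?_ (hsp y)
    · rintro _ ⟨j, rfl⟩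
      rw [hA, hA, hB _ _ (hb i) (hb j)]
    · rw [map_zero, polar_zero_right, polar_zero_right]
    · intro x y _ _ hx hy
      rw [map_add, polar_add_right, polar_add_right, hx, hy]
    · intro a x _ hx
      rw [map_smul, polar_smul_right, polar_smul_right, hx]
  have hB2 : ∀ x y, polar q (A₀ x) (A₀ y) = polar q x y := by
    intro x y
    refine Submodule.span_induction ?_ ?_ ?_ ?_ (hsp x)
    · rintro _ ⟨j, rfl⟩
      exact hB1 j y
    · rw [map_zero, polar_zero_left, polar_zero_left]
    · intro u v _ _ hu hv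
      rw [map_add, polar_add_left, polar_add_left, hu, hv]
    · intro a u _ hu
      rw [map_smul, polar_smul_left, polar_smul_left, hu]
  have hqq : ∀ x, q (A₀ x) = q x := by
    intro x
    refine Submodule.span_induction ?_ ?_ ?_ ?_ (hsp x)
    · rintro _ ⟨j, rfl⟩
      rw [hA, h1 _ (hb j), hb j]
    · rw [map_zero]
    · intro u v _ _ hu hv
      rw [map_add, q_add, q_add, hu, hv, hB2]
    · intro a u _ hu
      rw [map_smul, QuadraticMap.map_smul, QuadraticMap.map_smul, hu]
  have hinj : Function.Injective A₀ := by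
    rw [← LinearMap.ker_eq_bot, Submodule.eq_bot_iff]
    intro x hx
    apply hq.nondeg
    intro y
    rw [← hB2, LinearMap.mem_ker.1 hx, polar_zero_left]
  have hfd : FiniteDimensional (ZMod 2) V := Module.Finite.of_finite
  let A : V ≃ₗ[ZMod 2] V := LinearEquiv.ofInjectiveEndo A₀ hinj
  have hAA : ∀ x, A x = A₀ x := fun x => rfl
  refine ⟨⟨A, fun x => by rw [hAA]; exact hqq x⟩, ?_⟩
  intro v hv
  show π v = A v
  rw [hAA]
  apply sub_eq_zero.1
  apply hq.nondeg
  intro w
  obtain ⟨y, rfl⟩ := A.surjective w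
  rw [hAA, polar_sub_left, hB2, sub_eq_zero]
  refine Submodule.span_induction ?_ ?_ ?_ ?_ (hsp y)
  · rintro _ ⟨j, rfl⟩
    rw [hA, hB _ _ hv (hb j)]
  · rw [map_zero, polar_zero_right, polar_zero_right]
  · intro x y _ _ hx hy
    rw [map_add, polar_add_right, polar_add_right, hx, hy]
  · intro a x _ hx
    rw [map_smul, polar_smul_right, polar_smul_right, hx]

/-! ### Labelled classes of 3-transpositions -/

variable {K : Type*} [Group K] {X : Type*} [MulAction K X]

/-- the situation -/
structure Lab (q : QuadraticForm (ZMod 2) V) (H : Subgroup K) (tp : X → K) (F : Set X) (lam : X → V) : Prop where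
  sp : Sp q
  smul_tp : ∀ (g : K) (x : X), tp (g • x) = g * tp x * g⁻¹
  sq : ∀ x, tp x * tp x = 1
  inj : ∀ x y, tp x = tp y → x = y
  three : ∀ x y, tp x * tp y = tp y * tp x ∨ tp x * tp y * tp x = tp y * tp x * tp y
  smulF : ∀ g ∈ H, ∀ x ∈ F, g • x ∈ F
  tpH : ∀ x ∈ F, tp x ∈ H
  q1 : ∀ x ∈ F, q (lam x) = 1
  surj : ∀ v, q v = 1 → ∃ x ∈ F, lam x = v
  two : ∀ x ∈ F, ∃ y ∈ F, y ≠ x ∧ lam y = lam x ∧ ∀ z ∈ F, lam z = lam x → z = x ∨ z = y
  comm : ∀ x ∈ F, ∀ y ∈ F, (tp x * tp y = tp y * tp x ↔ polar q (lam x) (lam y) = 0)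
  refl : ∀ x ∈ F, ∀ y ∈ F, lam (tp x • y) = lam y + polar q (lam x) (lam y) • lam x
  cent : ∀ g ∈ H, (∀ x ∈ F, g • x = x) → g = 1

namespace Lab

variable {H : Subgroup K} {tp : X → K} {F : Set X} {lam : X → V} (L : Lab q H tp F lam)
include L

/-- equal labels stay equal -/
theorem lam_congr {g : K} (hg : g ∈ H) {x y : X} (hx : x ∈ F) (hy : y ∈ F) (h : lam x = lam y) :
    lam (g • x) = lam (g • y) := by
  apply eq_of_polar L.sp
  intro w hw
  obtain ⟨z, hz, rfl⟩ := L.surj w hw
  have hz' := L.smulF _ (inv_mem hg) z hz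
  have key : ∀ u ∈ F, (polar q (lam (g • u)) (lam z) = 0 ↔ polar q (lam u) (lam (g⁻¹ • z)) = 0) := by
    intro u hu
    rw [← L.comm _ (L.smulF g hg u hu) z hz, ← L.comm u hu _ hz', L.smul_tp, L.smul_tp]
    constructor
    · intro h1
      calc tp u * (g⁻¹ * tp z * g⁻¹⁻¹) = g⁻¹ * (g * tp u * g⁻¹ * tp z) * g := by group
        _ = g⁻¹ * (tp z * (g * tp u * g⁻¹)) * g := by rw [h1]
        _ = g⁻¹ * tp z * g⁻¹⁻¹ * tp u := by group
    · intro h1
      calc g * tp u * g⁻¹ * tp z = g * (tp u * (g⁻¹ * tp z * g⁻¹⁻¹)) * g⁻¹ := by group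
        _ = g * (g⁻¹ * tp z * g⁻¹⁻¹ * tp u) * g⁻¹ := by rw [h1]
        _ = tp z * (g * tp u * g⁻¹) := by group
  have h1 : polar q (lam (g • x)) (lam z) = 0 ↔ polar q (lam (g • y)) (lam z) = 0 := by
    rw [key x hx, key y hy, h]
  rcases z2 (polar q (lam (g • x)) (lam z)) with h2 | h2 <;>
    rcases z2 (polar q (lam (g • y)) (lam z)) with h3 | h3
  · rw [h2, h3]
  · exact absurd (h1.1 h2) (by rw [h3]; exact one_ne_zero)
  · exact absurd (h1.2 h3) (by rw [h2]; exact one_ne_zero)
  · rw [h2, h3]

theorem exists_iso [Finite V] (g : H) :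
    ∃ A : orth (q : V → ZMod 2), ∀ x ∈ F, lam ((g : K) • x) = (A : V ≃ₗ[ZMod 2] V) (lam x) := by
  classical
  let π : V → V := fun v => if h : q v = 1 then lam ((g : K) • (L.surj v h).choose) else v
  have hπ : ∀ x ∈ F, π (lam x) = lam ((g : K) • x) := by
    intro x hx
    have h := L.q1 x hx
    show (if h : q (lam x) = 1 then lam ((g : K) • (L.surj _ h).choose) else lam x) = _
    rw [dif_pos h]
    exact L.lam_congr g.2 (L.surj _ h).choose_spec.1 hx (L.surj _ h).choose_spec.2
  obtain ⟨A, hA⟩ := rigid L.sp π (by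
      intro v hv
      obtain ⟨x, hx, rfl⟩ := L.surj v hv
      rw [hπ x hx]
      exact L.q1 _ (L.smulF _ g.2 x hx)) (by
      intro u v hu hv
      obtain ⟨x, hx, rfl⟩ := L.surj u hu
      obtain ⟨y, hy, rfl⟩ := L.surj v hv
      rw [hπ x hx, hπ y hy]
      have h1 : polar q (lam ((g : K) • x)) (lam ((g : K) • y)) = 0 ↔ polar q (lam x) (lam y) = 0 := by
        rw [← L.comm _ (L.smulF _ g.2 x hx) _ (L.smulF _ g.2 y hy), ← L.comm x hx y hy, L.smul_tp, L.smul_tp]
        constructor
        · intro h1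
          calc tp x * tp y = (g : K)⁻¹ * (g * tp x * (g : K)⁻¹ * (g * tp y * (g : K)⁻¹)) * g := by group
            _ = (g : K)⁻¹ * (g * tp y * (g : K)⁻¹ * (g * tp x * (g : K)⁻¹)) * g := by rw [h1]
            _ = tp y * tp x := by group
        · intro h1
          calc g * tp x * (g : K)⁻¹ * (g * tp y * (g : K)⁻¹) = g * (tp x * tp y) * (g : K)⁻¹ := by group
            _ = g * (tp y * tp x) * (g : K)⁻¹ := by rw [h1]
            _ = g * tp y * (g : K)⁻¹ * (g * tp x * (g : K)⁻¹) := by group
      rcases z2 (polar q (lam ((g : K) • x)) (lam ((g : K) • y))) with h2 | h2 <;>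
        rcases z2 (polar q (lam x) (lam y)) with h3 | h3
      · rw [h2, h3]
      · exact absurd (h1.1 h2) (by rw [h3]; exact one_ne_zero)
      · exact absurd (h1.2 h3) (by rw [h2]; exact one_ne_zero)
      · rw [h2, h3])
  exact ⟨A, fun x hx => by rw [← hA _ (L.q1 x hx), hπ x hx]⟩

/-- **The homomorphism.** -/
theorem exists_rho [Finite V] : ∃ ρ : H →* orth (q : V → ZMod 2), ∀ (g : H), ∀ x ∈ F,
    lam ((g : K) • x) = (ρ g : V ≃ₗ[ZMod 2] V) (lam x) := by
  classical
  choose f hf using L.exists_iso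
  have huniq : ∀ (A B : orth (q : V → ZMod 2)), (∀ x ∈ F, (A : V ≃ₗ[ZMod 2] V) (lam x) = (B : V ≃ₗ[ZMod 2] V) (lam x)) →
      A = B := by
    intro A B h
    apply eq_of_ns L.sp
    intro v hv
    obtain ⟨x, hx, rfl⟩ := L.surj v hv
    exact h x hx
  refine ⟨{ toFun := f, map_one' := ?_, map_mul' := ?_ }, hf⟩
  · apply huniq
    intro x hx
    rw [← hf 1 x hx]
    show lam ((1 : K) • x) = lam x
    rw [one_smul]
  · intro g h
    apply huniq
    intro x hx
    rw [← hf (g * h) x hx]
    show lam (((g : K) * h) • x) = (f g : V ≃ₗ[ZMod 2] V) ((f h : V ≃ₗ[ZMod 2] V) (lam x))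
    rw [← hf h x hx, ← hf g _ (L.smulF _ h.2 x hx), mul_smul]

theorem surjective (hr : reflGroup q = ⊤) (ρ : H →* orth (q : V → ZMod 2))
    (hρ : ∀ (g : H), ∀ x ∈ F, lam ((g : K) • x) = (ρ g : V ≃ₗ[ZMod 2] V) (lam x)) : Function.Surjective ρ := by
  rw [← MonoidHom.range_eq_top, eq_top_iff, ← hr, reflGroup, Subgroup.closure_le]
  rintro _ ⟨a, ha, rfl⟩
  have ha1 : q a = 1 := (z2 _).resolve_left ha
  obtain ⟨x, hx, rfl⟩ := L.surj a ha1
  refine ⟨⟨tp x, L.tpH x hx⟩, ?_⟩
  apply eq_of_ns L.sp
  intro v hv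
  obtain ⟨y, hy, rfl⟩ := L.surj v hv
  rw [← hρ _ y hy, refl_apply, L.refl x hx y hy, ha1, inv_one, one_mul]
  have : ∀ (c : ZMod 2) (u v : V), v + c • u = v - c • u := by
    intro c u v
    rw [sub_eq_add_neg]
    congr 1
    have := add_self (c • u)
    exact (neg_eq_of_add_eq_zero_right this).symm
  rw [this]

/-- the two points of a label: noncommuting transpositions -/
theorem smul_ne {x x' y : X} (hne : x ≠ x') (h1 : tp x * tp y ≠ tp y * tp x) (h2 : tp x' * tp y ≠ tp y * tp x') :
    tp x • y ≠ tp x' • y := by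
  intro h
  have h3 := congrArg tp h
  rw [L.smul_tp, L.smul_tp] at h3
  have e1 := (L.three x y).resolve_left h1
  have e2 := (L.three x' y).resolve_left h2
  have i1 : (tp x)⁻¹ = tp x := inv_eq_of_mul_eq_one_right (L.sq x)
  have i2 : (tp x')⁻¹ = tp x' := inv_eq_of_mul_eq_one_right (L.sq x')
  rw [i1, i2, e1, e2] at h3
  exact hne (L.inj _ _ (mul_left_cancel (mul_right_cancel h3)))

theorem ker_iff (ρ : H →* orth (q : V → ZMod 2))
    (hρ : ∀ (g : H), ∀ x ∈ F, lam ((g : K) • x) = (ρ g : V ≃ₗ[ZMod 2] V) (lam x)) (g : H) :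
    ρ g = 1 ↔ ∀ x ∈ F, lam ((g : K) • x) = lam x := by
  constructor
  · intro h x hx
    rw [hρ g x hx, h]
    rfl
  · intro h
    apply eq_of_ns L.sp
    intro v hv
    obtain ⟨x, hx, rfl⟩ := L.surj v hv
    rw [← hρ g x hx, h x hx]
    rfl

/-- two elements of the kernel moving the same points are inverse -/
theorem mul_eq_one {g h : K} (hg : g ∈ H) (hh : h ∈ H) (kg : ∀ x ∈ F, lam (g • x) = lam x)
    (kh : ∀ x ∈ F, lam (h • x) = lam x) (e : ∀ x ∈ F, (g • x = x ↔ h • x = x)) : g * h = 1 := by
  apply L.cent _ (mul_mem hg hh)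
  intro x hx
  by_cases h1 : h • x = x
  · rw [mul_smul, h1, (e x hx).2 h1]
  · obtain ⟨y, hy, hyx, hl, hz⟩ := L.two x hx
    have h2 : h • x = y := (hz _ (L.smulF h hh x hx) (kh x hx)).resolve_left h1
    have h3 : g • x = y := (hz _ (L.smulF g hg x hx) (kg x hx)).resolve_left (fun e1 => h1 ((e x hx).1 e1))
    have h4 : g • y = x := by
      rcases hz _ (L.smulF g hg y hy) ((kg y hy).trans hl) with h5 | h5
      · exact h5
      · exfalso
        apply hyx
        have h6 : g • y = g • x := by rw [h5, h3]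
        exact smul_left_cancel g h6
    rw [mul_smul, h2, h4]

theorem sq_ker {g : K} (hg : g ∈ H) (kg : ∀ x ∈ F, lam (g • x) = lam x) : g * g = 1 :=
  L.mul_eq_one hg hg kg kg fun _ _ => Iff.rfl

/-- the element of the kernel attached to a vector -/
theorem exists_ker (v : V) : ∃ g ∈ H, (∀ x ∈ F, lam (g • x) = lam x) ∧
    ∀ x ∈ F, (g • x = x ↔ polar q v (lam x) = 0) := by
  have hv : v ∈ Submodule.span (ZMod 2) {v : V | q v = 1} := by rw [L.sp.span]; trivial
  induction hv using Submodule.span_induction with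
  | mem v hv =>
    obtain ⟨x, hx, rfl⟩ := L.surj v hv
    obtain ⟨x', hx', hne, hl, hz⟩ := L.two x hx
    refine ⟨tp x * tp x', mul_mem (L.tpH x hx) (L.tpH x' hx'), ?_, ?_⟩
    · intro y hy
      rw [mul_smul, L.refl x hx _ (L.smulF _ (L.tpH x' hx') y hy), L.refl x' hx' y hy, hl, polar_add_right,
        polar_smul_right]
      have h1 : polar q (lam x) (lam x) = 0 := by
        have h2 := q_add (q := q) (lam x) (lam x)
        rw [add_self, q_zero', L.q1 x hx] at h2
        have h3 : (1 : ZMod 2) + 1 = 0 := rfl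
        rw [h3, zero_add] at h2
        exact h2.symm
      rw [h1, smul_zero, add_zero, add_assoc, add_self, add_zero]
    · intro y hy
      rw [← L.comm x hx y hy]
      have h0 : ∀ z ∈ F, (tp z • y = y ↔ tp z * tp y = tp y * tp z) := by
        intro z _
        constructor
        · intro h1
          have h2 := congrArg tp h1
          rw [L.smul_tp] at h2
          exact mul_inv_eq_iff_eq_mul.1 h2
        · intro h1
          apply L.inj
          rw [L.smul_tp, h1, mul_inv_cancel_right]
      have hcc : tp x' * tp y = tp y * tp x' ↔ tp x * tp y = tp y * tp x := by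
        rw [L.comm x hx y hy, L.comm x' hx' y hy, hl]
      constructor
      · intro h1
        by_contra hcon
        have h2 : tp x' * tp y ≠ tp y * tp x' := fun e => hcon (hcc.1 e)
        apply L.smul_ne hne.symm hcon h2
        rw [mul_smul] at h1
        have h3 : tp x • (tp x • (tp x' • y)) = tp x • y := by rw [h1]
        rw [smul_smul, L.sq, one_smul] at h3
        exact h3.symm
      · intro h1
        rw [mul_smul, (h0 x' hx').2 (hcc.2 h1), (h0 x hx).2 h1]
  | zero =>
    refine ⟨1, one_mem _, fun x _ => by rw [one_smul], fun x _ => ?_⟩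
    rw [one_smul, polar_zero_left]
    simp
  | add u w _ _ hu hw =>
    obtain ⟨g, hg, kg, pg⟩ := hu
    obtain ⟨h, hh, kh, ph⟩ := hw
    refine ⟨g * h, mul_mem hg hh, fun x hx => ?_, fun x hx => ?_⟩
    · rw [mul_smul, kg _ (L.smulF h hh x hx), kh x hx]
    · rw [polar_add_left, mul_smul]
      obtain ⟨y, hy, hyx, hl, hz⟩ := L.two x hx
      have gy : g • y = y ↔ g • x = x := by
        rw [pg y hy, pg x hx, hl]
      by_cases h1 : h • x = x
      · rw [h1, pg x hx, (ph x hx).1 h1, add_zero]
      · have h2 : h • x = y := (hz _ (L.smulF h hh x hx) (kh x hx)).resolve_left h1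
        have h3 : polar q w (lam x) = 1 := (z2 _).resolve_left (fun e => h1 ((ph x hx).2 e))
        rw [h2, h3]
        by_cases h4 : g • x = x
        · rw [gy.2 h4, (pg x hx).1 h4, zero_add]
          exact ⟨fun e => absurd e hyx, fun e => absurd e one_ne_zero⟩
        · have h5 : polar q u (lam x) = 1 := (z2 _).resolve_left (fun e => h4 ((pg x hx).2 e))
          have h6 : g • y ≠ y := fun e => h4 (gy.1 e)
          have h7 : g • y = x := by
            rcases hz _ (L.smulF g hg y hy) ((kg y hy).trans hl) with h8 | h8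
            · exact h8
            · exact absurd h8 h6
          rw [h7, h5]
          exact ⟨fun _ => rfl, fun _ => rfl⟩
  | smul a u _ hu =>
    rcases z2 a with rfl | rfl
    · refine ⟨1, one_mem _, fun x _ => by rw [one_smul], fun x _ => ?_⟩
      rw [one_smul, zero_smul, polar_zero_left]
      simp
    · rw [one_smul]
      exact hu

/-- **The order of the kernel**: `xs` six (or so) points whose transpositions, with the one of the other point `x0`
of the label of `xs i0`, generate a group transitive on `F` -/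
theorem card_ker [Finite V] {ι : Type*} [Fintype ι] (hι : Nat.card V = 2 ^ Fintype.card ι) (ρ : H →* orth (q : V → ZMod 2))
    (hρ : ∀ (g : H), ∀ x ∈ F, lam ((g : K) • x) = (ρ g : V ≃ₗ[ZMod 2] V) (lam x))
    (xs : ι → X) (hxs : ∀ i, xs i ∈ F) (i0 : ι) (x0 : X) (hx0 : x0 ∈ F) (hl0 : lam x0 = lam (xs i0))
    (hgen : ∀ Y : Set X, (∀ i, xs i ∈ Y) → x0 ∈ Y → (∀ i, ∀ y ∈ Y, tp (xs i) • y ∈ Y) →
      (∀ y ∈ Y, tp x0 • y ∈ Y) → F ⊆ Y) : Nat.card ρ.ker = Nat.card V := by
  classical
  have hk := L.ker_iff ρ hρ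
  -- an element of the kernel fixing the `xs i` is trivial
  have key : ∀ g ∈ H, (∀ x ∈ F, lam (g • x) = lam x) → (∀ i, g • xs i = xs i) → g = 1 := by
    intro g hg kg hfix
    have h0 : g • x0 = x0 := by
      by_cases h1 : x0 = xs i0
      · rw [h1]; exact hfix i0
      · obtain ⟨y, hy, hyx, hl, hz⟩ := L.two (xs i0) (hxs i0)
        have h2 : x0 = y := (hz x0 hx0 hl0).resolve_left h1
        rcases hz _ (L.smulF g hg x0 hx0) ((kg x0 hx0).trans hl0) with h3 | h3
        · exfalso
          apply h1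
          have h4 : g • x0 = g • xs i0 := by rw [h3, hfix]
          exact smul_left_cancel g h4
        · rw [h3, h2]
    have hcomm : ∀ x : X, g • x = x → ∀ y : X, g • y = y → g • (tp x • y) = tp x • y := by
      intro x hx y hy
      have h1 : g * tp x = tp x * g := by
        have := L.smul_tp g x
        rw [hx] at this
        exact (mul_inv_eq_iff_eq_mul.1 this.symm)
      rw [smul_smul, h1, mul_smul, hy]
    have hY := hgen {y | g • y = y} hfix h0 (fun i y hy => hcomm _ (hfix i) y hy) (fun y hy => hcomm _ h0 y hy)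
    exact L.cent g hg fun x hx => hY hx
  have hinj : Function.Injective (fun (g : ρ.ker) (i : ι) => decide (((g : H) : K) • xs i = xs i)) := by
    intro g h e
    have kg := (hk (g : H)).1 (MonoidHom.mem_ker.1 g.2)
    have kh := (hk (h : H)).1 (MonoidHom.mem_ker.1 h.2)
    have e1 : ∀ i, (((g : H) : K) • xs i = xs i ↔ ((h : H) : K) • xs i = xs i) := by
      intro i
      have := congrFun e i
      simpa using this
    have hgh : (((g : H) : K) * ((h : H) : K)) = 1 := by
      apply key _ (mul_mem (g : H).2 (h : H).2)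
      · intro x hx
        rw [mul_smul, kg _ (L.smulF _ (h : H).2 x hx), kh x hx]
      · intro i
        by_cases h1 : ((h : H) : K) • xs i = xs i
        · rw [mul_smul, h1, (e1 i).2 h1]
        · obtain ⟨y, hy, hyx, hl, hz⟩ := L.two (xs i) (hxs i)
          have h2 := (hz _ (L.smulF _ (h : H).2 _ (hxs i)) (kh _ (hxs i))).resolve_left h1
          have h3 := (hz _ (L.smulF _ (g : H).2 _ (hxs i)) (kg _ (hxs i))).resolve_left (fun e2 => h1 ((e1 i).1 e2))
          have h4 : ((g : H) : K) • y = xs i := by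
            rcases hz _ (L.smulF _ (g : H).2 y hy) ((kg y hy).trans hl) with h5 | h5
            · exact h5
            · exfalso
              apply hyx
              have h6 : ((g : H) : K) • y = ((g : H) : K) • xs i := by rw [h5, h3]
              exact smul_left_cancel _ h6
          rw [mul_smul, h2, h4]
    have hhh := L.sq_ker (h : H).2 kh
    apply Subtype.ext
    apply Subtype.ext
    calc ((g : H) : K) = (((g : H) : K) * ((h : H) : K)) * ((h : H) : K)⁻¹ := by group
      _ = ((h : H) : K)⁻¹ := by rw [hgh, one_mul]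
      _ = ((h : H) : K) := inv_eq_of_mul_eq_one_right hhh
  have hfinK : Finite ρ.ker := Finite.of_injective _ hinj
  apply le_antisymm
  · have h1 := Nat.card_le_card_of_injective _ hinj
    have h2 : Nat.card (ι → Bool) = 2 ^ Fintype.card ι := by simp
    rw [h2, ← hι] at h1
    exact h1
  · choose n hn kn pn using L.exists_ker
    have hm : ∀ v : V, (⟨n v, hn v⟩ : H) ∈ ρ.ker := fun v => MonoidHom.mem_ker.2 ((hk ⟨n v, hn v⟩).2 (kn v))
    apply Nat.card_le_card_of_injective (fun v : V => (⟨⟨n v, hn v⟩, hm v⟩ : ρ.ker))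
    intro u v e
    have e1 : n u = n v := congrArg (fun g : ρ.ker => ((g : H) : K)) e
    apply eq_of_polar L.sp
    intro w hw
    obtain ⟨x, hx, rfl⟩ := L.surj w hw
    have h1 : polar q u (lam x) = 0 ↔ polar q v (lam x) = 0 := by
      rw [← pn u x hx, ← pn v x hx, e1]
    rcases z2 (polar q u (lam x)) with h2 | h2 <;> rcases z2 (polar q v (lam x)) with h3 | h3
    · rw [h2, h3]
    · exact absurd (h1.1 h2) (by rw [h3]; exact one_ne_zero)
    · exact absurd (h1.2 h3) (by rw [h2]; exact one_ne_zero)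
    · rw [h2, h3]

end Lab

end Cfsg.Agent.H833.LabOrth
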