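import Cfsg.Agent.H833.PlusTwo
import Cfsg.Agent.ClassicalGeometry.SympAutExists
import Cfsg.Agent.LieClassical.SympPerfect
import Cfsg.Agent.ThreePrime.AutQuot

/-!
# Automorphisms of order `2 r` of `PSp₆(q)` and `PΩ₇(q)`, `q` odd, `ord_r(q) = 6` (helper833)
-/

set_option autoImplicit false

namespace Cfsg.Agent.H833.PlusTwo

open Module QuadraticMap Cfsg Cfsg.Agent.LieClassical.OrthCore Cfsg.Agent.H955 Cfsg.Agent.H954.TSing
  Cfsg.Agent.H884.El Cfsg.Agent.LieClassical.OmegaReindex Cfsg.Agent.ClassicalGeometry.Reflection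
open Cfsg.Agent.H951 (fx cm Inv)
open Cfsg.Agent.ThreePrime.AutQuot
open scoped MatrixGroups Matrix

/-- an automorphism of order 2 fixing an element of order `r` -/
theorem exists_aut {J : Type*} [Group J] {r : ℕ} (hr : r.Prime) (hr2 : r ≠ 2)
    (hinj : ∀ φ : MulAut J, autQuot J φ = 1 → φ = 1) {φ : MulAut J} (h1 : φ ≠ 1) (h2 : φ ^ 2 = 1)
    {w : J} (hw : w ^ r = 1) (hwc : w ∉ Subgroup.center J) (hφw : φ w = w) :
    ∃ α : MulAut (J ⧸ Subgroup.center J), orderOf α = 2 * r := by
  have hf2 : Fact (Nat.Prime 2) := ⟨Nat.prime_two⟩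
  have hfr : Fact (Nat.Prime r) := ⟨hr⟩
  have ha : orderOf (autQuot J φ) = 2 := by
    refine orderOf_eq_prime ?_ fun h => h1 (hinj φ h)
    rw [← map_pow, h2, map_one]
  have hb : orderOf (autQuot J (MulAut.conj w)) = r := by
    refine orderOf_eq_prime ?_ fun h => hwc ?_
    · rw [← map_pow, ← map_pow, hw, map_one, map_one]
    · have h3 := hinj _ h
      rw [Subgroup.mem_center_iff]
      intro g
      have h4 := DFunLike.congr_fun h3 g
      rw [MulAut.conj_apply, MulAut.one_apply] at h4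
      exact (mul_inv_eq_iff_eq_mul.1 h4).symm
  have hc : φ * MulAut.conj w = MulAut.conj w * φ := by
    ext g
    rw [MulAut.mul_apply, MulAut.mul_apply, MulAut.conj_apply, MulAut.conj_apply, map_mul, map_mul, map_inv, hφw]
  have hcomm : Commute (autQuot J φ) (autQuot J (MulAut.conj w)) := by
    change _ * _ = _ * _
    rw [← map_mul, ← map_mul, hc]
  refine ⟨autQuot J φ * autQuot J (MulAut.conj w), ?_⟩
  rw [hcomm.orderOf_mul_eq_mul_orderOf_of_coprime, ha, hb]
  rw [ha, hb]
  exact (Nat.coprime_primes Nat.prime_two hr).2 (Ne.symm hr2)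

section sp

open Polynomial Cfsg.Agent.ClassicalGeometry.SympBasic Cfsg.Agent.ClassicalGeometry.SympAutSemi
  Cfsg.Agent.ClassicalGeometry.SympAutExists

variable {F : Type*} [Field F] [Fintype F]

/-- an element of `F` is a square in an extension of degree 6 -/
theorem isSquare_six {K : Type*} [Field K] [Fintype K] [Algebra F K] (hodd : Odd (Fintype.card F))
    (hK : Fintype.card K = Fintype.card F ^ 6) (c : F) (hc : c ≠ 0) : IsSquare (algebraMap F K c) := by
  have hK2 : ringChar K ≠ 2 := by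
    intro h
    have h1 := (FiniteField.even_card_iff_char_two (F := K)).1 h
    rw [hK] at h1
    have h2 : Odd (Fintype.card F ^ 6) := hodd.pow
    rw [Nat.odd_iff] at h2
    omega
  have hc' : algebraMap F K c ≠ 0 := by
    intro h
    exact hc ((algebraMap F K).injective (by rw [h, map_zero]))
  rw [FiniteField.isSquare_iff hK2 hc', hK]
  obtain ⟨k, hk⟩ := hodd
  have h1 : Fintype.card F ^ 6 / 2 = (Fintype.card F - 1) * ((k + 1) * (Fintype.card F ^ 4 + Fintype.card F ^ 2 + 1)) := by
    have h2 : Fintype.card F - 1 = 2 * k := by omega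
    have h3 : Fintype.card F ^ 6 = 2 * ((2 * k) * ((k + 1) * (Fintype.card F ^ 4 + Fintype.card F ^ 2 + 1))) + 1 := by
      rw [hk]; ring
    rw [h2]
    omega
  rw [h1, pow_mul, ← map_pow, FiniteField.pow_card_sub_one_eq_one c hc, map_one, one_pow]

/-- **the square root of a nonsquare commuting with an element of order `r`** -/
theorem exists_zeta {V : Type*} [AddCommGroup V] [Module F V] [FiniteDimensional F V] {x : Module.End F V} {r : ℕ}
    (hodd : Odd (Fintype.card F)) (hr : PP (Nat.card F) 6 r) (hx : x ^ r = 1) (hcm : finrank F (cm x) = 6)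
    (hV : cm x = ⊤) {c : F} (hc : c ≠ 0) : ∃ h : F[X], ∀ v, (aeval x h) ((aeval x h) v) = c • v := by
  have hfr := Fact.mk hr.prime
  have hr0 := hr.ne0 (by norm_num)
  have hirr := H938.Sax.Frat.irr_cm hr (by norm_num) hx hcm
  obtain ⟨P, hP, hd, hPW⟩ := hirr.exists_factor (cyclotomic r F) (cyclotomic_ne_zero r F)
    (fun v hv => H951.cyclotomic_apply_of_mem_cm hx hv)
  have hdeg : P.natDegree = 6 := by
    rw [H951.natDegree_factor hr0 hP hd, ord_eq hr]
  have hPf : Fact (Irreducible P) := ⟨hP⟩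
  have hfd : FiniteDimensional F (AdjoinRoot P) := (AdjoinRoot.powerBasis hP.ne_zero).finite
  have hfin : Finite (AdjoinRoot P) := Module.finite_of_finite F
  let _ : Fintype (AdjoinRoot P) := Fintype.ofFinite _
  have hcard : Fintype.card (AdjoinRoot P) = Fintype.card F ^ 6 := by
    rw [Module.card_eq_pow_finrank (K := F), (AdjoinRoot.powerBasis hP.ne_zero).finrank,
      AdjoinRoot.powerBasis_dim, hdeg]
  obtain ⟨z, hz⟩ := isSquare_six hodd hcard c hc
  obtain ⟨h, rfl⟩ := AdjoinRoot.mk_surjective z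
  have h1 : AdjoinRoot.mk P (h * h - C c) = 0 := by
    rw [map_sub, map_mul, ← hz, AdjoinRoot.mk_C, sub_eq_zero]
    rfl
  obtain ⟨t, ht⟩ := AdjoinRoot.mk_eq_zero.1 h1
  refine ⟨h, fun v => ?_⟩
  have h2 : aeval x (h * h - C c) v = 0 := by
    rw [ht, mul_comm, map_mul, Module.End.mul_apply, hPW v (by rw [hV]; trivial), map_zero]
  rw [map_sub, LinearMap.sub_apply, map_mul, Module.End.mul_apply, aeval_C, Module.algebraMap_end_apply,
    sub_eq_zero] at h2
  exact h2

omit [Fintype F] in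
/-- the adjoint of a polynomial in `x` -/
theorem adjoint_aeval {V : Type*} [AddCommGroup V] [Module F V] {x y : Module.End F V} (B : V → V → F)
    (hadd : ∀ u u' v, B (u + u') v = B u v + B u' v) (hadd' : ∀ u v v', B u (v + v') = B u v + B u v')
    (hsm : ∀ (a : F) u v, B (a • u) v = a * B u v) (hsm' : ∀ (a : F) u v, B u (a • v) = a * B u v)
    (hxy : ∀ u v, B (x u) v = B u (y v)) (f : F[X]) (u v : V) : B (aeval x f u) v = B u (aeval y f v) := by
  have hpow : ∀ n : ℕ, ∀ u v, B ((x ^ n) u) v = B u ((y ^ n) v) := by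
    intro n
    induction n with
    | zero => intro u v; rfl
    | succ n ih => 
      intro u v
      rw [pow_succ, pow_succ', Module.End.mul_apply, Module.End.mul_apply, ih, hxy]
  induction f using Polynomial.induction_on' with
  | add p q hp hq => rw [map_add, map_add, LinearMap.add_apply, LinearMap.add_apply, hadd, hadd', hp, hq]
  | monomial n a =>
    rw [aeval_monomial, aeval_monomial, Module.End.mul_apply, Module.End.mul_apply, Module.algebraMap_end_apply,
      Module.algebraMap_end_apply, hsm, hsm', hpow]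

theorem expand_three (f : F[X]) : expand F (Fintype.card F ^ 3) f = f ^ (Fintype.card F ^ 3) := by
  have h : ∀ g : F[X], expand F (Fintype.card F) g = g ^ Fintype.card F := fun g => FiniteField.expand_card g
  have h3 : Fintype.card F ^ 3 = Fintype.card F * (Fintype.card F * Fintype.card F) := by ring
  rw [h3, ← expand_expand, ← expand_expand, h, h, h, pow_mul, pow_mul]

/-- **`PSp₆(q)`** -/
theorem sp_aut (hodd : Odd (Fintype.card F)) {r : ℕ} (hr : PP (Nat.card F) 6 r) :
    ∃ α : MulAut (PSp 3 F), orderOf α = 2 * r := by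
  have hfr := Fact.mk hr.prime
  have hF2 := H390.two_ne_zero_of_odd hodd
  have hr1 := hr.lt (by norm_num)
  have hr0 := hr.ne0 (by norm_num)
  have hq : 1 ≤ Nat.card F := Nat.card_pos
  -- an element of order `r`
  have hdvd : r ∣ Nat.card (Matrix.symplecticGroup (Fin 3) F) := by
    rw [S0245.result (F := F) rfl 3]
    apply Dvd.dvd.mul_left
    refine Dvd.dvd.trans ?_ (Finset.dvd_prod_of_mem _ (Finset.mem_range.2 (show 2 < 3 by norm_num)))
    have := (hr.dvd_iff hq 6).2 dvd_rfl
    rw [Nat.card_eq_fintype_card] at this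
    exact this
  obtain ⟨w, hw⟩ := exists_prime_orderOf_dvd_card' r hdvd
  have hwr : w ^ r = 1 := by rw [← hw, pow_orderOf_eq_one]
  set x : Module.End F (Fin 3 ⊕ Fin 3 → F) := Matrix.toLin' (w : Matrix (Fin 3 ⊕ Fin 3) (Fin 3 ⊕ Fin 3) F) with hxd
  have hxv : ∀ v, x v = rho 3 F w v := fun v => Matrix.toLin'_apply _ _
  have hxpow : ∀ n : ℕ, ∀ v, (x ^ n) v = rho 3 F (w ^ n) v := by
    intro n
    induction n with
    | zero => intro v; rw [pow_zero, pow_zero, map_one]; rfl
    | succ n ih =>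
      intro v
      rw [pow_succ', pow_succ', Module.End.mul_apply, ih, hxv, map_mul, Equiv.Perm.mul_apply]
  have hx : x ^ r = 1 := LinearMap.ext fun v => by rw [hxpow, hwr, map_one]; rfl
  have hx1 : x ≠ 1 := by
    intro h
    have h1 : w = 1 := rho_injective (Equiv.ext fun v => by rw [← hxv, h, map_one]; rfl)
    rw [h1, orderOf_one] at hw
    exact hr.prime.one_lt.ne hw
  have hfinV : finrank F (Fin 3 ⊕ Fin 3 → F) = 6 := by
    rw [Module.finrank_fintype_fun_eq_card]; rfl
  have hcm : finrank F (cm x) = 6 := by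
    have h10 : 6 ∣ finrank F (cm x) := by
      rw [← ord_eq hr]
      exact H951.ord_dvd_finrank hx H951.inv_cm (H951.inf_fx_of_le_cm hr0 hx le_rfl)
    have h11 : finrank F (cm x) ≤ finrank F (Fin 3 ⊕ Fin 3 → F) := Submodule.finrank_le _
    have h12 : finrank F (cm x) ≠ 0 := fun h0 => cm_ne_bot hx1 (Submodule.finrank_eq_zero.1 h0)
    have := Nat.le_of_dvd (Nat.pos_of_ne_zero h12) h10
    omega
  have hV : cm x = ⊤ := Submodule.eq_top_of_finrank_eq (by rw [hcm, hfinV])
  -- the square root of a nonsquare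
  obtain ⟨c, hc⟩ := FiniteField.exists_nonsquare (F := F) (by
    intro h
    have h1 := (FiniteField.even_card_iff_char_two (F := F)).1 h
    rw [Nat.odd_iff] at hodd
    omega)
  have hc0 : c ≠ 0 := by rintro rfl; exact hc IsSquare.zero
  obtain ⟨h, hh⟩ := exists_zeta hodd hr hx hcm hV hc0
  set ζ : Module.End F (Fin 3 ⊕ Fin 3 → F) := aeval x h with hζ
  have hζx : ∀ v, ζ (x v) = x (ζ v) := by
    intro v
    have h1 : ζ * x = x * ζ := by
      have h2 : aeval x (h * X) = ζ * x := by rw [map_mul, aeval_X]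
      have h3 : aeval x (X * h) = x * ζ := by rw [map_mul, aeval_X]
      rw [← h2, ← h3, mul_comm]
    exact congrArg (fun z : Module.End F _ => z v) h1
  -- it is a similitude
  have hx3 : x ^ (Fintype.card F ^ 3 + 1) = 1 := by
    have h1 : r ∣ Fintype.card F ^ 3 + 1 := by
      have h6 : r ∣ (Fintype.card F ^ 3 - 1) * (Fintype.card F ^ 3 + 1) := by
        have h7 := (hr.dvd_iff hq 6).2 dvd_rfl
        rw [Nat.card_eq_fintype_card] at h7
        have h8 : (Fintype.card F ^ 3 - 1) * (Fintype.card F ^ 3 + 1) = Fintype.card F ^ 6 - 1 := by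
          rw [mul_comm, ← Nat.sq_sub_sq, one_pow, ← pow_mul]
        rwa [h8]
      rcases (Nat.Prime.dvd_mul hr.prime).1 h6 with h7 | h7
      · exfalso
        rw [← Nat.card_eq_fintype_card] at h7
        have h8 := (hr.dvd_iff hq 3).1 h7
        exact absurd h8 (by norm_num)
      · exact h7
    obtain ⟨k, hk⟩ := h1
    rw [hk, pow_mul, hx, one_pow]
  have hxB : ∀ u v, sympForm 3 F (x u) (x v) = sympForm 3 F u v := fun u v => by
    rw [hxv, hxv, sympForm_rho]
  have hadj : ∀ u v, sympForm 3 F (x u) v = sympForm 3 F u ((x ^ (Fintype.card F ^ 3)) v) := by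
    intro u v
    rw [← hxB u, ← Module.End.mul_apply, ← pow_succ', hx3]
    rfl
  have hζ3 : aeval (x ^ (Fintype.card F ^ 3)) h = ζ ^ (Fintype.card F ^ 3) := by
    have h1 : aeval x (expand F (Fintype.card F ^ 3) h) = aeval (x ^ (Fintype.card F ^ 3)) h := expand_aeval _ _ _
    have h2 : aeval x (h ^ (Fintype.card F ^ 3)) = ζ ^ (Fintype.card F ^ 3) := map_pow (aeval x) h _
    rw [← h1, expand_three, h2]
  have hζpow : ∀ n : ℕ, ∀ v, (ζ ^ (2 * n + 1)) v = c ^ n • ζ v := by
    intro n
    induction n with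
    | zero => intro v; simp
    | succ n ih =>
      intro v
      rw [show 2 * (n + 1) + 1 = (2 * n + 1) + 2 by ring, pow_add, Module.End.mul_apply, ih, pow_two,
        Module.End.mul_apply, hh, smul_smul, pow_succ]
  have hF2' : ringChar F ≠ 2 := by
    intro h
    have h1 := (FiniteField.even_card_iff_char_two (F := F)).1 h
    rw [Nat.odd_iff] at hodd
    omega
  obtain ⟨k, hk⟩ := hodd
  have hck : c ^ k = -1 := by
    rcases FiniteField.pow_dichotomy hF2' hc0 with h1 | h1
    · exact absurd ((FiniteField.isSquare_iff hF2' hc0).2 h1) hc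
    · rwa [hk, show (2 * k + 1) / 2 = k by omega] at h1
  have hζ4 : ∀ v, (ζ ^ (Fintype.card F ^ 3)) v = -ζ v := by
    intro v
    have h1 : Fintype.card F ^ 3 = 2 * (k * (2 * (2 * k ^ 2 + 3 * k + 1) + 1)) + 1 := by rw [hk]; ring
    rw [h1, hζpow, pow_mul, hck, Odd.neg_one_pow ⟨2 * k ^ 2 + 3 * k + 1, rfl⟩, neg_smul, one_smul]
  have hsim : ∀ u v, sympForm 3 F (ζ u) (ζ v) = (-c) * sympForm 3 F u v := by
    intro u v
    rw [hζ, adjoint_aeval (sympForm 3 F) (fun u u' v => sympForm_add_left u u' v)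
      (fun u v v' => sympForm_add_right u v v') (fun a u v => sympForm_smul_left a u v)
      (fun a u v => sympForm_smul_right a u v) hadj, ← hζ, hζ3, hζ4, hh, sympForm_neg_right, sympForm_smul_right,
      neg_mul]
  let g₀ : Equiv.Perm (Fin 3 ⊕ Fin 3 → F) :=
    { toFun := ζ
      invFun := fun v => c⁻¹ • ζ v
      left_inv := fun v => by
        dsimp only
        rw [hh, inv_smul_smul₀ hc0]
      right_inv := fun v => by
        dsimp only
        rw [map_smul, hh, inv_smul_smul₀ hc0] }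
  have hg₀ : IsSemi g₀ (RingEquiv.refl F) (-c) :=
    ⟨fun u v => map_add ζ u v, fun a v => map_smul ζ a v, hsim⟩
  let g : semiSim 3 F := ⟨g₀, RingEquiv.refl F, -c, neg_ne_zero.2 hc0, hg₀⟩
  have hgv : ∀ v, g.1 v = ζ v := fun v => rfl
  have hc2 : conjHom 3 F g ^ 2 = 1 := by
    rw [← map_pow]
    ext1 A
    apply rho_injective
    rw [rho_conjHom, MulAut.one_apply, mul_inv_eq_iff_eq_mul]
    ext1 v
    rw [Equiv.Perm.mul_apply, Equiv.Perm.mul_apply, Subgroup.coe_pow, pow_two, Equiv.Perm.mul_apply,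
      Equiv.Perm.mul_apply, hgv, hgv, hgv, hgv, hh, hh, rho_apply, rho_apply, Matrix.mulVec_smul]
  have hne : conjHom 3 F g ≠ 1 := by
    intro h1
    obtain ⟨v, hv⟩ := exists_ne (0 : Fin 3 ⊕ Fin 3 → F)
    have h2 := conjHom_transv g (neg_ne_zero.2 hc0) hg₀ v 1
    rw [h1, MulAut.one_apply] at h2
    obtain ⟨a, ha⟩ := transv_eq_transv hv one_ne_zero h2
    rw [hgv] at ha
    apply hc
    refine ⟨a, ?_⟩
    have h3 := hh v
    rw [ha, map_smul, ha, smul_smul] at h3
    exact (smul_left_injective F hv h3).symm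
  have hfix : conjHom 3 F g w = w := by
    apply rho_injective
    rw [rho_conjHom, mul_inv_eq_iff_eq_mul]
    ext1 v
    rw [Equiv.Perm.mul_apply, Equiv.Perm.mul_apply, hgv, hgv, ← hxv, ← hxv, hζx]
  have hwc : w ∉ Subgroup.center (Matrix.symplecticGroup (Fin 3) F) := by
    intro h1
    obtain ⟨a, ha⟩ := smul_of_mem_center h1
    have ha2 := sq_eq_one_of_center (by norm_num) ha
    have h2 : w ^ 2 = 1 := by
      apply rho_injective
      ext1 v
      rw [← hxpow, pow_two, Module.End.mul_apply, map_one, Equiv.Perm.one_apply]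
      have h3 : ∀ u, x u = a • u := fun u => by
        rw [hxv, rho_apply, ← ha u]
        rfl
      rw [h3, h3, smul_smul, ha2, one_smul]
    have h3 := orderOf_dvd_of_pow_eq_one h2
    rw [hw] at h3
    have := Nat.le_of_dvd (by norm_num) h3
    omega
  exact exists_aut hr.prime (by omega) (fun φ hφ => eq_one_of_autQuot_eq_one
    ⟨Cfsg.Agent.LieClassical.SympPerfect.commutator_eq_top (Or.inl le_rfl)⟩ hφ) hne hc2 hwr hwc hfix

end sp

section orth

universe u

variable {F : Type u} [Field F] [Fintype F] {ι : Type} [Fintype ι] [DecidableEq ι] {Q : QuadraticForm F (ι → F)}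
  {r e : ℕ}

omit [Fintype F] in
theorem lin_refl {u v : ι → F} (hu : Q u ≠ 0) :
    lin (reflIso Q u hu : GL ι F) v = v - ((Q u)⁻¹ * polar (⇑Q) u v) • u := by
  rw [lin, Matrix.toLin'_apply, coe_reflIso]
  exact reflectionMatrix_mulVec Q u v

/-- **odd-dimensional orthogonal groups** -/
theorem orth_aut (hQ : Nondeg Q) (hD : H390.Lift.Data Q) (hd : Fintype.card ι = e + 1) (he : Even e)
    (he2 : 2 < e) (hr : PP (Nat.card F) e r) (h2 : (2 : F) ≠ 0) (hdvd : r ∣ Nat.card (POmega F (⇑Q))) :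
    ∃ α : MulAut (POmega F (⇑Q)), orderOf α = 2 * r := by
  have hfr := Fact.mk hr.prime
  have hr1 := hr.lt (by omega)
  have hfin : finrank F (ι → F) = e + 1 := by rw [Module.finrank_fintype_fun_eq_card, hd]
  -- the centre is trivial
  have hcen : ∀ g : Cfsg.Omega F (⇑Q), g ∈ Subgroup.center (Cfsg.Omega F (⇑Q)) → g = 1 := by
    intro g hg
    rcases (LieClassical.OmegaCenter.mem_center_omega_iff Q hD.nd hD.dim hD.iso g).1 hg with h | h
    · exact LieClassical.OmegaCenter.omega_ext h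
    · exact absurd ⟨(g : Cfsg.isometryGroup F (⇑Q)), g.2, h⟩
        (LieClassical.PomegaCard.neg_one_not_mem_omega_of_odd h2 (⇑Q) (by rw [hd]; exact he.add_one))
  obtain ⟨y, hy⟩ := exists_prime_orderOf_dvd_card' r hdvd
  obtain ⟨x₀, rfl⟩ := QuotientGroup.mk'_surjective (Subgroup.center (Cfsg.Omega F (⇑Q))) y
  obtain ⟨n, h3, h4⟩ := H938.Sax.exists_lift_odd (QuotientGroup.mk' (Subgroup.center (Cfsg.Omega F (⇑Q))))
    (fun y hy => H390.Lift.center_sq hD y ((QuotientGroup.eq_one_iff y).1 hy)) (hr.odd (by omega)) hy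
  generalize x₀ ^ n = w at h3 h4
  have hwr : w ^ r = 1 := by rw [← h4, pow_orderOf_eq_one]
  have hw1 : w ≠ 1 := by
    rintro rfl
    rw [orderOf_one] at h4
    exact hr.prime.one_lt.ne h4
  have hlin : ∀ n : ℕ, lin (((w : Cfsg.isometryGroup F (⇑Q)) ^ n : Cfsg.isometryGroup F (⇑Q)) : GL ι F) =
      lin ((w : Cfsg.isometryGroup F (⇑Q)) : GL ι F) ^ n := by
    intro n
    induction n with
    | zero => rw [pow_zero, pow_zero]; exact lin_one
    | succ n ih =>
      rw [pow_succ, pow_succ, ← ih]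
      exact LinearMap.ext fun v => lin_mul_apply _ _ v
  set x := lin ((w : Cfsg.isometryGroup F (⇑Q)) : GL ι F) with hxd
  have hpow : x ^ r = 1 := by
    rw [← hlin, ← Subgroup.coe_pow, hwr]
    exact lin_one
  have hx : Iso Q x r := Iso.mk' hr (by omega) hpow (fun v => lin_iso le_rfl (w : Cfsg.isometryGroup F (⇑Q)).2 v)
  have hx1 : x ≠ 1 := by
    intro h
    apply hw1
    rw [← lin_one] at h
    exact Subtype.ext (Subtype.ext (lin_injective h))
  obtain ⟨hcm, -⟩ := hx.even_case hQ hx1 hr he (by omega)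
  have hU : finrank F (fx x) = 1 := by
    have := hx.finrank_add
    omega
  obtain ⟨u, hu, hu0⟩ := (Submodule.ne_bot_iff _).1 (show fx x ≠ ⊥ by
    intro h0; rw [h0, finrank_bot] at hU; omega)
  have hperp : ∀ u ∈ fx x, ∀ v ∈ cm x, polar (⇑Q) u v = 0 := by
    intro u hu v hv
    rw [← perp_cm hQ hx.iso hx.ne0 hx.pow] at hu
    rw [polar_comm]
    exact hu v hv
  have hsup : fx x ⊔ cm x = ⊤ := (H951.isCompl_fx_cm hx.ne0 hx.pow).sup_eq_top
  have hspan : ∀ v ∈ fx x, ∃ a : F, v = a • u := by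
    intro v hv
    obtain ⟨a, ha⟩ := (finrank_eq_one_iff_of_nonzero' (⟨u, hu⟩ : fx x)
      (fun h => hu0 (congrArg Subtype.val h))).1 hU ⟨v, hv⟩
    exact ⟨a, (congrArg Subtype.val ha).symm⟩
  have hqu : Q u ≠ 0 := by
    intro h0
    apply hu0
    apply hQ
    intro v
    have hv : v ∈ fx x ⊔ cm x := by rw [hsup]; trivial
    obtain ⟨a, ha, b, hb, rfl⟩ := Submodule.mem_sup.1 hv
    obtain ⟨t, rfl⟩ := hspan a ha
    rw [QuadraticMap.polar_add_right, hperp u hu b hb, QuadraticMap.polar_smul_right,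
      ClassicalGeometry.Reflection.polar_self', h0, mul_zero, smul_zero, add_zero]
  have hxu : x u = u := H951.mem_fx.1 hu
  let φ : MulAut (Cfsg.Omega F (⇑Q)) := MulAut.conjNormal (reflIso Q u hqu)
  have hφ : ∀ g : Cfsg.Omega F (⇑Q), ((φ g : Cfsg.Omega F (⇑Q)) : Cfsg.isometryGroup F (⇑Q)) =
      reflIso Q u hqu * g * (reflIso Q u hqu)⁻¹ := fun g => MulAut.conjNormal_apply _ _
  refine exists_aut hr.prime (by omega) ?_ (φ := φ) ?_ ?_ hwr (fun h => hw1 (hcen w h)) ?_
  · intro ψ hψ
    ext1 g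
    have h5 : (QuotientGroup.mk (ψ g) : Cfsg.Omega F (⇑Q) ⧸ Subgroup.center (Cfsg.Omega F (⇑Q))) =
        QuotientGroup.mk g := by
      rw [← autQuot_mk, hψ]
      rfl
    have h6 := hcen _ (QuotientGroup.eq.1 h5)
    exact (inv_mul_eq_one.1 h6)
  · intro h5
    have h6 : ∀ g ∈ Cfsg.Omega F (⇑Q), reflIso Q u hqu * g = g * reflIso Q u hqu := by
      intro g hg
      have h7 := congrArg Subtype.val (DFunLike.congr_fun h5 ⟨g, hg⟩)
      rw [hφ] at h7
      exact mul_inv_eq_iff_eq_mul.1 h7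
    rcases LieClassical.OmegaCenter.eq_one_or_neg_one_of_commute_omega Q hD.nd hD.dim hD.iso _ h6 with h7 | h7
    · have h8 := lin_refl_self hqu
      rw [lin, h7, Matrix.toLin'_apply, Matrix.one_mulVec] at h8
      apply hu0
      have h9 : (2 : F) • u = 0 := by
        rw [two_smul]
        nth_rw 2 [h8]
        exact add_neg_cancel u
      exact (smul_eq_zero.1 h9).resolve_left h2
    · obtain ⟨v, hv, hv0⟩ := (Submodule.ne_bot_iff _).1 (cm_ne_bot hx1)
      have h8 := lin_refl_perp hqu (hperp u hu v hv)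
      rw [lin, h7, Matrix.toLin'_apply, Matrix.neg_mulVec, Matrix.one_mulVec] at h8
      apply hv0
      have h9 : (2 : F) • v = 0 := by
        rw [two_smul]
        nth_rw 1 [← h8]
        exact neg_add_cancel v
      exact (smul_eq_zero.1 h9).resolve_left h2
  · change (MulAut.conjNormal (reflIso Q u hqu)) ^ 2 = 1
    rw [← map_pow, pow_two, reflIso_mul_self, map_one]
  · apply Subtype.ext
    rw [hφ, mul_inv_eq_iff_eq_mul]
    apply Subtype.ext
    apply lin_injective
    refine LinearMap.ext fun v => ?_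
    rw [lin_mul_apply, lin_mul_apply, lin_refl, lin_refl, map_sub, map_smul, ← hxd, hxu]
    have h8 : polar (⇑Q) u (x v) = polar (⇑Q) u v := by
      conv_lhs => rw [← hxu, hxd, polar_lin]
    rw [h8]

end orth

end Cfsg.Agent.H833.PlusTwo
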