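import Cfsg.Agent.H938.Sax.Frat

/-!
# Elements of order `2 r` in `PΩ⁺₈(q)`, `q ≡ 1 (mod 4)`, `ord_r(q) = 6` (helper833)

`no_two_r` : there are none.
-/

set_option autoImplicit false

namespace Cfsg.Agent.H833.PlusTwo

open Module QuadraticMap Cfsg Cfsg.Agent.LieClassical.OrthCore Cfsg.Agent.H955 Cfsg.Agent.H954.TSing
  Cfsg.Agent.H884.El Cfsg.Agent.LieClassical.OmegaReindex Cfsg.Agent.ClassicalGeometry.Reflection
open Cfsg.Agent.H951 (fx cm Inv)
open scoped MatrixGroups Matrix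

universe u v

section abs

variable {F : Type u} [Field F] [Fintype F] {V : Type v} [AddCommGroup V] [Module F V] [FiniteDimensional F V]
  {Q : QuadraticForm F V} {x s : Module.End F V} {r e : ℕ}

omit [Fintype F] [FiniteDimensional F V] in
theorem inv_ker (hc : ∀ v, s (x v) = x (s v)) (c : F) : Inv x (LinearMap.ker (s - algebraMap F (Module.End F V) c)) := by
  intro w hw
  rw [LinearMap.mem_ker, LinearMap.sub_apply, Module.algebraMap_end_apply] at hw ⊢
  rw [hc, ← map_smul, ← map_sub, hw, map_zero]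

omit [Fintype F] [FiniteDimensional F V] in
theorem mem_ker {c : F} {v : V} : v ∈ LinearMap.ker (s - algebraMap F (Module.End F V) c) ↔ s v = c • v := by
  rw [LinearMap.mem_ker, LinearMap.sub_apply, Module.algebraMap_end_apply, sub_eq_zero]

/-- `s ^ 2 = c ^ 2`, `s` commutes with `x`: `s` is a scalar on `[V, x]`. -/
theorem scalar_cm (h : Iso Q x r) (hr : PP (Nat.card F) e r) (hcm : finrank F (cm x) = e) (hx1 : x ≠ 1)
    (h2 : (2 : F) ≠ 0) {c : F} (hc0 : c ≠ 0) (hc : ∀ v, s (x v) = x (s v)) (hss : ∀ v, s (s v) = (c * c) • v) :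
    (∀ v ∈ cm x, s v = c • v) ∨ (∀ v ∈ cm x, s v = (-c) • v) := by
  rcases h.le_or hr hcm (inv_ker hc c) with h1 | h1
  · rcases h.le_or hr hcm (inv_ker hc (-c)) with h3 | h3
    · exfalso
      apply hx1
      refine LinearMap.ext fun v => ?_
      have h4 : c • v + s v ∈ fx x := h1 (mem_ker.2 (by rw [map_add, map_smul, hss, smul_add, smul_smul, add_comm]))
      have h5 : c • v - s v ∈ fx x := h3 (mem_ker.2 (by
        rw [map_sub, map_smul, hss, smul_sub, smul_smul, neg_mul, neg_smul, neg_smul]; abel))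
      have h6 : (2 * c) • v ∈ fx x := by
        have := (fx x).add_mem h4 h5
        rwa [add_add_sub_cancel, ← add_smul, ← two_mul] at this
      have h7 := (fx x).smul_mem (2 * c)⁻¹ h6
      rw [smul_smul, inv_mul_cancel₀ (mul_ne_zero h2 hc0), one_smul] at h7
      exact H951.mem_fx.1 h7
    · exact Or.inr fun v hv => mem_ker.1 (h3 hv)
  · exact Or.inl fun v hv => mem_ker.1 (h1 hv)

/-- an isometry commuting with `x` does not square to `-1` if `-1` is a square. -/
theorem no_sq_neg (h : Iso Q x r) (hQ : Nondeg Q) (hr : PP (Nat.card F) e r) (hcm : finrank F (cm x) = e)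
    (hx1 : x ≠ 1) (h2 : (2 : F) ≠ 0) {i : F} (hi : i * i = -1) (hs : ∀ v, Q (s v) = Q v)
    (hc : ∀ v, s (x v) = x (s v)) (hss : ∀ v, s (s v) = -v) : False := by
  have hi0 : i ≠ 0 := by
    rintro rfl
    rw [mul_zero] at hi
    exact one_ne_zero (α := F) (by linear_combination hi)
  have hts : TS Q (cm x) := by
    have key : ∀ c : F, c * c = -1 → (∀ v ∈ cm x, s v = c • v) → TS Q (cm x) := by
      intro c hcc h1 v hv
      have h3 := hs v
      rw [h1 v hv, QuadraticMap.map_smul, hcc, smul_eq_mul] at h3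
      have h4 : 2 * Q v = 0 := by linear_combination -h3
      exact (mul_eq_zero.1 h4).resolve_left h2
    rcases scalar_cm h hr hcm hx1 h2 hi0 hc (fun v => by rw [hss, hi, neg_smul, one_smul]) with h1 | h1
    · exact key i hi h1
    · exact key (-i) (by rw [neg_mul_neg, hi]) h1
  exact ts_not_nondeg hts le_rfl (cm_ne_bot hx1) (nondeg_cm hQ h.iso h.ne0 h.pow)

end abs

section mat

variable {F : Type u} [Field F] [Fintype F] {ι : Type} [Fintype ι] [DecidableEq ι]
  {Q : QuadraticForm F (ι → F)} {x : Module.End F (ι → F)} {r e : ℕ}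

open Cfsg.Agent.ClassicalGeometry.OmegaIndex Cfsg.Agent.ClassicalGeometry.SpinorSign

omit [Fintype F] [DecidableEq ι] in
/-- two orthogonal anisotropic vectors of a plane span it together with `U^⊥` -/
theorem ext_of_plane {U C : Submodule F (ι → F)} (hUC : U ⊔ C = ⊤) (hU : finrank F U = 2) {u₀ u₁ : ι → F}
    (h0 : u₀ ∈ U) (h1 : u₁ ∈ U) (hli : LinearIndependent F ![u₀, u₁])
    {f g : Module.End F (ι → F)} (hf0 : f u₀ = g u₀) (hf1 : f u₁ = g u₁) (hC : ∀ v ∈ C, f v = g v) : f = g := by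
  have hspan : Submodule.span F (Set.range ![u₀, u₁]) = U := by
    apply Submodule.eq_of_le_of_finrank_eq
    · rw [Submodule.span_le]
      rintro _ ⟨j, rfl⟩
      fin_cases j
      · exact h0
      · exact h1
    · rw [finrank_span_eq_card hli, hU, Fintype.card_fin]
  refine LinearMap.ext fun v => ?_
  have hv : v ∈ U ⊔ C := by rw [hUC]; trivial
  obtain ⟨a, ha, b, hb, rfl⟩ := Submodule.mem_sup.1 hv
  rw [map_add, map_add, hC b hb]
  congr 1
  rw [← hspan] at ha
  have h3 := LinearMap.eqOn_span (s := Set.range ![u₀, u₁]) (f := f) (g := g) (by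
    rintro _ ⟨j, rfl⟩
    fin_cases j
    · exact hf0
    · exact hf1)
  exact h3 ha

omit [Fintype F] in
theorem polar_lin (s : Cfsg.isometryGroup F (⇑Q)) (u v : ι → F) :
    polar (⇑Q) (lin (s : GL ι F) u) (lin (s : GL ι F) v) = polar (⇑Q) u v := by
  have h : ∀ w, Q (lin (s : GL ι F) w) = Q w := lin_iso le_rfl s.2
  simp only [polar, ← map_add, h]

omit [Fintype F] in
theorem lin_refl_self {u : ι → F} (hu : Q u ≠ 0) : lin (reflIso Q u hu : GL ι F) u = -u := by
  rw [lin, Matrix.toLin'_apply, coe_reflIso]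
  exact reflectionMatrix_mulVec_self Q u hu

omit [Fintype F] in
theorem lin_refl_perp {u w : ι → F} (hu : Q u ≠ 0) (h : polar (⇑Q) u w = 0) :
    lin (reflIso Q u hu : GL ι F) w = w := by
  rw [lin, Matrix.toLin'_apply, coe_reflIso]
  exact reflectionMatrix_mulVec_of_polar_eq_zero Q u w h

/-- an element `s` of `Ω`, `s ^ 2 = 1`, trivial on `[V, x]`, is trivial. -/
theorem omega_inv (hQ : Nondeg Q) (hP : IsPlus Q) (hd : Fintype.card ι = e + 2) (he : Even e)
    (hr : PP (Nat.card F) e r) (h2 : (2 : F) ≠ 0) {i : F} (hi : i * i = -1) (hx : Iso Q x r) (hx1 : x ≠ 1)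
    (he2 : 2 < e) {s : Cfsg.isometryGroup F (⇑Q)} (hs : s ∈ Cfsg.Omega F (⇑Q))
    (hc : ∀ v, lin (s : GL ι F) (x v) = x (lin (s : GL ι F) v))
    (hss : ∀ v, lin (s : GL ι F) (lin (s : GL ι F) v) = v)
    (hs1 : ∀ v ∈ cm x, lin (s : GL ι F) v = v) : lin (s : GL ι F) = 1 := by
  classical
  have hfin : finrank F (ι → F) = e + 2 := by rw [Module.finrank_fintype_fun_eq_card, hd]
  obtain ⟨hcm, hnp⟩ := hx.even_case hQ hx1 hr he (by omega)
  have hU : finrank F (fx x) = 2 := by
    have := hx.finrank_add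
    omega
  have hUp : ¬ IsPlus (res Q (fx x)) := by
    intro h
    have h1 := (hx.isPlus_fx hQ (by rw [hfin]; exact he.add even_two) (by rw [hcm]; exact he)).1 hP
    exact hnp (h1.2 h)
  have han : ∀ u ∈ fx x, u ≠ 0 → Q u ≠ 0 := fun u hu hu0 h => hu0 (aniso_of_not_plus hU hUp hu h)
  have hperp : ∀ u ∈ fx x, ∀ v ∈ cm x, polar (⇑Q) u v = 0 := by
    intro u hu v hv
    rw [← perp_cm hQ hx.iso hx.ne0 hx.pow] at hu
    rw [polar_comm]
    exact hu v hv
  have hsU : ∀ u ∈ fx x, lin (s : GL ι F) u ∈ fx x := by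
    intro u hu
    rw [H951.mem_fx] at hu ⊢
    rw [← hc, hu]
  have hsup : fx x ⊔ cm x = ⊤ := (H951.isCompl_fx_cm hx.ne0 hx.pow).sup_eq_top
  set S := lin (s : GL ι F) with hS
  -- an eigenvector
  obtain ⟨u₀, hu₀, hu₀0, ε₀, hε₀, hsu₀⟩ : ∃ u₀ ∈ fx x, u₀ ≠ 0 ∧ ∃ ε : F, (ε = 1 ∨ ε = -1) ∧ S u₀ = ε • u₀ := by
    obtain ⟨v, hv, hv0⟩ := (Submodule.ne_bot_iff _).1 (show fx x ≠ ⊥ by
      intro h0; rw [h0, finrank_bot] at hU; omega)
    by_cases h0 : v + S v = 0
    · exact ⟨v, hv, hv0, -1, Or.inr rfl, by rw [neg_smul, one_smul]; exact eq_neg_of_add_eq_zero_right h0⟩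
    · exact ⟨v + S v, (fx x).add_mem hv (hsU v hv), h0, 1, Or.inl rfl, by
        rw [map_add, hss, one_smul, add_comm]⟩
  have hq0 := han u₀ hu₀ hu₀0
  -- an orthogonal vector
  obtain ⟨w, hw, hwn⟩ : ∃ w ∈ fx x, w ∉ Submodule.span F {u₀} := by
    by_contra hcon
    push Not at hcon
    have h1 : finrank F (fx x) ≤ finrank F (Submodule.span F {u₀}) := Submodule.finrank_mono hcon
    rw [finrank_span_singleton hu₀0] at h1
    omega
  obtain ⟨u₁, hu₁, hu₁n, hp⟩ : ∃ u₁ ∈ fx x, u₁ ∉ Submodule.span F {u₀} ∧ polar (⇑Q) u₀ u₁ = 0 := by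
    refine ⟨w - (polar (⇑Q) u₀ w / (2 * Q u₀)) • u₀, (fx x).sub_mem hw ((fx x).smul_mem _ hu₀), ?_, ?_⟩
    · intro h
      apply hwn
      have := (Submodule.span F {u₀}).add_mem h
        ((Submodule.span F {u₀}).smul_mem (polar (⇑Q) u₀ w / (2 * Q u₀)) (Submodule.mem_span_singleton_self u₀))
      rwa [sub_add_cancel] at this
    · rw [QuadraticMap.polar_sub_right, QuadraticMap.polar_smul_right, ClassicalGeometry.Reflection.polar_self', smul_eq_mul,
        div_mul_cancel₀ _ (mul_ne_zero h2 hq0), sub_self]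
  have hu₁0 : u₁ ≠ 0 := by
    rintro rfl
    exact hu₁n (Submodule.zero_mem _)
  have hq1 := han u₁ hu₁ hu₁0
  have hp' : polar (⇑Q) u₁ u₀ = 0 := by rw [polar_comm]; exact hp
  have hli : LinearIndependent F ![u₀, u₁] := by
    rw [LinearIndependent.pair_iff]
    intro a b hab
    have h1 := congrArg (fun z => polar (⇑Q) u₀ z) hab
    simp only [QuadraticMap.polar_add_right, QuadraticMap.polar_smul_right, ClassicalGeometry.Reflection.polar_self', hp, smul_eq_mul, mul_zero,
      add_zero, QuadraticMap.polar_zero_right] at h1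
    have ha : a = 0 := (mul_eq_zero.1 h1).resolve_right (mul_ne_zero h2 hq0)
    rw [ha, zero_smul, zero_add, smul_eq_zero] at hab
    exact ⟨ha, hab.resolve_right hu₁0⟩
  obtain ⟨ε₁, hε₁, hsu₁⟩ : ∃ ε : F, (ε = 1 ∨ ε = -1) ∧ S u₁ = ε • u₁ := by
    have hspan : Submodule.span F (Set.range ![u₀, u₁]) = fx x := by
      apply Submodule.eq_of_le_of_finrank_eq
      · rw [Submodule.span_le]
        rintro _ ⟨j, rfl⟩
        fin_cases j
        · exact hu₀
        · exact hu₁
      · rw [finrank_span_eq_card hli, hU, Fintype.card_fin]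
    have h1 := hsU u₁ hu₁
    rw [← hspan] at h1
    rw [Matrix.range_cons_cons_empty, Submodule.mem_span_pair] at h1
    obtain ⟨a, b, hab⟩ := h1
    have h3 : polar (⇑Q) u₀ (S u₁) = 0 := by
      have h4 : u₀ = ε₀ • S u₀ := by
        rw [hsu₀, smul_smul]
        rcases hε₀ with h | h <;> rw [h] <;> simp
      rw [h4, QuadraticMap.polar_smul_left, hS, polar_lin, hp, smul_zero]
    rw [← hab] at h3
    simp only [QuadraticMap.polar_add_right, QuadraticMap.polar_smul_right, ClassicalGeometry.Reflection.polar_self', hp, smul_eq_mul, mul_zero,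
      add_zero] at h3
    have ha : a = 0 := (mul_eq_zero.1 h3).resolve_right (mul_ne_zero h2 hq0)
    rw [ha, zero_smul, zero_add] at hab
    refine ⟨b, ?_, hab.symm⟩
    have h5 := hss u₁
    rw [← hab, map_smul, ← hab, smul_smul] at h5
    have h6 : (b * b - 1) • u₁ = 0 := by rw [sub_smul, h5, one_smul, sub_self]
    have h7 : b * b - 1 = 0 := (smul_eq_zero.1 h6).resolve_right hu₁0
    have h8 : (b - 1) * (b + 1) = 0 := by linear_combination h7
    rcases mul_eq_zero.1 h8 with h | h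
    · exact Or.inl (sub_eq_zero.1 h)
    · exact Or.inr (eq_neg_of_add_eq_zero_left h)
  have hnd : (polarBilin Q).Nondegenerate := nondeg_iff.1 hQ
  obtain ⟨hdet, hspin⟩ := (mem_Omega_iff h2 Q hnd (by omega) one_ne_zero s).1 hs
  have hds : detSpinor (⇑Q) 1 s = 1 := (detSpinor_eq_one_iff _ _ _).2 ⟨hdet, hspin⟩
  have hm1 := neg_one_ne_one_units h2
  rcases hε₀ with rfl | rfl <;> rcases hε₁ with rfl | rfl
  · refine ext_of_plane hsup hU hu₀ hu₁ hli ?_ ?_ ?_
    · rw [hsu₀, one_smul]; rfl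
    · rw [hsu₁, one_smul]; rfl
    · intro v hv
      exact hs1 v hv
  · exfalso
    have h1 : s = reflIso Q u₁ hq1 := by
      apply Subtype.ext
      apply lin_injective
      refine ext_of_plane hsup hU hu₀ hu₁ hli ?_ ?_ ?_
      · rw [lin_refl_perp hq1 hp']
        exact hsu₀.trans (one_smul _ _)
      · rw [lin_refl_self hq1]
        exact hsu₁.trans (by rw [neg_smul, one_smul])
      · intro v hv
        rw [lin_refl_perp hq1 (hperp _ hu₁ v hv)]
        exact hs1 v hv
    rw [h1, detSpinor_reflIso h2 Q one_ne_zero] at hds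
    exact hm1 (congrArg Prod.fst hds)
  · exfalso
    have h1 : s = reflIso Q u₀ hq0 := by
      apply Subtype.ext
      apply lin_injective
      refine ext_of_plane hsup hU hu₀ hu₁ hli ?_ ?_ ?_
      · rw [lin_refl_self hq0]
        exact hsu₀.trans (by rw [neg_smul, one_smul])
      · rw [lin_refl_perp hq0 hp]
        exact hsu₁.trans (one_smul _ _)
      · intro v hv
        rw [lin_refl_perp hq0 (hperp _ hu₀ v hv)]
        exact hs1 v hv
    rw [h1, detSpinor_reflIso h2 Q one_ne_zero] at hds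
    exact hm1 (congrArg Prod.fst hds)
  · exfalso
    have hmul : ∀ (g h : Cfsg.isometryGroup F (⇑Q)) (v : ι → F),
        lin ((g * h : Cfsg.isometryGroup F (⇑Q)) : GL ι F) v = lin (g : GL ι F) (lin (h : GL ι F) v) := by
      intro g h v
      rw [Subgroup.coe_mul, lin, Units.val_mul, Matrix.toLin'_mul]; rfl
    have h1 : s = reflIso Q u₀ hq0 * reflIso Q u₁ hq1 := by
      apply Subtype.ext
      apply lin_injective
      refine ext_of_plane hsup hU hu₀ hu₁ hli ?_ ?_ ?_
      · rw [hmul, lin_refl_perp hq1 hp', lin_refl_self hq0]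
        exact hsu₀.trans (by rw [neg_smul, one_smul])
      · rw [hmul, lin_refl_self hq1, map_neg, lin_refl_perp hq0 hp]
        exact hsu₁.trans (by rw [neg_smul, one_smul])
      · intro v hv
        rw [hmul, lin_refl_perp hq1 (hperp _ hu₁ v hv), lin_refl_perp hq0 (hperp _ hu₀ v hv)]
        exact hs1 v hv
    rw [h1, map_mul, detSpinor_reflIso h2 Q one_ne_zero, detSpinor_reflIso h2 Q one_ne_zero, one_mul, one_mul] at hds
    have h3 : (if IsSquare (Q u₀) then (-1 : ℤˣ) else 1) * (if IsSquare (Q u₁) then (-1 : ℤˣ) else 1) = 1 :=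
      congrArg Prod.snd hds
    have h4 : IsSquare (Q u₀) ↔ IsSquare (Q u₁) := by
      by_cases ha : IsSquare (Q u₀) <;> by_cases hb : IsSquare (Q u₁)
      · exact ⟨fun _ => hb, fun _ => ha⟩
      · rw [if_pos ha, if_neg hb] at h3
        exact absurd h3 (by decide)
      · rw [if_neg ha, if_pos hb] at h3
        exact absurd h3 (by decide)
      · exact ⟨fun h => absurd h ha, fun h => absurd h hb⟩
    obtain ⟨t, ht⟩ : IsSquare (Q u₀ * Q u₁) := (ClassicalGeometry.Universal.isSquare_mul_iff h2 hq0 hq1).2 h4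
    have ht0 : t ≠ 0 := by
      rintro rfl
      rw [mul_zero] at ht
      exact mul_ne_zero hq0 hq1 ht
    refine han ((i * t) • u₀ + Q u₀ • u₁) ((fx x).add_mem ((fx x).smul_mem _ hu₀) ((fx x).smul_mem _ hu₁)) ?_ ?_
    · intro h0
      have h5 := (LinearIndependent.pair_iff.1 hli _ _ h0).2
      exact hq0 h5
    · rw [map_add', QuadraticMap.map_smul, QuadraticMap.map_smul, QuadraticMap.polar_smul_left,
        QuadraticMap.polar_smul_right, hp, smul_zero, smul_zero, add_zero, smul_eq_mul, smul_eq_mul]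
      linear_combination (Q u₀ * t * t) * hi + (Q u₀) * ht

omit [Fintype F] in
theorem lin_mul_apply (g h : Cfsg.isometryGroup F (⇑Q)) (v : ι → F) :
    lin ((g * h : Cfsg.isometryGroup F (⇑Q)) : GL ι F) v = lin (g : GL ι F) (lin (h : GL ι F) v) := by
  rw [Subgroup.coe_mul, lin, Units.val_mul, Matrix.toLin'_mul]; rfl

/-- **no element of order `2 r`** -/
theorem no_two_r (hQ : Nondeg Q) (hD : H390.Lift.Data Q) (hP : IsPlus Q) (hd : Fintype.card ι = e + 2)
    (he : Even e) (he2 : 2 < e) (hr : PP (Nat.card F) e r) (h2 : (2 : F) ≠ 0) {i : F} (hi : i * i = -1)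
    (hneg : ∃ g : Cfsg.isometryGroup F (⇑Q), g ∈ Cfsg.Omega F (⇑Q) ∧ ((g : GL ι F) : Matrix ι ι F) = -1)
    (y : POmega F (⇑Q)) : orderOf y ≠ 2 * r := by
  intro ho
  have hr1 := hr.lt (by omega)
  obtain ⟨x₀, rfl⟩ := QuotientGroup.mk'_surjective (Subgroup.center (Cfsg.Omega F (⇑Q))) y
  have hcen : ∀ n : ℕ, x₀ ^ n ∈ Subgroup.center (Cfsg.Omega F (⇑Q)) → 2 * r ∣ n := by
    intro n hn
    rw [← ho]
    apply orderOf_dvd_of_pow_eq_one
    rw [← map_pow]
    exact (QuotientGroup.eq_one_iff _).2 hn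
  have hz : x₀ ^ (2 * r) ∈ Subgroup.center (Cfsg.Omega F (⇑Q)) := by
    rw [← QuotientGroup.eq_one_iff]
    change QuotientGroup.mk' _ (x₀ ^ (2 * r)) = 1
    rw [map_pow, ← ho, pow_orderOf_eq_one]
  have hz2 := H390.Lift.center_sq hD _ hz
  set X : Cfsg.isometryGroup F (⇑Q) := (x₀ : Cfsg.isometryGroup F (⇑Q)) with hX
  have hlin : ∀ n : ℕ, lin ((X ^ n : Cfsg.isometryGroup F (⇑Q)) : GL ι F) = lin (X : GL ι F) ^ n := by
    intro n
    induction n with
    | zero => rw [pow_zero, pow_zero]; exact lin_one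
    | succ n ih =>
      rw [pow_succ, pow_succ, ← ih]
      exact LinearMap.ext fun v => lin_mul_apply _ _ v
  have hone : ∀ n : ℕ, lin (X : GL ι F) ^ n = 1 → x₀ ^ n = 1 := by
    intro n hn
    rw [← hlin, ← lin_one] at hn
    apply Subtype.ext
    apply Subtype.ext
    exact lin_injective hn
  have hpow : (lin (X : GL ι F) ^ 4) ^ r = 1 := by
    rw [← pow_mul, ← hlin, hX, ← Subgroup.coe_pow, show 4 * r = 2 * r * 2 by ring, pow_mul, hz2]
    exact lin_one
  have hiso : ∀ n : ℕ, ∀ v, Q ((lin (X : GL ι F) ^ n) v) = Q v := by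
    intro n v
    rw [← hlin]
    exact lin_iso le_rfl (X ^ n).2 v
  have hx : Iso Q (lin (X : GL ι F) ^ 4) r := Iso.mk' hr (by omega) hpow (hiso 4)
  have hx1 : lin (X : GL ι F) ^ 4 ≠ 1 := by
    intro h
    have h1 := hcen 4 (by rw [hone 4 h]; exact Subgroup.one_mem _)
    have := Nat.le_of_dvd (by norm_num) h1
    omega
  have hfin : finrank F (ι → F) = e + 2 := by rw [Module.finrank_fintype_fun_eq_card, hd]
  obtain ⟨hcm, -⟩ := hx.even_case hQ hx1 hr he (by omega)
  have hcomm : ∀ v, lin ((X ^ r : Cfsg.isometryGroup F (⇑Q)) : GL ι F) ((lin (X : GL ι F) ^ 4) v) =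
      (lin (X : GL ι F) ^ 4) (lin ((X ^ r : Cfsg.isometryGroup F (⇑Q)) : GL ι F) v) := by
    intro v
    rw [hlin]
    have h1 : lin (X : GL ι F) ^ r * lin (X : GL ι F) ^ 4 = lin (X : GL ι F) ^ 4 * lin (X : GL ι F) ^ r := by
      rw [← pow_add, ← pow_add, add_comm]
    exact congrArg (fun z : Module.End F (ι → F) => z v) h1
  have hsq : ∀ v, lin ((X ^ r : Cfsg.isometryGroup F (⇑Q)) : GL ι F)
      (lin ((X ^ r : Cfsg.isometryGroup F (⇑Q)) : GL ι F) v) = (lin (X : GL ι F) ^ (2 * r)) v := by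
    intro v
    rw [hlin, mul_comm, pow_mul, pow_two]
    rfl
  have hnd2 : ¬ 2 * r ∣ r := fun h => by
    have := Nat.le_of_dvd (by omega) h
    omega
  have hmat : ∀ n : ℕ, LieClassical.OmegaCenter.omegaMat (x₀ ^ n) =
      ((X ^ n : Cfsg.isometryGroup F (⇑Q)) : GL ι F).val := fun n => rfl
  rcases (LieClassical.OmegaCenter.mem_center_omega_iff Q hD.nd hD.dim hD.iso _).1 hz with h1 | h1
  · have h3 : lin (X : GL ι F) ^ (2 * r) = 1 := by
      rw [← hlin, lin, ← hmat, h1, Matrix.toLin'_one]; rfl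
    have hss : ∀ v, lin ((X ^ r : Cfsg.isometryGroup F (⇑Q)) : GL ι F)
      (lin ((X ^ r : Cfsg.isometryGroup F (⇑Q)) : GL ι F) v) = v := fun v => by rw [hsq, h3]; rfl
    have hsΩ : X ^ r ∈ Cfsg.Omega F (⇑Q) := (Cfsg.Omega F (⇑Q)).pow_mem x₀.2 r
    rcases scalar_cm hx hr hcm hx1 h2 one_ne_zero hcomm (fun v => by rw [hss, one_mul, one_smul]) with h4 | h4
    · have h5 := omega_inv hQ hP hd he hr h2 hi hx hx1 he2 hsΩ hcomm hss (fun v hv => by rw [h4 v hv, one_smul])
      rw [hlin] at h5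
      exact hnd2 (hcen r (by rw [hone r h5]; exact Subgroup.one_mem _))
    · obtain ⟨n, hn, hnm⟩ := hneg
      have hnl : ∀ v, lin (n : GL ι F) v = -v := by
        intro v
        rw [lin, hnm, Matrix.toLin'_apply, Matrix.neg_mulVec, Matrix.one_mulVec]
      have h5 := omega_inv hQ hP hd he hr h2 hi hx hx1 he2 (s := n * X ^ r)
        ((Cfsg.Omega F (⇑Q)).mul_mem hn hsΩ)
        (fun v => by rw [lin_mul_apply, lin_mul_apply, hnl, hnl, hcomm, map_neg])
        (fun v => by rw [lin_mul_apply, lin_mul_apply, hnl, hnl, map_neg, neg_neg, hss])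
        (fun v hv => by rw [lin_mul_apply, h4 v hv, hnl, neg_smul, one_smul, neg_neg])
      apply hnd2
      apply hcen
      rw [LieClassical.OmegaCenter.mem_center_omega_iff Q hD.nd hD.dim hD.iso]
      right
      apply Matrix.toLin'.injective
      refine LinearMap.ext fun v => ?_
      have h6 : lin ((n * X ^ r : Cfsg.isometryGroup F (⇑Q)) : GL ι F) v = v := by rw [h5]; rfl
      rw [lin_mul_apply, hnl] at h6
      rw [hmat]
      change lin ((X ^ r : Cfsg.isometryGroup F (⇑Q)) : GL ι F) v = _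
      rw [Matrix.toLin'_apply (-1 : Matrix ι ι F), Matrix.neg_mulVec, Matrix.one_mulVec]
      exact neg_eq_iff_eq_neg.1 h6
  · have h3 : ∀ v, (lin (X : GL ι F) ^ (2 * r)) v = -v := by
      intro v
      rw [← hlin, lin, ← hmat, h1, Matrix.toLin'_apply, Matrix.neg_mulVec, Matrix.one_mulVec]
    exact no_sq_neg hx hQ hr hcm hx1 h2 hi (s := lin ((X ^ r : Cfsg.isometryGroup F (⇑Q)) : GL ι F))
      (fun v => lin_iso le_rfl (X ^ r).2 v) hcomm (fun v => by rw [hsq, h3])

end mat

/-- **`PΩ⁺₈(q)`, `q ≡ 1 (mod 4)`, has no element of order `2 r`, `ord_r(q) = 6`.** -/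
theorem plus_no_two_r {F : Type} [Field F] [Fintype F] (hq : Fintype.card F % 4 = 1) {r : ℕ}
    (hr : PP (Nat.card F) 6 r) (m : POmega F (quadFormPlus 4 F)) : orderOf m ≠ 2 * r := by
  have hodd : Odd (Fintype.card F) := by rw [Nat.odd_iff]; omega
  have h2 := H390.two_ne_zero_of_odd hodd
  obtain ⟨i, hi⟩ : IsSquare (-1 : F) := by
    rw [FiniteField.isSquare_neg_one_iff]
    omega
  have hneg := (Cfsg.Agent.S0790.result (F := F) rfl hodd 4 (by norm_num)).2 (by
    rw [Nat.pow_mod, hq])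
  rw [← coe_quadPlus] at hneg
  have h : ∀ m : POmega F (⇑(quadPlus 4 F)), orderOf m ≠ 2 * r :=
    no_two_r (nondeg_iff.2 quadPlus_nondegenerate) (data_plus le_rfl) (isPlus_quadPlus 4) (e := 6)
      (by rw [card_plus]) (by decide) (by norm_num) hr h2 hi.symm hneg
  rw [coe_quadPlus] at h
  exact h m

end Cfsg.Agent.H833.PlusTwo
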