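import Cfsg.Agent.H833.SixData
import Cfsg.Agent.H836.EightBlk

/-!
# Kernel computations for the 72 transpositions fixed by the flip times `d i` (helper833)
-/

set_option autoImplicit false
set_option maxRecDepth 100000

namespace Cfsg.Agent.H833.SixChk

open Cfsg.Spor Cfsg.Spor.Fi22 Cfsg.Agent.Lib.PermNet Cfsg.Agent.Lib.PermNetOrbit
open Cfsg.Agent.Fischer.Fi22PtsRep Cfsg.Agent.Fischer.Fi22Order
open Cfsg.Agent.H833.SixData
open Cfsg.Agent.H836.EightData (sN)
open Cfsg.Agent.H836.EightChk (mv mvAll sel testBit_sel GD GD.w U ptn)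

/-! ### Codes -/

/-- bit to scalar -/
def cc (b : Bool) : ZMod 2 := if b then 1 else 0

/-- the quadratic form on codes -/
def qn (n : ℕ) : Bool :=
  (n.testBit 0 && n.testBit 2) ^^ (n.testBit 1 && n.testBit 3) ^^
    (n.testBit 4 ^^ (n.testBit 4 && n.testBit 5) ^^ n.testBit 5)

/-- the bilinear form on codes -/
def Bn (m n : ℕ) : Bool :=
  ((m.testBit 0 && n.testBit 2) ^^ (m.testBit 2 && n.testBit 0)) ^^
    ((m.testBit 1 && n.testBit 3) ^^ (m.testBit 3 && n.testBit 1)) ^^
    ((m.testBit 4 && n.testBit 5) ^^ (m.testBit 5 && n.testBit 4))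

/-! ### The fixed points -/

theorem mv_t : Nat.beq (mv (sN :: nw [.d, .i])) (Nat.xor U M) = true := by decide +kernel

/-! ### The generators -/

/-- the seven generators -/
def gs : List GD := [⟨[], .d, 16, 5⟩, ⟨[], .i, 92, 5⟩, ⟨[.e, .d], .c, 17, 7⟩, ⟨[.f, .e, .d, .c], .b, 19, 16⟩,
  ⟨[.h, .i, .d, .h, .e, .d], .c, 97, 32⟩, ⟨[.h, .i, .d, .h, .f, .e, .d, .c], .b, 104, 10⟩,
  ⟨[.g, .f, .e, .c, .d, .h, .i, .d, .e, .c, .d, .h, .f, .e, .d, .c, .b], .a, 631, 44⟩]

/-- masks of the labels -/
noncomputable def L (j : ℕ) : ℕ := List.getD Ls j 0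

/-- the mask of the points whose label is not orthogonal to `v` -/
noncomputable def pol (v : ℕ) : ℕ :=
  Nat.xor (Nat.xor (Nat.xor (sel (tb v 0) (L 2)) (sel (tb v 2) (L 0)))
    (Nat.xor (sel (tb v 1) (L 3)) (sel (tb v 3) (L 1))))
    (Nat.xor (sel (tb v 4) (L 5)) (sel (tb v 5) (L 4)))

/-- the label masks transform by the transvection -/
noncomputable def labB (g : GD) : Bool :=
  [0, 1, 2, 3, 4, 5].all fun j =>
    Nat.beq (appWord (nw g.w) (L j)) (Nat.xor (L j) (sel (tb g.v j) (pol g.v)))

/-- everything about a generator -/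
noncomputable def gdB (g : GD) : Bool :=
  and (and (labB g) (Nat.beq (appWord (nw g.w) M) M))
    (and (Nat.beq (ptWord (nw g.u) (ptn g.x)) g.p)
      (and (tb M g.p) ([0, 1, 2, 3, 4, 5].all fun j => Nat.beq (tb (L j) g.p).toNat (tb g.v j).toNat)))

theorem gd_all : gs.all gdB = true := by decide +kernel

/-- the words of the generators -/
def gw : List (List Gen) := gs.map GD.w

theorem sat_M : Nat.beq (sat (nws gw) 5 (Nat.pow 2 16)) M = true := by decide +kernel

theorem sat_O2 : Nat.beq (sat (nws gw) 6 (Nat.pow 2 6)) O2 = true := by decide +kernel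

/-- the points with the label of `d` -/
theorem fibre : Nat.beq (Nat.land (Nat.land (Nat.land (L 0) (Nat.xor M (L 1))) (Nat.land (L 2) (Nat.xor M (L 3))))
    (Nat.land (Nat.xor M (L 4)) (Nat.xor M (L 5)))) (Nat.lor (Nat.pow 2 16) (Nat.pow 2 92)) = true := by
  decide +kernel

/-! ### Centralising the 72 -/

/-- five of the 72 with their points: `u, x, p` -/
def five : List (List Gen × Gen × ℕ) := [([], .i, 92), ([.f, .e, .d, .c], .b, 19),
  ([.g, .f, .e, .d, .c, .b], .a, 22), ([.h, .i, .d, .h, .e, .d], .c, 97),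
  ([.e, .b, .c, .d, .h, .i, .d, .e, .c, .d, .h, .f, .e, .d, .c], .b, 532)]

/-- the five are in the set -/
noncomputable def fiveB (g : List Gen × Gen × ℕ) : Bool :=
  and (Nat.beq (ptWord (nw g.1) (ptn g.2.1)) g.2.2) (tb M g.2.2)

theorem five_all : five.all fiveB = true := by decide +kernel

theorem five_sep : Nat.beq (Nat.lor (mvAll five) (Nat.lor M (Nat.lor (Nat.pow 2 6) (Nat.pow 2 26)))) U = true := by
  decide +kernel

theorem five_zero : tb (mvAll five) 6 = false := by decide +kernel

theorem six_M : tb M 6 = false := by decide +kernel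

/-- generators and words with `w • s` in the orbit of `c` -/
def rest : List (List Gen × Gen) := [([], .c), ([], .e), ([.c, .d], .h), ([.c], .b), ([.e], .f), ([.c, .b], .a),
  ([.e, .f], .g)]

theorem rest_all : rest.all (fun g => tb O2 (ptWord (nw g.1) (ptn g.2))) = true := by decide +kernel

theorem t_six : Nat.beq (sN.pt (ptWord (nw [.d, .i]) 6)) 26 = true := by decide +kernel

/-! ### Labels -/

theorem tab_ok : tab.all (fun x => and (tb M x.1) (and (Nat.ble x.1 3509)
    ([0, 1, 2, 3, 4, 5].all fun j => Nat.beq (tb (L j) x.1).toNat (tb x.2 j).toNat))) = true := by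
  decide +kernel

/-- the mask of a list of points -/
noncomputable def mk (l : List (ℕ × ℕ)) : ℕ :=
  List.rec (motive := fun _ => ℕ) 0 (fun x _ ih => Nat.lor (Nat.pow 2 x.1) ih) l

theorem mk_tab : Nat.beq (mk tab) M = true := by decide +kernel

/-- all codes of nonsingular vectors occur -/
theorem tab_surj : ∀ n : Fin 64, qn n.1 = true → (tab.map Prod.snd).elem n.1 = true := by
  decide +kernel

theorem tab_q : tab.all (fun x => and (Nat.blt x.2 64) (qn x.2)) = true := by
  decide +kernel

/-- every vector is the sum of two nonsingular vectors -/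
theorem split_codes : ∀ n : Fin 64, ∃ m : Fin 64, qn m.1 = true ∧ qn (n.1 ^^^ m.1) = true := by
  decide +kernel

end Cfsg.Agent.H833.SixChk
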