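import Cfsg.Agent.H833.SixChk
import Cfsg.Agent.H836.EightCent
import Cfsg.Agent.H833.LabOrth
import Cfsg.Agent.LieClassical.KleinMinusGen
import Cfsg.Agent.OddHalf.D8.Fi22.KTrans

/-!
# The 72 transpositions of `Fi22` fixed by the flip times `d i` (helper833)

`tt = flipA * conj (d i)`, `Ct` its group of fixed points; `labelled : Lab q6 Ct tp {x | In M x} lab`.
-/

set_option autoImplicit false
set_option maxRecDepth 100000

namespace Cfsg.Agent.H833.SixPts

open Cfsg Cfsg.Spor Cfsg.Spor.Fi22 Cfsg.Agent.Lib.PermNet Cfsg.Agent.Lib.PermNetOrbit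
open Cfsg.Agent.Fischer.Fi22PtsRep Cfsg.Agent.Fischer.Fi22Order
open Cfsg.Agent.H833.SixData Cfsg.Agent.H833.SixChk Cfsg.Agent.H833.LabOrth
open Cfsg.Agent.H833.Flip
open Cfsg.Agent.H836.EightData (sN)
open Cfsg.Agent.H836.EightChk (mv mvAll mvAll_cons testBit_mv sel testBit_sel GD GD.w U testBit_U ptn sN_ok sN_wok)
open Cfsg.Agent.H836.EightPts
open Cfsg.Agent.H836.EightBlk (tr_word toNat_inj wd_reverse)
open Cfsg.Agent.H836.EightCent (sw mvAll_false mv_false lt12)
open Cfsg.Agent.LieClassical.OrthForms (minusForm nondeg_minusForm)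
open Cfsg.Agent.LieClassical.KleinMinusGen (Q_apply polar_apply reflGroup_minus)
open Cfsg.Agent.LieClassical.ReflGen (orth refl reflGroup)
open QuadraticMap

/-! ### The space -/

/-- the space -/
abbrev V6 := (Fin 2 ⊕ Fin 2) ⊕ Fin 2 → ZMod 2

/-- the elliptic form -/
abbrev q6 : QuadraticForm (ZMod 2) V6 := minusForm 2 (ZMod 2) 1 1

theorem cc_xor (a b : Bool) : cc (a ^^ b) = cc a + cc b := by cases a <;> cases b <;> decide
theorem cc_and (a b : Bool) : cc (a && b) = cc a * cc b := by cases a <;> cases b <;> decide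
theorem cc_inj {a b : Bool} (h : cc a = cc b) : a = b := by
  cases a <;> cases b <;> simp_all [cc]

/-- Bit positions. -/
def ix : (Fin 2 ⊕ Fin 2) ⊕ Fin 2 → ℕ := Sum.elim (Sum.elim (fun i => i.1) (fun i => i.1 + 2)) (fun i => i.1 + 4)

/-- Decoding. -/
def dec (n : ℕ) : V6 := fun i => cc (n.testBit (ix i))

theorem dec_xor (a b : ℕ) : dec (a ^^^ b) = dec a + dec b := by
  funext i
  show cc ((a ^^^ b).testBit (ix i)) = cc _ + cc _
  rw [Nat.testBit_xor, cc_xor]

theorem dec_eq_zero : ∀ a : Fin 64, dec a.1 = 0 → a = 0 := by decide +kernel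

theorem dec_inj {a b : ℕ} (ha : a < 64) (hb : b < 64) (h : dec a = dec b) : a = b := by
  have h1 : dec (a ^^^ b) = 0 := by rw [dec_xor, h, LabOrth.add_self]
  have h2 := dec_eq_zero ⟨a ^^^ b, Nat.xor_lt_two_pow (n := 6) ha hb⟩ h1
  have h3 : a ^^^ b = 0 := congrArg Fin.val h2
  have h4 : (a ^^^ b) ^^^ b = a := by rw [Nat.xor_assoc, Nat.xor_self, Nat.xor_zero]
  rw [h3, Nat.zero_xor] at h4
  exact h4.symm

theorem dec_surj (v : V6) : ∃ a < 64, dec a = v := by
  have hinj : Function.Injective (fun a : Fin 64 => dec a.1) := fun a b hab =>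
    Fin.ext (dec_inj a.2 b.2 hab)
  have hbij : Function.Bijective (fun a : Fin 64 => dec a.1) := by
    rw [Fintype.bijective_iff_injective_and_card]
    refine ⟨hinj, ?_⟩
    rw [Fintype.card_fun]
    simp [ZMod.card]
  obtain ⟨a, ha⟩ := hbij.2 v
  exact ⟨a.1, a.2, ha⟩

theorem q_dec (n : ℕ) : q6 (dec n) = cc (qn n) := by
  rw [Q_apply]
  have e : ∀ x : ZMod 2, x ^ 2 = x := by decide
  have e1 : ∀ i, dec n i = cc (n.testBit (ix i)) := fun _ => rfl
  rw [e, e, one_mul, one_mul, e1, e1, e1, e1, e1, e1]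
  simp only [qn, cc_xor, cc_and]
  rfl

theorem B_dec (m n : ℕ) : polar q6 (dec m) (dec n) = cc (Bn m n) := by
  have h := q_add (q := q6) (dec m) (dec n)
  rw [← dec_xor, q_dec, q_dec, q_dec] at h
  have h1 : cc (qn (m ^^^ n)) = cc (qn m) + cc (qn n) + cc (Bn m n) := by
    simp only [qn, Bn, cc_xor, cc_and, Nat.testBit_xor]
    ring
  rw [h1] at h
  exact (add_left_cancel h).symm

theorem anis : ∀ z₁ z₂ : ZMod 2, z₁ ^ 2 + 1 * z₁ * z₂ + 1 * z₂ ^ 2 = 0 → z₁ = 0 ∧ z₂ = 0 := by decide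

theorem sp : Sp q6 where
  nondeg := nondeg_minusForm 2 (ZMod 2) 1 1 anis
  span := by
    rw [eq_top_iff]
    intro x _
    obtain ⟨n, hn, rfl⟩ := dec_surj x
    obtain ⟨m, h1, h2⟩ := split_codes ⟨n, hn⟩
    have e : dec n = dec m.1 + dec (n ^^^ m.1) := by
      rw [← dec_xor]
      congr 1
      rw [Nat.xor_comm, Nat.xor_assoc, Nat.xor_self, Nat.xor_zero]
    rw [e]
    refine Submodule.add_mem _ (Submodule.subset_span ?_) (Submodule.subset_span ?_)
    · show q6 _ = 1
      rw [q_dec, h1]; rfl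
    · show q6 _ = 1
      rw [q_dec, h2]; rfl

theorem refl_top : reflGroup q6 = ⊤ := reflGroup_minus 1 1 anis

/-! ### The automorphism -/

/-- the flip times `d i` -/
noncomputable def tt : MulAut Spor.Fi22 := flipA * MulAut.conj (gen .d * gen .i)

/-- `tt` on the points -/
noncomputable def tau (x : X) : X := fl ((gen .d * gen .i) • x)

theorem tt_tp (x : X) : tt (tp x) = tp (tau x) := by
  show flipA (MulAut.conj (gen .d * gen .i) (tp x)) = _
  rw [MulAut.conj_apply, ← tp_smul, flipA_tp]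
  rfl

theorem tau_smul (g : Spor.Fi22) (x : X) : tau (g • x) = tt g • tau x := by
  show fl ((gen .d * gen .i) • (g • x)) = tt g • fl ((gen .d * gen .i) • x)
  have e : (gen .d * gen .i) • (g • x) =
      ((gen .d * gen .i) * g * (gen .d * gen .i)⁻¹) • ((gen .d * gen .i) • x) := by
    rw [smul_smul, smul_smul]
    congr 1
    group
  rw [e, fl_smul]
  rfl

theorem wok_t : WOk (2 ^ 12) (sN :: nw [.d, .i]) := WOk.cons sN_ok (nw_ok _)

theorem val_tau (x : X) : (tau x).1 = wperm (sN :: nw [.d, .i]) x.1 := by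
  rw [wperm_cons, Equiv.Perm.mul_apply, wperm_eq, wd_cons, wd_cons, wd_nil, mul_one]
  rfl

theorem tau_eq_iff (x : X) : tau x = x ↔ In M x := by
  have h1 := testBit_mv wok_t (lt12 x)
  have h2 := Nat.eq_of_beq_eq_true mv_t
  have h3 : U.testBit x.1 = true := testBit_U.2 x.2
  rw [h2, nxor, h3, ← val_tau] at h1
  rw [Subtype.ext_iff]
  show _ ↔ M.testBit x.1 = true
  cases h : M.testBit x.1
  · rw [h] at h1
    simp at h1
    simp [h1]
  · rw [h] at h1
    simp at h1
    simp [h1]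

/-- The group of fixed points. -/
noncomputable def Ct : Subgroup Spor.Fi22 where
  carrier := {g | tt g = g}
  mul_mem' := by
    intro a b ha hb
    show tt (a * b) = a * b
    rw [map_mul, ha, hb]
  one_mem' := map_one _
  inv_mem' := by
    intro a ha
    show tt a⁻¹ = a⁻¹
    rw [map_inv, ha]

theorem mem_Ct {g : Spor.Fi22} : g ∈ Ct ↔ tt g = g := Iff.rfl

theorem in_M_smul {g : Spor.Fi22} (hg : g ∈ Ct) {x : X} (hx : In M x) : In M (g • x) := by
  rw [← tau_eq_iff, tau_smul, mem_Ct.1 hg, (tau_eq_iff x).2 hx]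

theorem tp_mem_Ct {x : X} (h : In M x) : tp x ∈ Ct := by
  rw [mem_Ct, tt_tp, (tau_eq_iff x).2 h]

/-! ### Labels -/

/-- The label of a point. -/
noncomputable def lab (x : X) : V6 := fun i => cc ((L (ix i)).testBit x.1)

theorem ix_mem : ∀ i : (Fin 2 ⊕ Fin 2) ⊕ Fin 2, ix i ∈ [0, 1, 2, 3, 4, 5] := by decide

theorem ix_surj : ∀ j ∈ [0, 1, 2, 3, 4, 5], ∃ i : (Fin 2 ⊕ Fin 2) ⊕ Fin 2, ix i = j := by decide

theorem exists_code (x : X) : ∃ n < 64, lab x = dec n ∧
    ∀ j ∈ [0, 1, 2, 3, 4, 5], (L j).testBit x.1 = n.testBit j := by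
  obtain ⟨n, hn, h⟩ := dec_surj (lab x)
  refine ⟨n, hn, h.symm, fun j hj => ?_⟩
  obtain ⟨i, rfl⟩ := ix_surj j hj
  exact (cc_inj (congrFun h i)).symm

theorem lab_of_bits {x : X} {n : ℕ} (h : ∀ j ∈ [0, 1, 2, 3, 4, 5], (L j).testBit x.1 = n.testBit j) :
    lab x = dec n := by
  funext i
  show cc _ = cc _
  rw [h _ (ix_mem i)]

theorem pol_spec (v : ℕ) (x : X) : cc ((pol v).testBit x.1) = polar q6 (dec v) (lab x) := by
  obtain ⟨n, hn, h, hb⟩ := exists_code x
  rw [h, B_dec]
  congr 1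
  have e : (pol v).testBit x.1 = ((((v.testBit 0 && (L 2).testBit x.1) ^^ (v.testBit 2 && (L 0).testBit x.1)) ^^
      ((v.testBit 1 && (L 3).testBit x.1) ^^ (v.testBit 3 && (L 1).testBit x.1))) ^^
      ((v.testBit 4 && (L 5).testBit x.1) ^^ (v.testBit 5 && (L 4).testBit x.1))) := by
    rw [pol]
    simp only [nxor, testBit_sel, tb_eq]
  rw [e, hb 0 (by decide), hb 1 (by decide), hb 2 (by decide), hb 3 (by decide), hb 4 (by decide),
    hb 5 (by decide)]
  simp only [Bn]

/-! ### The generators -/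

theorem gd_spec {g : GD} (hg : g ∈ gs) :
    (∀ j ∈ [0, 1, 2, 3, 4, 5], ∀ p, (L j).testBit (wperm (nw g.w) p) =
      ((L j).testBit p ^^ (g.v.testBit j && (pol g.v).testBit p))) ∧
    (∀ p, M.testBit (wperm (nw g.w) p) = M.testBit p) ∧
    ptWord (nw g.u) (ptn g.x) = g.p ∧ M.testBit g.p = true ∧
    (∀ j ∈ [0, 1, 2, 3, 4, 5], (L j).testBit g.p = g.v.testBit j) := by
  have h : gdB g = true := List.all_eq_true.1 gd_all g hg
  rw [gdB, Bool.and_eq_true, Bool.and_eq_true, Bool.and_eq_true, Bool.and_eq_true] at h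
  obtain ⟨⟨h1, h2⟩, h3, h5, h6⟩ := h
  refine ⟨fun j hj p => ?_, fun p => ?_, Nat.eq_of_beq_eq_true h3, ?_, fun j hj => ?_⟩
  · have h7 := List.all_eq_true.1 h1 j hj
    have h8 := Nat.eq_of_beq_eq_true h7
    rw [← testBit_appWord (nw_ok _), h8, nxor, testBit_sel, tb_eq]
  · rw [← testBit_appWord (nw_ok _), Nat.eq_of_beq_eq_true h2]
  · rw [← tb_eq]; exact h5
  · have h7 := toNat_inj (List.all_eq_true.1 h6 j hj)
    rw [tb_eq, tb_eq] at h7
    exact h7

/-- the transposition of a generator -/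
noncomputable abbrev tr (g : GD) : Spor.Fi22 := wd g.w

theorem gp_lt {g : GD} (hg : g ∈ gs) : g.p < 3510 := by
  have h := (gd_spec hg).2.2.1
  have h2 := (wd g.u • pg g.x).2
  rw [val_wd_smul] at h2
  change ptWord (nw g.u) (ptn g.x) < 3510 at h2
  rwa [h] at h2

theorem tr_eq {g : GD} (hg : g ∈ gs) : tr g = tp ⟨g.p, gp_lt hg⟩ := by
  rw [tr, GD.w, tr_word]
  congr 1
  apply Subtype.ext
  rw [val_wd_smul]
  exact (gd_spec hg).2.2.1

theorem val_smul_tr (g : GD) (x : X) : (tr g • x).1 = wperm (nw g.w) x.1 := (wperm_eq g.w x).symm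

theorem in_M_gp {g : GD} (hg : g ∈ gs) : In M ⟨g.p, gp_lt hg⟩ := (gd_spec hg).2.2.2.1

theorem tr_mem {g : GD} (hg : g ∈ gs) : tr g ∈ Ct := by
  rw [tr_eq hg]
  exact tp_mem_Ct (in_M_gp hg)

theorem lab_tr {g : GD} (hg : g ∈ gs) (x : X) :
    lab (tr g • x) = lab x + polar q6 (dec g.v) (lab x) • dec g.v := by
  funext i
  show cc ((L (ix i)).testBit (tr g • x).1) = cc _ + polar q6 (dec g.v) (lab x) * cc (g.v.testBit (ix i))
  rw [val_smul_tr, (gd_spec hg).1 _ (ix_mem i), cc_xor, cc_and, pol_spec, mul_comm (cc (g.v.testBit (ix i)))]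

theorem lab_gp {g : GD} (hg : g ∈ gs) : lab ⟨g.p, gp_lt hg⟩ = dec g.v :=
  lab_of_bits fun j hj => (gd_spec hg).2.2.2.2 j hj

/-! ### The table -/

theorem mem_of_mk {l : List (ℕ × ℕ)} {p : ℕ} (h : (mk l).testBit p = true) : ∃ n, (p, n) ∈ l := by
  induction l with
  | nil =>
    change (0 : ℕ).testBit p = true at h
    rw [Nat.zero_testBit] at h
    exact absurd h (by simp)
  | cons y l ih =>
    change (Nat.lor (Nat.pow 2 y.1) (mk l)).testBit p = true at h
    rw [nor, Bool.or_eq_true] at h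
    rcases h with h | h
    · have h1 : (2 ^ y.1).testBit p = true := h
      rw [Nat.testBit_two_pow] at h1
      have h2 : y.1 = p := by simpa using h1
      exact ⟨y.2, by rw [← h2]; exact List.mem_cons_self⟩
    · obtain ⟨n, hn⟩ := ih h
      exact ⟨n, List.mem_cons_of_mem _ hn⟩

theorem mem_tab {x : X} (h : In M x) : ∃ n, (x.1, n) ∈ tab := by
  apply mem_of_mk
  rw [Nat.eq_of_beq_eq_true mk_tab]
  exact h

theorem tab_spec {p n : ℕ} (h : (p, n) ∈ tab) :
    n < 64 ∧ qn n = true ∧ ∃ hp : p < 3510, In M ⟨p, hp⟩ ∧ lab ⟨p, hp⟩ = dec n := by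
  have h1 := List.all_eq_true.1 tab_q _ h
  have h2 := List.all_eq_true.1 tab_ok _ h
  rw [Bool.and_eq_true] at h1
  rw [Bool.and_eq_true, Bool.and_eq_true] at h2
  have h3 : n < 64 := by
    have := Nat.le_of_ble_eq_true h1.1
    omega
  have h4 : p < 3510 := by
    have := Nat.le_of_ble_eq_true h2.2.1
    change p ≤ 3509 at this
    omega
  refine ⟨h3, h1.2, h4, ?_, ?_⟩
  · show M.testBit p = true
    rw [← tb_eq]
    exact h2.1
  · apply lab_of_bits
    intro j hj
    have h7 := toNat_inj (List.all_eq_true.1 h2.2.2 j hj)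
    rw [tb_eq, tb_eq] at h7
    exact h7

theorem lab_q {x : X} (h : In M x) : q6 (lab x) = 1 := by
  obtain ⟨n, hn⟩ := mem_tab h
  obtain ⟨_, h2, hp, _, h4⟩ := tab_spec hn
  have : lab x = dec n := h4
  rw [this, q_dec, h2]
  rfl

theorem lab_surj {v : V6} (hv : q6 v = 1) : ∃ x, In M x ∧ lab x = v := by
  obtain ⟨n, hn, rfl⟩ := dec_surj v
  have hq : qn n = true := by
    rw [q_dec] at hv
    cases h : qn n
    · rw [h] at hv
      exact absurd hv (by decide)
    · rfl
  have h1 := tab_surj ⟨n, hn⟩ hq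
  rw [List.elem_iff, List.mem_map] at h1
  obtain ⟨⟨p, m⟩, hm, e⟩ := h1
  change m = n at e
  subst e
  obtain ⟨_, _, hp, h3, h4⟩ := tab_spec hm
  exact ⟨_, h3, h4⟩

/-! ### Transitivity -/

/-- The group generated by the seven transpositions. -/
noncomputable def H1 : Subgroup Spor.Fi22 := Subgroup.closure {k | ∃ g ∈ gs, tr g = k}

theorem nws_mem {w : List Net} (hw : w ∈ nws gw) : ∃ g ∈ gs, w = nw g.w := by
  obtain ⟨v, hv, rfl⟩ := List.mem_map.1 hw
  obtain ⟨g, hg, rfl⟩ := List.mem_map.1 hv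
  exact ⟨g, hg, rfl⟩

theorem nws_K {w : List Net} (hw : w ∈ nws gw) : wperm w ∈ H1.map φ := by
  obtain ⟨g, hg, rfl⟩ := nws_mem hw
  exact ⟨tr g, Subgroup.subset_closure ⟨g, hg, rfl⟩, φ_wd _⟩

/-- the point of `d` -/
noncomputable abbrev xd : X := pg .d
/-- the point of `i` -/
noncomputable abbrev xi : X := pg .i

theorem trans_M {x : X} (h : In M x) : ∃ k ∈ H1, k • xd = x := by
  have h1 := Nat.eq_of_beq_eq_true sat_M
  have h2 : M.testBit x.1 = true := h
  rw [← h1] at h2
  obtain ⟨_, ⟨k, hk, rfl⟩, hk2⟩ := sat_point_spec (K := H1.map φ) (nws_ok gw) (fun w hw => nws_K hw) 5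
    (p₀ := 16) h2
  exact ⟨k, hk, Subtype.ext hk2⟩

theorem trans_O2 {x : X} (h : In O2 x) : ∃ k ∈ H1, k • pg .c = x := by
  have h1 := Nat.eq_of_beq_eq_true sat_O2
  have h2 : O2.testBit x.1 = true := h
  rw [← h1] at h2
  obtain ⟨_, ⟨k, hk, rfl⟩, hk2⟩ := sat_point_spec (K := H1.map φ) (nws_ok gw) (fun w hw => nws_K hw) 6
    (p₀ := 6) h2
  exact ⟨k, hk, Subtype.ext hk2⟩

theorem H1_le : H1 ≤ Ct := by
  rw [H1, Subgroup.closure_le]
  rintro _ ⟨g, hg, rfl⟩
  exact tr_mem hg

/-! ### Elements acting on the labels as isometries -/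

/-- `g` acts on the labels as the isometry `A`. -/
structure Rel (g : Spor.Fi22) (A : orth (q6 : V6 → ZMod 2)) : Prop where
  mem : g ∈ Ct
  lab : ∀ x, In M x → lab (g • x) = (A : V6 ≃ₗ[ZMod 2] V6) (lab x)

theorem Rel.one : Rel 1 1 where
  mem := one_mem _
  lab x _ := by rw [one_smul]; rfl

theorem Rel.mul {g h : Spor.Fi22} {A C : orth (q6 : V6 → ZMod 2)} (h1 : Rel g A) (h2 : Rel h C) :
    Rel (g * h) (A * C) where
  mem := mul_mem h1.mem h2.mem
  lab x hx := by
    rw [mul_smul, h1.lab _ (in_M_smul h2.mem hx), h2.lab x hx]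
    rfl

theorem Rel.inv {g : Spor.Fi22} {A : orth (q6 : V6 → ZMod 2)} (h1 : Rel g A) : Rel g⁻¹ A⁻¹ where
  mem := inv_mem h1.mem
  lab x hx := by
    have h3 := h1.lab _ (in_M_smul (inv_mem h1.mem) hx)
    rw [smul_inv_smul] at h3
    rw [h3]
    exact ((A : V6 ≃ₗ[ZMod 2] V6).symm_apply_apply _).symm

theorem q_ne {v : V6} (h : q6 v = 1) : q6 v ≠ 0 := by rw [h]; exact one_ne_zero

theorem refl_app {v : V6} (h : q6 v = 1) (x : V6) :
    (refl q6 v (q_ne h) : V6 ≃ₗ[ZMod 2] V6) x = x + polar q6 v x • v := by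
  rw [Cfsg.Agent.LieClassical.ReflGen.refl_apply, h, inv_one, one_mul, sub_eq_add_neg]
  congr 1
  exact neg_eq_of_add_eq_zero_right (LabOrth.add_self _)

theorem qv {g : GD} (hg : g ∈ gs) : q6 (dec g.v) = 1 := by
  rw [← lab_gp hg]
  exact lab_q (in_M_gp hg)

theorem rel_tr {g : GD} (hg : g ∈ gs) : Rel (tr g) (refl q6 (dec g.v) (q_ne (qv hg))) where
  mem := tr_mem hg
  lab x _ := by rw [lab_tr hg, refl_app (qv hg)]

theorem rel_H1 {k : Spor.Fi22} (hk : k ∈ H1) : ∃ A, Rel k A := by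
  induction hk using Subgroup.closure_induction with
  | mem x hx =>
    obtain ⟨g, hg, rfl⟩ := hx
    exact ⟨_, rel_tr hg⟩
  | one => exact ⟨1, Rel.one⟩
  | mul x y _ _ hx hy =>
    obtain ⟨A, hA⟩ := hx
    obtain ⟨C, hC⟩ := hy
    exact ⟨_, hA.mul hC⟩
  | inv x _ hx =>
    obtain ⟨A, hA⟩ := hx
    exact ⟨_, hA.inv⟩

/-- the generators -/
def gd : GD := ⟨[], .d, 16, 5⟩
def gi : GD := ⟨[], .i, 92, 5⟩

theorem gd_mem : gd ∈ gs := List.mem_cons_self
theorem gi_mem : gi ∈ gs := List.mem_cons_of_mem _ List.mem_cons_self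

theorem in_M_d : In M xd := in_M_gp gd_mem
theorem in_M_i : In M xi := in_M_gp gi_mem

theorem lab_d : lab xd = dec 5 := lab_gp gd_mem
theorem lab_i : lab xi = dec 5 := lab_gp gi_mem

theorem tr_gd : tr gd = tp xd := tr_eq gd_mem

theorem conj_refl (A : orth (q6 : V6 → ZMod 2)) {v : V6} (hv : q6 v = 1) (x : V6) :
    (A : V6 ≃ₗ[ZMod 2] V6) ((refl q6 v (q_ne hv) : V6 ≃ₗ[ZMod 2] V6)
      (((A⁻¹ : orth (q6 : V6 → ZMod 2)) : V6 ≃ₗ[ZMod 2] V6) x)) =
      x + polar q6 ((A : V6 ≃ₗ[ZMod 2] V6) v) x • (A : V6 ≃ₗ[ZMod 2] V6) v := by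
  have h1 : (A : V6 ≃ₗ[ZMod 2] V6) (((A⁻¹ : orth (q6 : V6 → ZMod 2)) : V6 ≃ₗ[ZMod 2] V6) x) = x :=
    (A : V6 ≃ₗ[ZMod 2] V6).apply_symm_apply x
  rw [refl_app hv, map_add, map_smul, h1]
  congr 2
  rw [← orth_polar A, h1]

/-- The transposition of a point acts on the labels as the reflection of its label. -/
theorem lab_tp {x : X} (hx : In M x) {y : X} (hy : In M y) :
    lab (tp x • y) = lab y + polar q6 (lab x) (lab y) • lab x := by
  obtain ⟨k, hk, rfl⟩ := trans_M hx
  obtain ⟨A, hA⟩ := rel_H1 hk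
  have h1 := (hA.mul (rel_tr gd_mem)).mul hA.inv
  rw [tr_gd, ← tp_smul] at h1
  rw [h1.lab y hy, hA.lab _ in_M_d, lab_d]
  exact conj_refl A (qv gd_mem) (lab y)

/-! ### Points with the same label -/

theorem testBit_sub (j : ℕ) {x : X} (hx : In M x) :
    (Nat.xor M (L j)).testBit x.1 = !(L j).testBit x.1 := by
  rw [nxor, show M.testBit x.1 = true from hx]
  cases (L j).testBit x.1 <;> rfl

theorem fibre_d {x : X} (hx : In M x) (h : lab x = lab xd) : x = xd ∨ x = xi := by
  rw [lab_d] at h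
  have hb : ∀ j ∈ [0, 1, 2, 3, 4, 5], (L j).testBit x.1 = (5 : ℕ).testBit j := by
    intro j hj
    obtain ⟨i, rfl⟩ := ix_surj j hj
    exact cc_inj (congrFun h i)
  have h1 := congrArg (fun n => Nat.testBit n x.1) (Nat.eq_of_beq_eq_true fibre)
  simp only [nand, nor] at h1
  rw [testBit_sub 1 hx, testBit_sub 3 hx, testBit_sub 4 hx, testBit_sub 5 hx, hb 0 (by decide), hb 1 (by decide), hb 2 (by decide), hb 3 (by decide),
    hb 4 (by decide), hb 5 (by decide)] at h1
  have h2 : ((2 ^ 16 : ℕ).testBit x.1 || (2 ^ 92 : ℕ).testBit x.1) = true := by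
    rw [← show _ = ((2 ^ 16 : ℕ).testBit x.1 || (2 ^ 92 : ℕ).testBit x.1) from h1]
    decide
  rw [Bool.or_eq_true, Nat.testBit_two_pow, Nat.testBit_two_pow] at h2
  rcases h2 with h2 | h2
  · left
    have : 16 = x.1 := by simpa using h2
    exact Subtype.ext this.symm
  · right
    have : 92 = x.1 := by simpa using h2
    exact Subtype.ext this.symm

theorem xd_ne_xi : xi ≠ xd := by
  intro h
  have : (92 : ℕ) = 16 := congrArg Subtype.val h
  exact absurd this (by decide)

theorem di_comm : tp xd * tp xi = tp xi * tp xd := by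
  rw [tp_pg, tp_pg]
  have h := gen_cox .d .i
  have hl : coxLabel Spor.Fi22.edges .d .i = 2 := by decide
  rw [hl, pow_two] at h
  have h5 := eq_inv_of_mul_eq_one_left h
  rw [h5, mul_inv_rev, inv_eq_of_mul_eq_one_left (gen_sq .i), inv_eq_of_mul_eq_one_left (gen_sq .d)]

theorem two {x : X} (hx : In M x) : ∃ y, In M y ∧ y ≠ x ∧ lab y = lab x ∧ tp x * tp y = tp y * tp x ∧
    ∀ z, In M z → lab z = lab x → z = x ∨ z = y := by
  obtain ⟨k, hk, rfl⟩ := trans_M hx
  obtain ⟨A, hA⟩ := rel_H1 hk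
  refine ⟨k • xi, in_M_smul hA.mem in_M_i, fun h => xd_ne_xi (smul_left_cancel k h), ?_, ?_, ?_⟩
  · rw [hA.lab _ in_M_i, hA.lab _ in_M_d, lab_d, lab_i]
  · rw [tp_smul, tp_smul]
    calc k * tp xd * k⁻¹ * (k * tp xi * k⁻¹) = k * (tp xd * tp xi) * k⁻¹ := by group
      _ = k * (tp xi * tp xd) * k⁻¹ := by rw [di_comm]
      _ = k * tp xi * k⁻¹ * (k * tp xd * k⁻¹) := by group
  · intro z hz h
    have h1 : lab (k⁻¹ • z) = lab xd := by
      rw [hA.inv.lab z hz, h, hA.lab _ in_M_d]
      exact (A : V6 ≃ₗ[ZMod 2] V6).symm_apply_apply _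
    rcases fibre_d (in_M_smul (inv_mem hA.mem) hz) h1 with h2 | h2
    · left; rw [← h2, smul_inv_smul]
    · right; rw [← h2, smul_inv_smul]

theorem three (x y : X) : tp x * tp y = tp y * tp x ∨ tp x * tp y * tp x = tp y * tp x * tp y :=
  Cfsg.Agent.OddHalf.D8.Fi22.kTrans0.three _ (tp_mem x) _ (tp_mem y)

theorem comm_iff {x y : X} (hx : In M x) (hy : In M y) :
    tp x * tp y = tp y * tp x ↔ polar q6 (lab x) (lab y) = 0 := by
  have h := lab_tp hx hy
  constructor
  · intro h1
    rw [(tp_comm x y).2 h1] at h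
    rcases z2 (polar q6 (lab x) (lab y)) with h2 | h2
    · exact h2
    · rw [h2, one_smul] at h
      have h3 : lab x = 0 := left_eq_add.1 h
      have h4 := lab_q hx
      rw [h3, QuadraticMap.map_zero] at h4
      exact absurd h4 (by decide)
  · intro h1
    rw [h1, zero_smul, add_zero] at h
    obtain ⟨y', hy', hne, hl, hc, hz⟩ := two hy
    rcases hz _ (in_M_smul (tp_mem_Ct hx) hy) h with h2 | h2
    · exact (tp_comm x y).1 h2
    · rcases three x y with h3 | h3
      · exact h3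
      · exfalso
        have h4 := congrArg tp h2
        rw [tp_smul, tp_inv] at h4
        rw [← h4, h3] at hc
        -- `y (y x y) = (y x y) y`
        have e1 : tp y * (tp y * tp x * tp y) = tp x * tp y := by
          rw [← mul_assoc, ← mul_assoc, tp_mul_self, one_mul]
        have e2 : tp y * tp x * tp y * tp y = tp y * tp x := by
          rw [mul_assoc, tp_mul_self, mul_one]
        rw [e1, e2] at hc
        apply hne
        apply tp_inj
        rw [← h4, hc, mul_assoc, tp_mul_self, mul_one]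

/-! ### Centralising the 72 -/

theorem cent {g : Spor.Fi22} (h : ∀ x, In M x → g • x = x) : g = 1 := by
  have hc : ∀ x, In M x → g * tp x = tp x * g := fun x hx => (smul_eq_iff g x).1 (h x hx)
  have hH : ∀ k ∈ H1, g * k = k * g := by
    intro k hk
    induction hk using Subgroup.closure_induction with
    | mem x hx =>
      obtain ⟨g', hg', rfl⟩ := hx
      rw [tr_eq hg']
      exact hc _ (in_M_gp hg')
    | one => simp
    | mul x y _ _ hx hy => rw [← mul_assoc, hx, mul_assoc, hy, mul_assoc]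
    | inv x _ hx =>
      calc g * x⁻¹ = x⁻¹ * (x * g) * x⁻¹ := by group
        _ = x⁻¹ * (g * x) * x⁻¹ := by rw [hx]
        _ = x⁻¹ * g := by group
  -- the image of the point of `c`
  have hx0 : g • pg .c = pg .c ∨ g • pg .c = tau (pg .c) := by
    have h0 : ∀ b ∈ five, (mv (nw (sw b))).testBit (pg .c).1 = false := by
      rw [← mvAll_false]
      have := five_zero
      rw [tb_eq] at this
      exact this
    have h1 : (mvAll five).testBit (g • pg .c).1 = false := by
      rw [mvAll_false]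
      intro b hb
      have h2 := (mv_false _ _).1 (h0 b hb)
      rw [mv_false]
      have h3 := List.all_eq_true.1 five_all b hb
      rw [fiveB, Bool.and_eq_true] at h3
      have h4 : In M (wd b.1 • pg b.2.1) := by
        show M.testBit (wd b.1 • pg b.2.1).1 = true
        rw [val_wd_smul]
        have h5 : ptWord (nw b.1) (pg b.2.1).1 = b.2.2 := Nat.eq_of_beq_eq_true h3.1
        rw [h5, ← tb_eq]
        exact h3.2
      have h6 : wd (sw b) = tp (wd b.1 • pg b.2.1) := tr_word _ _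
      rw [h6] at h2 ⊢
      rw [smul_smul, ← hc _ h4, mul_smul, h2]
    have hM : M.testBit (g • pg .c).1 = false := by
      cases h2 : M.testBit (g • pg .c).1
      · rfl
      · exfalso
        have h3 : g⁻¹ • (g • pg .c) = g⁻¹ • (g • pg .c) := rfl
        have h4 : g • (g • pg .c) = g • pg .c := h _ h2
        have h5 : g • pg .c = pg .c := smul_left_cancel g h4
        rw [h5] at h2
        have h6 := six_M
        rw [tb_eq] at h6
        change M.testBit 6 = true at h2
        rw [h6] at h2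
        exact absurd h2 (by simp)
    have h7 := Nat.eq_of_beq_eq_true five_sep
    have h8 := testBit_U.2 (g • pg .c).2
    rw [← h7, nor, nor, nor, h1, hM, Bool.false_or, Bool.false_or, Bool.or_eq_true] at h8
    rcases h8 with h8 | h8
    · left
      have h9 : (2 ^ 6).testBit (g • pg .c).1 = true := h8
      rw [Nat.testBit_two_pow] at h9
      have h10 : 6 = (g • pg .c).1 := by simpa using h9
      exact Subtype.ext h10.symm
    · right
      have h9 : (2 ^ 26).testBit (g • pg .c).1 = true := h8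
      rw [Nat.testBit_two_pow] at h9
      have h10 : 26 = (g • pg .c).1 := by simpa using h9
      apply Subtype.ext
      rw [← h10]
      have h11 : sN.perm (ptWord (nw [.d, .i]) 6) = 26 := by
        rw [← Net.pt_eq sN_ok]
        exact Nat.eq_of_beq_eq_true t_six
      rw [← h11]
      show _ = sN.perm ((gen .d * gen .i) • pg .c).1
      have h12 : ((gen .d * gen .i) • pg .c : X) = wd [.d, .i] • pg .c := by
        rw [wd_cons, wd_cons, wd_nil, mul_one]
      rw [h12, val_wd_smul]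
      rfl
  have key : ∀ (α : MulAut Spor.Fi22) (β : X → X), (∀ x, α (tp x) = tp (β x)) →
      (∀ x, In M x → β x = x) → (∀ x, In O2 x → g • x = β x) → MulAut.conj g = α := by
    intro α β hα hβ hr
    have h1 : ∀ x, (In M x ∨ In O2 x) → MulAut.conj g (tp x) = α (tp x) := by
      intro x hx
      rw [MulAut.conj_apply, ← tp_smul, hα]
      rcases hx with hx | hx
      · rw [h x hx, hβ x hx]
      · rw [hr x hx]
    have hrest : ∀ s ∈ rest, MulAut.conj g (wd s.1) = α (wd s.1) → MulAut.conj g (gen s.2) = α (gen s.2) := by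
      intro s hs hw
      have h2 : MulAut.conj g (tp (wd s.1 • pg s.2)) = α (tp (wd s.1 • pg s.2)) := by
        apply h1
        right
        show O2.testBit (wd s.1 • pg s.2).1 = true
        rw [val_wd_smul, ← tb_eq]
        exact List.all_eq_true.1 rest_all s hs
      rw [tp_smul, tp_pg, map_mul, map_mul, map_mul, map_mul, map_inv, map_inv, hw] at h2
      exact mul_left_cancel (mul_right_cancel h2)
    have hd : MulAut.conj g (gen .d) = α (gen .d) := by
      rw [← tp_pg]
      exact h1 _ (Or.inl in_M_d)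
    have hi : MulAut.conj g (gen .i) = α (gen .i) := by
      rw [← tp_pg]
      exact h1 _ (Or.inl in_M_i)
    have h11 : MulAut.conj g (wd []) = α (wd []) := by rw [wd_nil, map_one, map_one]
    have hcc : MulAut.conj g (gen .c) = α (gen .c) := hrest ([], .c) (by simp [rest]) h11
    have he : MulAut.conj g (gen .e) = α (gen .e) := hrest ([], .e) (by simp [rest]) h11
    have hh : MulAut.conj g (gen .h) = α (gen .h) := hrest ([.c, .d], .h) (by simp [rest]) (by
      simp only [wd_cons, wd_nil, mul_one]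
      rw [map_mul, map_mul, hcc, hd])
    have hb : MulAut.conj g (gen .b) = α (gen .b) := hrest ([.c], .b) (by simp [rest]) (by
      simp only [wd_cons, wd_nil, mul_one]
      rw [hcc])
    have hf : MulAut.conj g (gen .f) = α (gen .f) := hrest ([.e], .f) (by simp [rest]) (by
      simp only [wd_cons, wd_nil, mul_one]
      rw [he])
    have ha : MulAut.conj g (gen .a) = α (gen .a) := hrest ([.c, .b], .a) (by simp [rest]) (by
      simp only [wd_cons, wd_nil, mul_one]
      rw [map_mul, map_mul, hcc, hb])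
    have hg : MulAut.conj g (gen .g) = α (gen .g) := hrest ([.e, .f], .g) (by simp [rest]) (by
      simp only [wd_cons, wd_nil, mul_one]
      rw [map_mul, map_mul, he, hf])
    have hall : ∀ s, MulAut.conj g (gen s) = α (gen s) := by
      intro s
      cases s
      exacts [ha, hb, hcc, hd, he, hf, hg, hh, hi]
    ext k : 1
    have hk : k ∈ Subgroup.closure (Set.range gen) := by rw [closure_gen]; trivial
    induction hk using Subgroup.closure_induction with
    | mem x hx =>
      obtain ⟨s, rfl⟩ := hx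
      exact hall s
    | one => rw [map_one, map_one]
    | mul x y _ _ hx hy => rw [map_mul, map_mul, hx, hy]
    | inv x _ hx => rw [map_inv, map_inv, hx]
  rcases hx0 with h0 | h0
  · have h1 : MulAut.conj g = 1 := by
      apply key 1 id (fun x => rfl) (fun x _ => rfl)
      intro x hx
      obtain ⟨k, hk, rfl⟩ := trans_O2 hx
      rw [smul_smul, hH k hk, mul_smul, h0]
      rfl
    apply eq_one_of_fix
    intro p hp
    have h2 : g • (⟨p, hp⟩ : X) = ⟨p, hp⟩ := by
      apply tp_inj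
      rw [tp_smul, ← MulAut.conj_apply, h1]
      rfl
    exact congrArg Subtype.val h2
  · exfalso
    have h1 : MulAut.conj g = tt := by
      apply key tt tau tt_tp
      · intro x hx
        exact (tau_eq_iff x).2 hx
      · intro x hx
        obtain ⟨k, hk, rfl⟩ := trans_O2 hx
        rw [smul_smul, hH k hk, mul_smul, h0, tau_smul, mem_Ct.1 (H1_le hk)]
    apply flipA_ne_conj (g * (gen .d * gen .i)⁻¹)
    rw [map_mul, h1, map_inv, tt, mul_inv_cancel_right]

/-- **The 72 transpositions and their labels.** -/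
theorem labelled : Lab q6 Ct tp {x | In M x} lab where
  sp := sp
  smul_tp := tp_smul
  sq := tp_mul_self
  inj _ _ := tp_inj
  three := three
  smulF _ hg _ hx := in_M_smul hg hx
  tpH _ hx := tp_mem_Ct hx
  q1 _ hx := lab_q hx
  surj _ hv := lab_surj hv
  two x hx := by
    obtain ⟨y, hy, hne, hl, -, hz⟩ := two hx
    exact ⟨y, hy, hne, hl, fun z hz' => hz z hz'⟩
  comm _ hx _ hy := comm_iff hx hy
  refl _ hx _ hy := lab_tp hx hy
  cent _ _ h := cent h

end Cfsg.Agent.H833.SixPts
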