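import Cfsg.Agent.H465.SpArith
import Cfsg.Agent.H833.FiPairs
import Cfsg.Agent.CTwoTab.Fi23Fin
import Cfsg.Agent.LThreeFi22.Ctx
import Cfsg.Agent.LThreeFi23.TwoCl
import Cfsg.Agent.LThreeFi23.CentUu
import Cfsg.Agent.R01.GlueFi23

/-!
# A solvably unique element of order 17 of `Fi23` (helper833, market task 755)
-/

set_option autoImplicit false

namespace Cfsg.Agent.H833.SpFi23

open Subgroup Cfsg Cfsg.Agent.H465.SU

/-! ### General lemmas -/

section General

variable {G : Type*} [Group G] [Finite G]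

/-- an element of order `p` acting freely on an elementary abelian 2-group -/
theorem dvd_of_free {p : ℕ} (hp : p.Prime) (hp2 : p ≠ 2) {y : G} (hy : orderOf y = p)
    (hc : ∀ u : G, orderOf u = 2 → y * u ≠ u * y) {E : Subgroup G} {k : ℕ} (hk : Nat.card E = 2 ^ k)
    (hE : ∀ u ∈ E, u ^ 2 = 1) (hyE : ∀ u ∈ E, y * u * y⁻¹ ∈ E) : p ∣ 2 ^ k - 1 := by
  have hCE : E ⊓ centralizer ({y} : Set G) = ⊥ := by
    rw [eq_bot_iff]
    rintro u ⟨hu1, hu2⟩
    rw [mem_bot]
    by_contra hu0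
    exact hc u (orderOf_eq_prime (hE u hu1) hu0) (mem_centralizer_singleton_iff.1 hu2).symm
  obtain ⟨j, hjk, hj, hdvd⟩ := card_fixed hp Nat.prime_two (Ne.symm hp2) hy hk hyE
  rw [hCE, card_bot] at hj
  have hkj : k - j = 0 := by
    by_contra h0
    exact (Nat.one_lt_pow h0 one_lt_two).ne hj
  have hjk' : j = k := by omega
  rwa [hjk'] at hdvd

/-- **criterion**: the odd primes by arithmetic, elementary abelian 2-groups by hand -/
theorem SUel.of_two {p : ℕ} (hp : p.Prime) (hp2 : p ≠ 2) (h1 : ¬ p ^ 2 ∣ Nat.card G) {y : G} (hy : orderOf y = p)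
    (har : ∀ t k : ℕ, t.Prime → t ≠ p → t ≠ 2 → 0 < k → t ^ k ∣ Nat.card G → ¬ p ∣ t ^ k - 1)
    (hc : ∀ u : G, orderOf u = 2 → y * u ≠ u * y)
    (h : ∀ (k : ℕ) (E : Subgroup G), 0 < k → Nat.card E = 2 ^ k → p ∣ 2 ^ k - 1 → (∀ u ∈ E, u ^ 2 = 1) →
      (∀ u ∈ E, y * u * y⁻¹ ∈ E) → False) : SUel p y := by
  refine SUel.of_prime hp h1 hy fun t ht htp T hT hyT u hu => ?_
  have hft : Fact t.Prime := ⟨ht⟩
  by_cases ht2 : t = 2
  swap
  · obtain ⟨k, hk⟩ := IsPGroup.iff_card.1 hT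
    obtain ⟨j, hjk, hj, hdvd⟩ := card_fixed hp ht htp hy hk hyT
    have hj0 : j = 0 := by
      by_contra hj0
      refine har t j ht htp ht2 (Nat.pos_of_ne_zero hj0) ?_ hdvd
      exact (pow_dvd_pow t hjk).trans (hk ▸ card_subgroup_dvd_card T)
    rw [hj0, Nat.sub_zero, ← hk] at hj
    have h2 : T ⊓ centralizer ({y} : Set G) = T := eq_of_le_of_card_ge inf_le_left hj.ge
    have h3 : u ∈ T ⊓ centralizer ({y} : Set G) := by rw [h2]; exact hu
    exact (mem_centralizer_singleton_iff.1 h3.2).symm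
  subst ht2
  by_cases hT1 : T = ⊥
  · rw [hT1, mem_bot] at hu
    rw [hu, mul_one, one_mul]
  exfalso
  -- `E = Ω₁(Z(T))`
  let E : Subgroup G :=
    { carrier := {u | u ∈ T ∧ (∀ v ∈ T, u * v = v * u) ∧ u ^ 2 = 1}
      one_mem' := ⟨T.one_mem, fun v _ => by rw [one_mul, mul_one], one_pow _⟩
      mul_mem' := by
        rintro a b ⟨ha1, ha2, ha3⟩ ⟨hb1, hb2, hb3⟩
        refine ⟨T.mul_mem ha1 hb1, fun v hv => ?_, ?_⟩
        · rw [mul_assoc, hb2 v hv, ← mul_assoc, ha2 v hv, mul_assoc]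
        · have : Commute a b := ha2 b hb1
          rw [this.mul_pow, ha3, hb3, one_mul]
      inv_mem' := by
        rintro a ⟨ha1, ha2, ha3⟩
        refine ⟨T.inv_mem ha1, fun v hv => ?_, ?_⟩
        · have : Commute a v := ha2 v hv
          exact this.inv_left
        · rw [inv_pow, ha3, inv_one] }
  have hET : E ≤ T := fun u hu => hu.1
  have hyT' : ∀ u ∈ T, y⁻¹ * u * y ∈ T := by
    intro u hu
    have h1 : T.map (MulAut.conj y).toMonoidHom = T := by
      refine eq_of_le_of_card_ge ?_ (le_of_eq (card_map_of_injective (MulAut.conj y).injective).symm)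
      rintro _ ⟨v, hv, rfl⟩
      exact hyT v hv
    rw [← h1] at hu
    obtain ⟨v, hv, rfl⟩ := hu
    have : y⁻¹ * ((MulAut.conj y).toMonoidHom v) * y = v := by
      show y⁻¹ * (y * v * y⁻¹) * y = v
      group
    rw [this]
    exact hv
  have hyE : ∀ u ∈ E, y * u * y⁻¹ ∈ E := by
    rintro u ⟨hu1, hu2, hu3⟩
    refine ⟨hyT u hu1, fun v hv => ?_, ?_⟩
    · have h2 := hu2 _ (hyT' v hv)
      calc y * u * y⁻¹ * v = y * (u * (y⁻¹ * v * y)) * y⁻¹ := by group
        _ = y * ((y⁻¹ * v * y) * u) * y⁻¹ := by rw [h2]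
        _ = v * (y * u * y⁻¹) := by group
    · rw [conj_pow, hu3, mul_one, mul_inv_cancel]
  have hEp : IsPGroup 2 E := hT.to_le hET
  obtain ⟨k, hk⟩ := IsPGroup.iff_card.1 hEp
  have hE1 : E ≠ ⊥ := by
    have hnt : Nontrivial T := (nontrivial_iff_ne_bot T).2 hT1
    have hcn : Nontrivial (center T) := hT.center_nontrivial
    have h2 : 2 ∣ Nat.card (center T) := by
      have h3 : IsPGroup 2 (center T) := hT.to_subgroup _
      obtain ⟨m, hm⟩ := IsPGroup.iff_card.1 h3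
      have h4 : m ≠ 0 := by
        rintro rfl
        rw [pow_zero] at hm
        have := Finite.one_lt_card (α := center T)
        omega
      rw [hm]
      exact dvd_pow_self 2 h4
    obtain ⟨w, hw⟩ := exists_prime_orderOf_dvd_card' (G := center T) 2 h2
    intro hbot
    have h5 : ((w : T) : G) ∈ E := by
      refine ⟨(w : T).2, fun v hv => ?_, ?_⟩
      · have := mem_center_iff.1 w.2 ⟨v, hv⟩
        exact (congrArg Subtype.val this).symm
      · have : w ^ 2 = 1 := by rw [← hw, pow_orderOf_eq_one]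
        exact congrArg (fun z : center T => ((z : T) : G)) this
    rw [hbot, mem_bot] at h5
    have h6 : w = 1 := Subtype.ext (Subtype.ext h5)
    rw [h6, orderOf_one] at hw
    omega
  have hk0 : 0 < k := by
    rcases Nat.eq_zero_or_pos k with h0 | h0
    · rw [h0, pow_zero] at hk
      exact absurd (Subgroup.card_eq_one.1 hk) hE1
    · exact h0
  exact h k E hk0 hk (dvd_of_free hp hp2 hy hc hk (fun u hu => hu.2.2) hyE) (fun u hu => hu.2.2) hyE
/-- an elementary abelian subgroup of index two in a Sylow subgroup: no element of order 8 -/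
theorem pow_four {E : Subgroup G} (hE : ∀ u ∈ E, u ^ 2 = 1) {n m : ℕ} (hc : Nat.card E = 2 ^ n)
    (hH : Nat.card G = 2 ^ (n + 1) * m) (hm : ¬ 2 ∣ m) {w : G} (hw : w ^ 8 = 1) : w ^ 4 = 1 := by
  have hf : Fact (Nat.Prime 2) := ⟨Nat.prime_two⟩
  obtain ⟨P, hP⟩ := (IsPGroup.of_card hc).exists_le_sylow
  have hm0 : m ≠ 0 := by rintro rfl; exact hm (dvd_zero _)
  have hPc : Nat.card (P : Subgroup G) = 2 ^ (n + 1) := by
    rw [P.card_eq_multiplicity, hH, Nat.factorization_mul (by positivity) hm0, Finsupp.add_apply,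
      Nat.Prime.factorization_pow Nat.prime_two, Finsupp.single_eq_same,
      Nat.factorization_eq_zero_of_not_dvd hm, add_zero]
  have hi : (E.subgroupOf (P : Subgroup G)).index = 2 := by
    have h1 := (E.subgroupOf (P : Subgroup G)).card_mul_index
    have h2 : Nat.card ↥(E.subgroupOf (P : Subgroup G)) = 2 ^ n := by
      rw [← hc]
      exact Nat.card_congr (subgroupOfEquivOfLe hP).toEquiv
    rw [h2, hPc, pow_succ] at h1
    exact Nat.eq_of_mul_eq_mul_left (by positivity) h1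
  -- `w` in `P`
  have hwp : IsPGroup 2 ↥(zpowers w) := by
    obtain ⟨j, -, hj⟩ := (Nat.dvd_prime_pow Nat.prime_two).1 (orderOf_dvd_of_pow_eq_one (show w ^ 2 ^ 3 = 1 from hw))
    exact IsPGroup.of_card (n := j) (by rw [Nat.card_zpowers, hj])
  obtain ⟨Q, hQ⟩ := hwp.exists_le_sylow
  obtain ⟨g, hg⟩ := MulAction.exists_smul_eq G Q P
  have h1 : g * w * g⁻¹ ∈ (P : Subgroup G) := by
    rw [← hg, Sylow.coe_subgroup_smul]
    exact smul_mem_pointwise_smul w (MulAut.conj g) _ (hQ (mem_zpowers w))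
  have h2 := sq_mem_of_index_two hi ⟨_, h1⟩
  have h3 := hE _ (mem_subgroupOf.1 h2)
  rw [Subgroup.coe_pow, ← pow_mul, conj_pow] at h3
  have h4 := congrArg (fun z => g⁻¹ * z * g) h3
  simpa [mul_assoc] using h4

end General

/-! ### `Fi23` -/

section Fi

open Cfsg.Agent.LThreeFi23 Cfsg.Agent.Fischer.Fi23Hom Cfsg.Agent.Lib.PermNet
open Cfsg.Spor (Fi23)

theorem card_cent_z0 : Nat.card ↥(Fischer.Fi23Class.K) = 2 * 64561751654400 := KFacts.FiTTh.Cent.card_K

/-- an element of order 17 fixes no point -/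
theorem y_free {y : Fi23} (hy : orderOf y = 17) {p : ℕ} (hp : p < 31671) : rho y p ≠ p := by
  intro h
  obtain ⟨g, rfl⟩ := exists_rep hp
  have h1 : rho (g⁻¹ * y * g) 0 = 0 := by
    rw [map_mul, map_mul, map_inv, Equiv.Perm.mul_apply, Equiv.Perm.mul_apply, Equiv.Perm.inv_eq_iff_eq, h]
  have h2 := (fix_zero_iff _).1 h1
  have h3 : g⁻¹ * y * g ∈ Fischer.Fi23Class.K := (R01.GlueFi23.mem_K_iff _).2 h2
  have h4 := Subgroup.orderOf_dvd_natCard _ h3
  have h5 : orderOf (g⁻¹ * y * g) = 17 := by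
    rw [← hy]
    have := MulEquiv.orderOf_eq (MulAut.conj g⁻¹) y
    rw [MulAut.conj_apply, inv_inv] at this
    exact this
  rw [h5, card_cent_z0] at h4
  revert h4
  norm_num

/-- an element of order 17 does not commute with a transposition -/
theorem y_ncomm {y : Fi23} (hy : orderOf y = 17) {p : ℕ} (hp : p < 31671) : y * T p ≠ T p * y :=
  fun h => y_free hy hp ((fix_iff y hp).2 h)

theorem z0_eq : Fischer.Fi23Z.z0 = T 0 := T_zero.symm

/-- an element of order 17 does not commute with an involution -/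
theorem y_inv {y : Fi23} (hy : orderOf y = 17) {u : Fi23} (hu : orderOf u = 2) : y * u ≠ u * y := by
  intro h
  have hu1 : u * u = 1 := by rw [← pow_two, ← hu, pow_orderOf_eq_one]
  have hu2 : u ≠ 1 := by
    rintro rfl
    rw [orderOf_one] at hu
    omega
  -- a conjugate commutes with the representative
  have key : ∀ w : Fi23, IsConj u w → ∃ y' : Fi23, orderOf y' = 17 ∧ y' * w = w * y' := by
    intro w hw
    obtain ⟨g, hg⟩ := isConj_iff.1 hw
    refine ⟨g * y * g⁻¹, ?_, ?_⟩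
    · rw [← MulAut.conj_apply, MulEquiv.orderOf_eq, hy]
    · rw [← hg]
      calc g * y * g⁻¹ * (g * u * g⁻¹) = g * (y * u) * g⁻¹ := by group
        _ = g * (u * y) * g⁻¹ := by rw [h]
        _ = g * u * g⁻¹ * (g * y * g⁻¹) := by group
  -- an element of order 17 acting on at most three elements
  have act : ∀ (y' : Fi23) (S : Set Fi23), orderOf y' = 17 → S.ncard ≤ 3 → Fischer.Fi23Z.z0 ∈ S →
      (∀ s ∈ S, y' * s * y'⁻¹ ∈ S) → False := by
    intro y' S hy' hS hz hact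
    have h1 := LThreeFi22.fix_modEq (r := 17) (by norm_num) (y := y') (by rw [← hy', pow_orderOf_eq_one]) hact
    have h2 : {s | s ∈ S ∧ y' * s = s * y'}.ncard ≤ S.ncard := Set.ncard_le_ncard (fun s hs => hs.1) (Set.toFinite _)
    have h3 : {s | s ∈ S ∧ y' * s = s * y'}.ncard = S.ncard := by
      have h4 := h1
      unfold Nat.ModEq at h4
      rw [Nat.mod_eq_of_lt (by omega), Nat.mod_eq_of_lt (by omega)] at h4
      exact h4.symm
    have h4 : {s | s ∈ S ∧ y' * s = s * y'} = S := Set.eq_of_subset_of_ncard_le (fun s hs => hs.1) h3.ge (Set.toFinite _)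
    have h5 : Fischer.Fi23Z.z0 ∈ {s | s ∈ S ∧ y' * s = s * y'} := by rw [h4]; exact hz
    have h6 := h5.2
    rw [z0_eq] at h6
    exact y_ncomm hy' (by norm_num) h6
  rcases KFacts.FiTTh.Has.inv u hu1 hu2 with h1 | h1 | h1
  · obtain ⟨y', hy', h2⟩ := key _ h1
    rw [z0_eq] at h2
    exact y_ncomm hy' (by norm_num) h2
  · obtain ⟨y', hy', h2⟩ := key _ h1
    refine act y' _ hy' ?_ ?_ fun s hs => CTwoTab.Fi23.perm2 h2 hs
    · exact (Set.ncard_insert_le _ _).trans (by rw [Set.ncard_singleton]; norm_num)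
    · exact Or.inl rfl
  · obtain ⟨y', hy', h2⟩ := key _ h1
    refine act y' _ hy' ?_ ?_ fun s hs => CTwoTab.Fi23.perm3 CTwoTab.Fi23.hac h2 hs
    · refine (Set.ncard_insert_le _ _).trans ?_
      have h3 := Set.ncard_insert_le (gen Spor.Fi23.Gen.a) ({gen Spor.Fi23.Gen.c} : Set Fi23)
      rw [Set.ncard_singleton] at h3
      omega
    · exact Or.inl rfl

theorem arith : ∀ t k : ℕ, t.Prime → t ≠ 17 → t ≠ 2 → 0 < k → t ^ k ∣ Nat.card Fi23 → ¬ 17 ∣ t ^ k - 1 := by
  intro t k ht h17 h2 hk hd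
  have h1 : Nat.card Fi23 = 2 ^ 18 * 15600091832325 := by
    rw [card_G]; norm_num
  have h3 : t ^ k ∣ 15600091832325 := by
    rw [h1] at hd
    exact (Nat.Coprime.pow _ _ ((Nat.coprime_primes ht Nat.prime_two).2 h2)).dvd_of_dvd_mul_left hd
  exact arith_of_list (N := 15600091832325) (p := 17) [(3, 13), (5, 2), (7, 1), (11, 1), (13, 1), (23, 1)]
    (by norm_num) (by norm_num) (by norm_num) (by decide) (by decide +kernel) t k ht h17 hk h3

theorem k_cases {k : ℕ} (hk : 0 < k) (h : 17 ∣ 2 ^ k - 1) (hd : 2 ^ k ∣ Nat.card Fi23) : k = 8 ∨ k = 16 := by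
  have h1 : k ≤ 18 := by
    by_contra hcon
    have h2 : 2 ^ 19 ∣ Nat.card Fi23 := (pow_dvd_pow 2 (by omega)).trans hd
    rw [card_G] at h2
    revert h2
    norm_num
  interval_cases k <;> revert h <;> norm_num

/-- there is no elementary abelian subgroup of order `2 ^ 16` -/
theorem no_sixteen {E : Subgroup Fi23} (hE : ∀ u ∈ E, u ^ 2 = 1) : Nat.card ↥E ≠ 2 ^ 16 := by
  intro hc
  have hf : Fact (Nat.Prime 2) := ⟨Nat.prime_two⟩
  obtain ⟨A, S, a, H⟩ := KFacts.FiTTh.Has.has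
  obtain ⟨P, hP⟩ := (IsPGroup.of_card hc).exists_le_sylow
  obtain ⟨g, hg⟩ := MulAction.exists_smul_eq Fi23 P S
  have h1 : E.map (MulAut.conj g).toMonoidHom ≤ (S : Subgroup Fi23) := by
    rw [← hg, Sylow.coe_subgroup_smul]
    rintro _ ⟨u, hu, rfl⟩
    exact smul_mem_pointwise_smul u (MulAut.conj g) _ (hP hu)
  have h2 : Nat.card ↥(E.map (MulAut.conj g).toMonoidHom) = 2 ^ 16 := by
    rw [← hc]
    exact card_map_of_injective (MulAut.conj g).injective
  have h3 := H.uniq _ h1 (by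
    rintro _ ⟨u, hu, rfl⟩
    rw [← map_mul, ← pow_two, hE u hu, map_one]) (by rw [h2]; norm_num)
  rw [h3, H.cardA] at h2
  norm_num at h2

/-- the element of order 8 of `C(z, j)` -/
def w8 : List Lt := [.e, .b, .c, .b, .h, .c, .d]

theorem w8_pow : elw w8 ^ 8 = 1 := by
  rw [← elw_wrep]
  exact elw_eq_of_checkEq (l' := []) (by decide +kernel)

theorem w8_pow4 : elw w8 ^ 4 ≠ 1 := by
  intro h
  rw [← elw_wrep] at h
  have h1 : ∃ p : ℕ, Nat.beq (ptw (wrep w8 4) p) p = false := ⟨11589, by decide +kernel⟩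
  obtain ⟨p, hp⟩ := h1
  rw [ptw_eq, h, map_one, Equiv.Perm.one_apply, Nat.beq_refl] at hp
  exact absurd hp (by decide)

theorem w8_mem : elw w8 ∈ CC :=
  mem_CC.2 ⟨comm_word_let _ _ (by decide +kernel), comm_word_let _ _ (by decide +kernel)⟩

/-- **noncommuting transpositions do not commute with an elementary abelian group of order `2 ^ 8`** -/
theorem no_pair {E : Subgroup Fi23} (hE : ∀ u ∈ E, u ^ 2 = 1) (hc : Nat.card ↥E = 2 ^ 8) {p q : ℕ} (hp : p < 31671)
    (hq : q < 31671) (hpq : ¬ Com p q) (h1 : ∀ u ∈ E, rho u p = p) (h2 : ∀ u ∈ E, rho u q = q) : False := by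
  have h0 : ¬ Com 0 8006 := by
    rw [com_iff (by norm_num), T0, T8006]
    exact Fischer.Fi23Class.z0_ncomm
  obtain ⟨g, hg1, hg2⟩ := pair_trans hp hq (by norm_num : 0 < 31671) (by norm_num : 8006 < 31671) hpq h0
  -- the conjugate of `E`
  have hle : E.map (MulAut.conj g).toMonoidHom ≤ CC := by
    rintro _ ⟨u, hu, rfl⟩
    have key : ∀ {r s : ℕ}, rho g r = s → rho u r = r → rho ((MulAut.conj g).toMonoidHom u) s = s := by
      intro r s hr hur
      have e : (MulAut.conj g).toMonoidHom u = g * u * g⁻¹ := rfl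
      have e2 : (rho g)⁻¹ s = r := (Equiv.Perm.inv_eq_iff_eq).2 hr.symm
      rw [e, map_mul, map_mul, map_inv, Equiv.Perm.mul_apply, Equiv.Perm.mul_apply, e2, hur, hr]
    have e1 := (fix_iff _ (by norm_num)).1 (key hg1 (h1 u hu))
    have e2 := (fix_iff _ (by norm_num)).1 (key hg2 (h2 u hu))
    rw [T0] at e1
    rw [T8006] at e2
    exact mem_CC.2 ⟨e1, e2⟩
  have h4 := pow_four (G := ↥CC) (E := (E.map (MulAut.conj g).toMonoidHom).subgroupOf CC) (n := 8) (m := 8955765)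
    (w := ⟨elw w8, w8_mem⟩) ?_ ?_ (by rw [card_CC]; norm_num) (by norm_num) (Subtype.ext w8_pow)
  · exact w8_pow4 (congrArg Subtype.val h4)
  · intro u hu
    obtain ⟨v, hv, hvu⟩ := mem_subgroupOf.1 hu
    apply Subtype.ext
    rw [Subgroup.coe_pow, ← hvu, ← map_pow, hE v hv, map_one]
    rfl
  · rw [← hc, ← card_map_of_injective (K := E) (f := (MulAut.conj g).toMonoidHom) (MulAut.conj g).injective]
    exact Nat.card_congr (subgroupOfEquivOfLe hle).toEquiv

/-- a 2-group fixes a point -/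
theorem exists_fixed {E : Subgroup Fi23} (hE : IsPGroup 2 ↥E) : ∃ p < 31671, ∀ u ∈ E, rho u p = p := by
  have hf : Fact (Nat.Prime 2) := ⟨Nat.prime_two⟩
  let _ : MulAction ↥E (Fin 31671) :=
    { smul := fun u p => ⟨rho (u : Fi23) p, act_lt _ p.2⟩
      one_smul := fun p => Fin.ext (by
        change rho ((1 : ↥E) : Fi23) p = p
        rw [Subgroup.coe_one, map_one]
        rfl)
      mul_smul := fun u v p => Fin.ext (by
        change rho ((u * v : ↥E) : Fi23) p = rho (u : Fi23) (rho (v : Fi23) p)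
        rw [Subgroup.coe_mul, map_mul]
        rfl) }
  have h1 := hE.card_modEq_card_fixedPoints (α := Fin 31671)
  rw [Nat.card_fin] at h1
  have h2 : Nonempty (MulAction.fixedPoints ↥E (Fin 31671)) := by
    by_contra h3
    rw [not_nonempty_iff] at h3
    rw [Nat.card_of_isEmpty] at h1
    exact absurd h1 (by decide)
  obtain ⟨p, hp⟩ := h2
  exact ⟨p, p.2, fun u hu => congrArg Fin.val (hp ⟨u, hu⟩)⟩

/-! ### The quotient `C(z0) → Fi22` -/

section Quot

variable {q : ↥Fischer.Fi23Class.K →* Spor.Fi22} (hq2 : ∀ x, q x = 1 → x = 1 ∨ x = Fischer.Fi23Cover.zK)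
  (hq3 : ∀ x, q (Fischer.Fi23Cover.kgen x) = PresentedGroup.of x)

theorem conj_of_T {r : ℕ} (hr : r < 31671) : T r ∈ conjugatesOf Fischer.Fi23Z.z0 := by
  obtain ⟨g, hg⟩ := exists_rep hr
  rw [T_eq hg]
  exact isConj_iff.2 ⟨g, rfl⟩

include hq3 in
theorem q_mem {c : Fi23} (hc : c ∈ conjugatesOf Fischer.Fi23Z.z0) (hcK : c ∈ Fischer.Fi23Class.K)
    (hne : c ≠ Fischer.Fi23Z.z0) : q ⟨c, hcK⟩ ∈ R01.Fi22Facts.T := by
  obtain ⟨k, hk1, hk2⟩ := R01.GlueFi23.fus_K hc ((R01.GlueFi23.mem_K_iff c).1 hcK) hne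
  have hk : k ∈ Fischer.Fi23Class.K := (R01.GlueFi23.mem_K_iff k).2 hk1
  have e : (⟨c, hcK⟩ : ↥Fischer.Fi23Class.K) = ⟨k, hk⟩ * Fischer.Fi23Cover.kgen .a * ⟨k, hk⟩⁻¹ :=
    Subtype.ext hk2.symm
  rw [e, map_mul, map_mul, hq3, map_inv]
  exact isConj_iff.2 ⟨q ⟨k, hk⟩, rfl⟩

include hq2 in
theorem q_inj {c c' : Fi23} (hc : c ∈ conjugatesOf Fischer.Fi23Z.z0) (hcK : c ∈ Fischer.Fi23Class.K)
    (hc' : c' ∈ conjugatesOf Fischer.Fi23Z.z0) (hcK' : c' ∈ Fischer.Fi23Class.K)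
    (hne' : c' ≠ Fischer.Fi23Z.z0) (h : q ⟨c, hcK⟩ = q ⟨c', hcK'⟩) : c = c' := by
  have h1 : q (⟨c, hcK⟩ * ⟨c', hcK'⟩⁻¹) = 1 := by rw [map_mul, map_inv, h, mul_inv_cancel]
  rcases hq2 _ h1 with h2 | h2
  · exact congrArg Subtype.val (mul_inv_eq_one.1 h2)
  · exfalso
    have h3 : c = Fischer.Fi23Z.z0 * c' := by
      have h4 : c * c'⁻¹ = Fischer.Fi23Z.z0 := congrArg Subtype.val h2
      rw [← h4, inv_mul_cancel_right]
    obtain ⟨k, hk1, hk2⟩ := R01.GlueFi23.fus_K hc' ((R01.GlueFi23.mem_K_iff c').1 hcK') hne'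
    apply CTwoTab.Fi23.not_conj2
    have h4 : IsConj Fischer.Fi23Z.z0 c := hc
    refine h4.trans (isConj_iff.2 ⟨k⁻¹, ?_⟩)
    rw [h3, ← hk2]
    calc k⁻¹ * (Fischer.Fi23Z.z0 * (k * gen Spor.Fi23.Gen.a * k⁻¹)) * k⁻¹⁻¹
        = k⁻¹ * (Fischer.Fi23Z.z0 * k) * gen Spor.Fi23.Gen.a := by group
      _ = k⁻¹ * (k * Fischer.Fi23Z.z0) * gen Spor.Fi23.Gen.a := by rw [hk1]
      _ = Fischer.Fi23Z.z0 * gen Spor.Fi23.Gen.a := by group

end Quot

theorem center_fi22 {w : Spor.Fi22} (hw : w ∈ center Spor.Fi22) : w = 1 :=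
  StdFi22.MainFi22.center_eq w fun x => (mem_center_iff.1 hw x).symm

/-- an elementary abelian subgroup of order `2 ^ 8` does not contain 17 transpositions -/
theorem no_seventeen {X : Subgroup Fi23} (hX : ∀ u ∈ X, ∀ v ∈ X, u * v = v * u) (hc : Nat.card ↥X = 2 ^ 8)
    (P : ℕ → ℕ) (hP : ∀ i, P i < 31671) (hPX : ∀ i, T (P i) ∈ X) (hinj : ∀ i < 17, ∀ j < 17, P i = P j → i = j) :
    False := by
  obtain ⟨q, hq1, hq2, hq3⟩ := CTwoTab.Fi23.exists_q
  obtain ⟨g, hg⟩ := exists_rep (hP 0)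
  have hg0 : T (P 0) = g * Fischer.Fi23Z.z0 * g⁻¹ := T_eq hg
  -- the conjugate of `X`
  set X' : Subgroup Fi23 := X.map (MulAut.conj g⁻¹).toMonoidHom with hX'
  have hz : Fischer.Fi23Z.z0 ∈ X' := ⟨_, hPX 0, by
    show g⁻¹ * T (P 0) * g⁻¹⁻¹ = _
    rw [hg0]; group⟩
  have hX'c : ∀ u ∈ X', ∀ v ∈ X', u * v = v * u := by
    rintro _ ⟨u, hu, rfl⟩ _ ⟨v, hv, rfl⟩
    rw [← map_mul, hX u hu v hv, map_mul]
  have hle : X' ≤ Fischer.Fi23Class.K := fun u hu => (R01.GlueFi23.mem_K_iff u).2 (hX'c u hu _ hz)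
  have hX'card : Nat.card ↥X' = 2 ^ 8 := by
    rw [← hc]
    exact card_map_of_injective (MulAut.conj g⁻¹).injective
  -- the seventeen transpositions
  let c : ℕ → Fi23 := fun i => g⁻¹ * T (P i) * g
  have hcX : ∀ i, c i ∈ X' := fun i => ⟨_, hPX i, by
    show g⁻¹ * T (P i) * g⁻¹⁻¹ = _
    rw [inv_inv]⟩
  have hcc : ∀ i, c i ∈ conjugatesOf Fischer.Fi23Z.z0 := by
    intro i
    have h1 : IsConj Fischer.Fi23Z.z0 (T (P i)) := conj_of_T (hP i)
    exact h1.trans (isConj_iff.2 ⟨g⁻¹, by rw [inv_inv]⟩)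
  have hcK : ∀ i, c i ∈ Fischer.Fi23Class.K := fun i => hle (hcX i)
  have hcinj : ∀ i < 17, ∀ j < 17, c i = c j → i = j := by
    intro i hi j hj h
    exact hinj i hi j hj (T_inj (hP i) (hP j) (mul_left_cancel (mul_right_cancel h)))
  have hc0 : c 0 = Fischer.Fi23Z.z0 := by
    show g⁻¹ * T (P 0) * g = _
    rw [hg0]; group
  have hcz : ∀ i < 16, c (i + 1) ≠ Fischer.Fi23Z.z0 := by
    intro i hi h
    have := hcinj (i + 1) (by omega) 0 (by omega) (by rw [h, hc0])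
    omega
  -- the image
  let f : ↥(X'.subgroupOf Fischer.Fi23Class.K) →* Spor.Fi22 := q.comp (X'.subgroupOf Fischer.Fi23Class.K).subtype
  have h1 : Nat.card ↥(X'.subgroupOf Fischer.Fi23Class.K) = 2 ^ 8 := by
    rw [← hX'card]
    exact Nat.card_congr (subgroupOfEquivOfLe hle).toEquiv
  have h2 : Nat.card ↥f.ker * Nat.card ↥f.range = 2 ^ 8 := by
    rw [← h1, ← f.ker.card_mul_index, index_ker]
  have h3 : 2 ≤ Nat.card ↥f.ker := by
    by_contra h4
    have h5 : Nat.card ↥f.ker = 1 := by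
      have : 0 < Nat.card ↥f.ker := Nat.card_pos
      omega
    have h6 : f.ker = ⊥ := Subgroup.card_eq_one.1 h5
    have h8 : q Fischer.Fi23Cover.zK = 1 := by
      have h9 : q Fischer.Fi23Cover.zK ∈ center Spor.Fi22 := by
        rw [mem_center_iff]
        intro w
        obtain ⟨k, rfl⟩ := hq1 w
        rw [← map_mul, ← map_mul, mem_center_iff.1 KFacts.FiTTh.Cent.zK_center k]
      exact center_fi22 h9
    have h9 : (⟨Fischer.Fi23Cover.zK, hz⟩ : ↥(X'.subgroupOf Fischer.Fi23Class.K)) ∈ f.ker := h8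
    rw [h6, mem_bot] at h9
    apply Fischer.Fi23Class.z0_ncomm
    have h10 : Fischer.Fi23Cover.zK = 1 := (Subgroup.mk_eq_one (X'.subgroupOf Fischer.Fi23Class.K)).1 h9
    have h11 : Fischer.Fi23Z.z0 = 1 := (Subgroup.mk_eq_one _).1 h10
    rw [h11, one_mul, mul_one]
  have hcf : ∀ i : ℕ, q ⟨c (i + 1), hcK _⟩ ∈ f.range := by
    intro i
    have h5 : (⟨c (i + 1), hcK _⟩ : ↥Fischer.Fi23Class.K) ∈ X'.subgroupOf Fischer.Fi23Class.K :=
      mem_subgroupOf.2 (hcX (i + 1))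
    exact MonoidHom.mem_range.2 ⟨⟨_, h5⟩, rfl⟩
  have h4 := FiPairs.card_gt (X := f.range) (fun i => q ⟨c ((i : ℕ) + 1), hcK _⟩)
    (fun i => q_mem hq3 (hcc _) (hcK _) (hcz i i.2))
    (fun i => hcf i) ?_ ?_
  · have h5 : 2 * 136 ≤ 2 ^ 8 := by
      rw [← h2]
      exact Nat.mul_le_mul h3 h4
    norm_num at h5
  · intro i j h
    have h5 := q_inj hq2 (hcc _) (hcK _) (hcc _) (hcK _) (hcz j j.2) h
    have h6 := hcinj _ (by omega) _ (by omega) h5
    exact Fin.ext (by omega)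
  · intro i j
    rw [← map_mul, ← map_mul]
    congr 1
    exact Subtype.ext (hX'c _ (hcX _) _ (hcX _))

/-- the main step -/
theorem no_eight {y : Fi23} (hy : orderOf y = 17) {E : Subgroup Fi23} (hE : ∀ u ∈ E, u ^ 2 = 1)
    (hyE : ∀ u ∈ E, y * u * y⁻¹ ∈ E) (hc : Nat.card ↥E = 2 ^ 8) : False := by
  obtain ⟨p, hp, hfix⟩ := exists_fixed (IsPGroup.of_card hc)
  -- the points fixed by `E`
  let Δ : Set ℕ := {q | q < 31671 ∧ ∀ u ∈ E, rho u q = q}
  have hyE' : ∀ u ∈ E, y⁻¹ * u * y ∈ E := by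
    intro u hu
    have h1 : E.map (MulAut.conj y).toMonoidHom = E := by
      refine eq_of_le_of_card_ge ?_ (le_of_eq (card_map_of_injective (MulAut.conj y).injective).symm)
      rintro _ ⟨v, hv, rfl⟩
      exact hyE v hv
    rw [← h1] at hu
    obtain ⟨v, hv, rfl⟩ := hu
    have : y⁻¹ * ((MulAut.conj y).toMonoidHom v) * y = v := by
      show y⁻¹ * (y * v * y⁻¹) * y = v
      group
    rw [this]
    exact hv
  have hΔy : ∀ q ∈ Δ, rho y q ∈ Δ := by
    rintro q ⟨hq, hq'⟩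
    refine ⟨act_lt _ hq, fun u hu => ?_⟩
    have h1 := hq' _ (hyE' u hu)
    rw [map_mul, map_mul, map_inv, Equiv.Perm.mul_apply, Equiv.Perm.mul_apply, Equiv.Perm.inv_eq_iff_eq] at h1
    exact h1
  have hcom : ∀ q ∈ Δ, ∀ r ∈ Δ, Com q r := by
    rintro q ⟨hq, hq'⟩ r ⟨hr, hr'⟩
    by_contra h
    exact no_pair hE hc hq hr h hq' hr'
  have hpΔ : p ∈ Δ := ⟨hp, hfix⟩
  have hPΔ : ∀ i : ℕ, rho (y ^ i) p ∈ Δ := by
    intro i
    induction i with
    | zero => rw [pow_zero, map_one]; exact hpΔ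
    | succ i ih => rw [pow_succ', map_mul, Equiv.Perm.mul_apply]; exact hΔy _ ih
  have hinj' : ∀ i j : ℕ, i < j → j < 17 → rho (y ^ i) p ≠ rho (y ^ j) p := by
    intro i j hij hj h
    have h1 : orderOf (y ^ (j - i)) = 17 := by
      rw [Nat.Coprime.orderOf_pow, hy]
      rw [hy]
      refine (Nat.Prime.coprime_iff_not_dvd (by norm_num)).2 fun h17 => ?_
      have := Nat.le_of_dvd (by omega) h17
      omega
    apply y_free h1 hp
    have h2 : y ^ j = y ^ i * y ^ (j - i) := by rw [← pow_add]; congr 1; omega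
    rw [h2, map_mul, Equiv.Perm.mul_apply] at h
    exact ((rho (y ^ i)).injective h).symm
  -- the group generated by the transpositions
  let S : Set Fi23 := {t | ∃ q ∈ Δ, T q = t}
  let X : Subgroup Fi23 := closure S
  have hSS : ∀ s ∈ S, ∀ t ∈ S, s * t = t * s := by
    rintro _ ⟨q, hq, rfl⟩ _ ⟨r, hr, rfl⟩
    exact (com_iff hr.1).1 (hcom q hq r hr)
  have hXS : ∀ a ∈ X, ∀ s ∈ S, a * s = s * a := by
    intro a ha s hs
    have h1 : X ≤ centralizer ({s} : Set Fi23) := by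
      rw [closure_le]
      intro t ht
      exact mem_centralizer_singleton_iff.2 (hSS t ht s hs)
    exact mem_centralizer_singleton_iff.1 (h1 ha)
  have hXX : ∀ a ∈ X, ∀ b ∈ X, a * b = b * a := by
    intro a ha b hb
    have h1 : X ≤ centralizer ({a} : Set Fi23) := by
      rw [closure_le]
      intro t ht
      exact mem_centralizer_singleton_iff.2 (hXS a ha t ht).symm
    exact (mem_centralizer_singleton_iff.1 (h1 hb)).symm
  have hX2 : ∀ a ∈ X, a ^ 2 = 1 := by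
    intro a ha
    induction ha using closure_induction with
    | mem t ht =>
      obtain ⟨q, hq, rfl⟩ := ht
      rw [pow_two]
      exact T_sq hq.1
    | one => rw [one_pow]
    | mul a b ha hb iha ihb =>
      have : Commute a b := hXX a ha b hb
      rw [this.mul_pow, iha, ihb, one_mul]
    | inv a _ ih => rw [inv_pow, ih, inv_one]
  have hyX : ∀ a ∈ X, y * a * y⁻¹ ∈ X := by
    intro a ha
    have h1 : X ≤ X.comap (MulAut.conj y).toMonoidHom := by
      rw [closure_le]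
      rintro _ ⟨q, hq, rfl⟩
      refine subset_closure ⟨rho y q, hΔy q hq, ?_⟩
      exact T_act y hq.1
    exact h1 ha
  have hTX : ∀ i : ℕ, T (rho (y ^ i) p) ∈ X := fun i => subset_closure ⟨_, hPΔ i, rfl⟩
  obtain ⟨k, hk⟩ := IsPGroup.iff_card.1 (fun a : ↥X => ⟨1, by
    rw [pow_one]
    exact Subtype.ext (hX2 a a.2)⟩ : IsPGroup 2 ↥X)
  have hk0 : 0 < k := by
    rcases Nat.eq_zero_or_pos k with h0 | h0
    · exfalso
      rw [h0, pow_zero] at hk
      have h1 := Subgroup.card_eq_one.1 hk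
      have h2 := hTX 0
      rw [h1, mem_bot] at h2
      have h3 := y_ncomm hy (hPΔ 0).1
      rw [h2, mul_one, one_mul] at h3
      exact h3 rfl
    · exact h0
  have hdvd : 17 ∣ 2 ^ k - 1 := dvd_of_free (p := 17) (by norm_num) (by norm_num) hy
    (fun u hu => y_inv hy hu) hk hX2 hyX
  rcases k_cases hk0 hdvd (hk ▸ card_subgroup_dvd_card X) with rfl | rfl
  · refine no_seventeen hXX hk (fun i => rho (y ^ i) p) (fun i => (hPΔ i).1) hTX ?_
    intro i hi j hj h
    rcases lt_trichotomy i j with h1 | h1 | h1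
    · exact absurd h (hinj' i j h1 hj)
    · exact h1
    · exact absurd h.symm (hinj' j i h1 hi)
  · exact no_sixteen hX2 hk

/-- **`Fi23` has a solvably unique element of order 17** -/
theorem fi23_model : HasSU1 Fi23 := by
  have hf : Fact (Nat.Prime 17) := ⟨by norm_num⟩
  obtain ⟨y, hy⟩ := exists_prime_orderOf_dvd_card' (G := Fi23) 17 (by rw [card_G]; norm_num)
  have h2 : ¬ 17 ^ 2 ∣ Nat.card Fi23 := by rw [card_G]; norm_num
  refine ⟨17, y, hf.out, by norm_num, hy, h2, SUel.of_two hf.out (by norm_num) h2 hy arith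
    (fun u hu => y_inv hy hu) ?_⟩
  intro k E hk hE hd hE2 hyE
  rcases k_cases hk hd (hE ▸ card_subgroup_dvd_card E) with rfl | rfl
  · exact no_eight hy hE2 hyE hE
  · exact no_sixteen hE2 hE

end Fi

theorem HasSU1.congr {G H : Type*} [Group G] [Group H] (e : G ≃* H) (h : HasSU1 G) : HasSU1 H := by
  obtain ⟨p, y, hp, hp5, hy, h2, h⟩ := h
  exact ⟨p, e y, hp, hp5, by rw [MulEquiv.orderOf_eq, hy], by rwa [← Nat.card_congr e.toEquiv], h.congr e⟩

/-- **the row `Fi23`** -/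
theorem fi23 {G : Type*} [Group G] [Finite G] (h : Spor.IsoFi23 G) : HasSU1 G := by
  obtain ⟨e⟩ := h
  exact HasSU1.congr e.symm fi23_model

end Cfsg.Agent.H833.SpFi23
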