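import Cfsg.Agent.KFacts.FiTT.AllPairs
import Cfsg.Agent.ClassificationK.Extraspecial
import Cfsg.Agent.OddHalf.D8.Fi22.KAll

/-!
# Automorphisms of `K ≅ Fi22` acting trivially on `C(d, d') / R` (helper833)

`F : Facts K d d' R`, `α` an automorphism of 2-power order with `α d, α d' ∈ {d, d'}`, acting trivially on
`P / R`, `P = C(d, d')`.

* `mod_z` : `α r r⁻¹ ∈ ⟨d d'⟩` for `r ∈ R`;
* `exists_conj` : if `α d = d`, `α` is conjugation by an element of `R` on `P`;
* `rigid_two` : an automorphism fixing the transpositions which commute with `a` and `b` is conjugation by an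
  element of `⟨a, b⟩`.
-/

set_option autoImplicit false

namespace Cfsg.Agent.H833.TrivAct

open Cfsg Subgroup Cfsg.Agent.KFacts.FiTT
open scoped commutatorElement

/-! ### Duality -/

/-- An endomorphism of `R` with `σ q q⁻¹ ∈ ⟨z⟩`, `σ d = d`, where `Z(R) = {1, d, z, d z}` and `R' = ⟨z⟩`, is inner. -/
theorem exists_inner {R : Type*} [Group R] [Finite R] {d z : R} (hz1 : z ≠ 1) (hzd : z ≠ d)
    (hd : ∀ x, x * d = d * x) (hz : ∀ x, x * z = z * x) (hdd : d * d = 1)
    (hcomm : ∀ x y : R, x * y * x⁻¹ * y⁻¹ = 1 ∨ x * y * x⁻¹ * y⁻¹ = z)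
    (hcen : ∀ x : R, (∀ y, x * y = y * x) → x = 1 ∨ x = d ∨ x = z ∨ x = z * d)
    (hnab : ∃ x y : R, x * y * x⁻¹ * y⁻¹ = z)
    (σ : R →* R) (hσd : σ d = d) (hσ : ∀ q, σ q * q⁻¹ = 1 ∨ σ q * q⁻¹ = z) :
    ∃ x : R, ∀ q : R, σ q = x * q * x⁻¹ := by
  classical
  let D : Subgroup R := zpowers d
  have hD : ∀ x, x ∈ D ↔ x = 1 ∨ x = d := by
    intro x
    constructor
    · intro hx
      obtain ⟨n, rfl⟩ := mem_zpowers_iff.1 hx
      have h2 : d ^ (2 : ℤ) = 1 := by
        have : d ^ (2 : ℤ) = d * d := by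
          rw [show (2 : ℤ) = 1 + 1 from rfl, zpow_add, zpow_one]
        rw [this, hdd]
      rcases Int.even_or_odd' n with ⟨k, rfl | rfl⟩
      · left; rw [zpow_mul, h2, one_zpow]
      · right; rw [zpow_add, zpow_mul, h2, one_zpow, one_mul, zpow_one]
    · rintro (rfl | rfl)
      · exact one_mem _
      · exact mem_zpowers _
  have hn : D.Normal := by
    constructor
    intro x hx g
    rcases (hD x).1 hx with rfl | rfl
    · rw [mul_one, mul_inv_cancel]; exact one_mem _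
    · rw [hd g, mul_inv_cancel_right]; exact (hD _).2 (Or.inr rfl)
  have hzD : z ∉ D := by
    intro h
    rcases (hD z).1 h with h | h
    · exact hz1 h
    · exact hzd h
  have hmk : ∀ x y : R, (x : R ⧸ D) = y ↔ x⁻¹ * y ∈ D := fun x y => QuotientGroup.eq
  have hcenQ : ∀ q : R ⧸ D, q ∈ center (R ⧸ D) ↔ q = 1 ∨ q = (z : R) := by
    intro q
    obtain ⟨x, rfl⟩ := QuotientGroup.mk_surjective q
    constructor
    · intro h
      rw [mem_center_iff] at h
      have h1 : ∀ y, x * y = y * x := by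
        intro y
        have h2 : (((x * y * x⁻¹ * y⁻¹ : R)) : R ⧸ D) = 1 := by
          have h3 := h (y : R ⧸ D)
          rw [QuotientGroup.mk_mul, QuotientGroup.mk_mul, QuotientGroup.mk_mul, QuotientGroup.mk_inv,
            QuotientGroup.mk_inv, ← h3, mul_inv_cancel_right, mul_inv_cancel]
        rw [QuotientGroup.eq_one_iff] at h2
        rcases hcomm x y with h4 | h4
        · have := mul_inv_eq_one.1 h4
          rwa [mul_inv_eq_iff_eq_mul] at this
        · rw [h4] at h2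
          exact absurd h2 hzD
      rcases hcen x h1 with h2 | h2 | h2 | h2
      · left; rw [h2]; rfl
      · left; rw [QuotientGroup.eq_one_iff, hD]; exact Or.inr h2
      · right; rw [h2]
      · right; rw [h2, hmk]
        have : (z * d)⁻¹ * z = d⁻¹ := by group
        rw [this]
        exact inv_mem ((hD _).2 (Or.inr rfl))
    · rintro (h | h)
      · rw [h]; exact one_mem _
      · rw [h, mem_center_iff]
        intro g
        obtain ⟨y, rfl⟩ := QuotientGroup.mk_surjective g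
        rw [← QuotientGroup.mk_mul, ← QuotientGroup.mk_mul, hz]
  have hz1Q : ((z : R) : R ⧸ D) ≠ 1 := fun h => hzD ((QuotientGroup.eq_one_iff z).1 h)
  have hcardQ : Nat.card (center (R ⧸ D)) = 2 := by
    have h1 : ((center (R ⧸ D) : Subgroup (R ⧸ D)) : Set (R ⧸ D)) = {1, ((z : R) : R ⧸ D)} := by
      ext c
      rw [SetLike.mem_coe, hcenQ, Set.mem_insert_iff, Set.mem_singleton_iff]
    have h2 : Nat.card (center (R ⧸ D)) = ((center (R ⧸ D) : Subgroup (R ⧸ D)) : Set (R ⧸ D)).ncard := rfl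
    rw [h2, h1, Set.ncard_pair hz1Q.symm]
  have hcmQ : commutator (R ⧸ D) = center (R ⧸ D) := by
    apply le_antisymm
    · rw [_root_.commutator_def, commutator_le]
      intro a _ b _
      obtain ⟨x, rfl⟩ := QuotientGroup.mk_surjective a
      obtain ⟨y, rfl⟩ := QuotientGroup.mk_surjective b
      rw [hcenQ, commutatorElement_def, ← QuotientGroup.mk_inv, ← QuotientGroup.mk_inv, ← QuotientGroup.mk_mul,
        ← QuotientGroup.mk_mul, ← QuotientGroup.mk_mul]
      rcases hcomm x y with h | h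
      · left; rw [h]; rfl
      · right; rw [h]
    · intro q hq
      rcases (hcenQ q).1 hq with h | h
      · rw [h]; exact one_mem _
      · obtain ⟨x, y, hxy⟩ := hnab
        rw [h, ← hxy, QuotientGroup.mk_mul, QuotientGroup.mk_mul, QuotientGroup.mk_mul, QuotientGroup.mk_inv,
          QuotientGroup.mk_inv, ← commutatorElement_def, _root_.commutator_def]
        exact commutator_mem_commutator (mem_top _) (mem_top _)
  have hle : D ≤ D.comap σ := by
    intro x hx
    rw [mem_comap]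
    rcases (hD x).1 hx with rfl | rfl
    · rw [map_one]; exact one_mem _
    · rw [hσd]; exact hx
  obtain ⟨q, hq⟩ := Cfsg.Agent.ClassificationK.Extraspecial.exists_inner hcmQ Nat.prime_two hcardQ
    (QuotientGroup.map D D σ hle) (by
      intro q
      obtain ⟨x, rfl⟩ := QuotientGroup.mk_surjective q
      rw [QuotientGroup.map_mk, ← QuotientGroup.mk_inv, ← QuotientGroup.mk_mul, hcenQ]
      rcases hσ x with h | h
      · left; rw [h]; rfl
      · right; rw [h])
  obtain ⟨x, rfl⟩ := QuotientGroup.mk_surjective q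
  refine ⟨x, fun y => ?_⟩
  have h1 := hq (y : R ⧸ D)
  rw [QuotientGroup.map_mk, ← QuotientGroup.mk_inv, ← QuotientGroup.mk_mul, ← QuotientGroup.mk_mul, hmk, hD] at h1
  -- `(σ y)⁻¹ (x y x⁻¹)` is a product of two members of `⟨z⟩`
  have hzz : z⁻¹ = z := by
    obtain ⟨a, b, hab⟩ := hnab
    have e : b * a * b⁻¹ * a⁻¹ = z⁻¹ := by rw [← hab]; group
    rcases hcomm b a with h2 | h2
    · exfalso
      rw [h2] at e
      exact hz1 (inv_eq_one.1 e.symm)
    · rw [← e, h2]
  have h2 : σ y = (σ y * y⁻¹) * y := by group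
  have h3 : x * y * x⁻¹ = (x * y * x⁻¹ * y⁻¹) * y := by group
  rcases hσ y with h4 | h4 <;> rcases hcomm x y with h5 | h5
  · rw [h2, h3, h4, h5]
  · exfalso
    rw [h2, h3, h4, h5, one_mul] at h1
    have e : y⁻¹ * (z * y) = z := by rw [← hz, inv_mul_cancel_left]
    rw [e] at h1
    rcases h1 with h1 | h1
    · exact hz1 h1
    · exact hzd h1
  · exfalso
    rw [h2, h3, h4, h5, one_mul] at h1
    have e : (z * y)⁻¹ * y = z⁻¹ := by rw [← hz]; group
    rw [e, hzz] at h1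
    rcases h1 with h1 | h1
    · exact hz1 h1
    · exact hzd h1
  · rw [h2, h3, h4, h5]

universe v

variable {K : Type v} [Group K] {d d' : K} {R : Subgroup K}

/-- the hypotheses on the automorphism -/
structure Triv (d d' : K) (R : Subgroup K) (α : MulAut K) : Prop where
  mapR : ∀ x ∈ R, α x ∈ R
  tri : ∀ x : K, x * d = d * x → x * d' = d' * x → α x * x⁻¹ ∈ R

section

variable (F : Facts K d d' R)
include F

theorem comm_P {g : K} (h1 : g * d = d * g) (h2 : g * d' = d' * g) {c : K}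
    (hc : c = 1 ∨ c = d ∨ c = d' ∨ c = d * d') : g * c = c * g := by
  rcases hc with rfl | rfl | rfl | rfl
  · rw [mul_one, one_mul]
  · exact h1
  · exact h2
  · rw [← mul_assoc, h1, mul_assoc, h2, mul_assoc]

theorem R_P {x : K} (hx : x ∈ R) : x * d = d * x ∧ x * d' = d' * x := mem_pair.1 (F.R_le hx)

theorem mem_R_of {c : K} (hc : c = 1 ∨ c = d ∨ c = d' ∨ c = d * d') : c ∈ R := by
  rcases hc with rfl | rfl | rfl | rfl
  · exact one_mem _
  · exact F.d_mem
  · exact F.d'_mem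
  · exact mul_mem F.d_mem F.d'_mem

/-- the elements with `α r r⁻¹ ∈ Z0` -/
def W (α : MulAut K) (hα : Triv d d' R α) (Z0 : Subgroup K)
    (hZ0 : ∀ c ∈ Z0, c = 1 ∨ c = d ∨ c = d' ∨ c = d * d') : Subgroup K where
  carrier := {r | r ∈ R ∧ α r * r⁻¹ ∈ Z0}
  one_mem' := ⟨one_mem _, by rw [map_one, inv_one, mul_one]; exact one_mem _⟩
  mul_mem' := by
    rintro r s ⟨hr, hr'⟩ ⟨hs, hs'⟩
    refine ⟨mul_mem hr hs, ?_⟩
    have h1 := comm_P F (R_P F (inv_mem hr)).1 (R_P F (inv_mem hr)).2 (hZ0 _ hs')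
    have h2 : α (r * s) * (r * s)⁻¹ = (α r * r⁻¹) * (α s * s⁻¹) := by
      calc α (r * s) * (r * s)⁻¹ = α r * ((α s * s⁻¹) * r⁻¹) := by rw [map_mul]; group
        _ = α r * (r⁻¹ * (α s * s⁻¹)) := by rw [h1]
        _ = _ := by group
    rw [h2]
    exact mul_mem hr' hs'
  inv_mem' := by
    rintro r ⟨hr, hr'⟩
    refine ⟨inv_mem hr, ?_⟩
    have h1 := comm_P F (R_P F hr).1 (R_P F hr).2 (hZ0 _ (inv_mem hr'))
    have h2 : α r⁻¹ * r⁻¹⁻¹ = (α r * r⁻¹)⁻¹ := by
      calc α r⁻¹ * r⁻¹⁻¹ = r⁻¹ * ((α r * r⁻¹)⁻¹ * r) := by rw [map_inv]; group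
        _ = r⁻¹ * (r * (α r * r⁻¹)⁻¹) := by rw [h1]
        _ = _ := by group
    rw [h2]
    exact inv_mem hr'

theorem W_dich {α : MulAut K} (hα : Triv d d' R α) (Z0 : Subgroup K)
    (hZ0 : ∀ c ∈ Z0, c = 1 ∨ c = d ∨ c = d' ∨ c = d * d') (hz : d * d' ∈ Z0) :
    (∀ r ∈ R, α r * r⁻¹ ∈ Z0) ∨
      ∀ r ∈ R, α r * r⁻¹ ∈ Z0 → r = 1 ∨ r = d ∨ r = d' ∨ r = d * d' := by
  have hle : W F α hα Z0 hZ0 ≤ R := fun r hr => hr.1
  rcases F.dich (W F α hα Z0 hZ0) hle (by
    rintro g hg1 hg2 r ⟨hr, hr'⟩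
    have hgz : g * (d * d') = d * d' * g := comm_P F hg1 hg2 (Or.inr (Or.inr (Or.inr rfl)))
    have hgr : g * r * g⁻¹ ∈ R := F.R_normal g hgz r hr
    refine ⟨hgr, ?_⟩
    -- `α g = s g`, `α r = c r`
    obtain ⟨s, hs⟩ : ∃ s, s = α g * g⁻¹ := ⟨_, rfl⟩
    obtain ⟨c, hc⟩ : ∃ c, c = α r * r⁻¹ := ⟨_, rfl⟩
    have hsR : s ∈ R := by rw [hs]; exact hα.tri g hg1 hg2
    rw [← hc] at hr'
    have e1 : α g = s * g := by rw [hs]; group
    have e2 : α r = c * r := by rw [hc]; group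
    have c1 := comm_P F hg1 hg2 (hZ0 c hr')
    have c2 := comm_P F (R_P F hsR).1 (R_P F hsR).2 (hZ0 c hr')
    have h3 : α (g * r * g⁻¹) * (g * r * g⁻¹)⁻¹ = c * (s * (g * r * g⁻¹) * s⁻¹ * (g * r * g⁻¹)⁻¹) := by
      rw [map_mul, map_mul, map_inv, e1, e2]
      calc s * g * (c * r) * (s * g)⁻¹ * (g * r * g⁻¹)⁻¹
          = s * (g * c) * r * g⁻¹ * s⁻¹ * (g * r * g⁻¹)⁻¹ := by group
        _ = (s * c) * g * r * g⁻¹ * s⁻¹ * (g * r * g⁻¹)⁻¹ := by rw [c1]; group
        _ = _ := by rw [c2]; group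
    rw [h3]
    apply mul_mem hr'
    rcases F.R_comm s hsR _ hgr with h4 | h4
    · rw [h4]; exact one_mem _
    · rw [h4]; exact hz) with h | h
  · left
    intro r hr
    rw [← h] at hr
    exact hr.2
  · right
    intro r hr hr'
    exact h r ⟨hr, hr'⟩

/-- `Z(R)` -/
def ZR (R : Subgroup K) : Subgroup K := R ⊓ centralizer (R : Set K)

theorem mem_ZR {c : K} : c ∈ ZR R ↔ c = 1 ∨ c = d ∨ c = d' ∨ c = d * d' := by
  rw [ZR, mem_inf, mem_centralizer_iff]
  constructor
  · rintro ⟨_, h⟩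
    exact F.R_center c (fun y hy => (h y hy).symm)
  · intro hc
    exact ⟨mem_R_of F hc, fun y hy => comm_P F (R_P F hy).1 (R_P F hy).2 hc⟩

/-- **`α r r⁻¹ ∈ Z(R)`.** -/
theorem mod_Z {α : MulAut K} (hα : Triv d d' R α) {n : ℕ} (hn : α ^ 2 ^ n = 1) :
    ∀ r ∈ R, α r * r⁻¹ = 1 ∨ α r * r⁻¹ = d ∨ α r * r⁻¹ = d' ∨ α r * r⁻¹ = d * d' := by
  rcases W_dich F hα (ZR R) (fun c hc => (mem_ZR F).1 hc) ((mem_ZR F).2 (Or.inr (Or.inr (Or.inr rfl)))) with h | h
  · intro r hr
    exact (mem_ZR F).1 (h r hr)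
  · exfalso
    -- the powers of `α` have the same property
    have key : ∀ m : ℕ, (∀ x ∈ R, (α ^ 2 ^ m) x ∈ R) ∧
        ∀ r ∈ R, (α ^ 2 ^ m) r * r⁻¹ ∈ ZR R → r ∈ ZR R := by
      intro m
      induction m with
      | zero =>
        rw [pow_zero, pow_one]
        exact ⟨hα.mapR, fun r hr hr' => (mem_ZR F).2 (h r hr hr')⟩
      | succ m ih =>
        obtain ⟨ih1, ih2⟩ := ih
        set β := α ^ 2 ^ m with hβ
        have hβ2 : α ^ 2 ^ (m + 1) = β * β := by rw [hβ, ← pow_add, pow_succ, mul_two]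
        rw [hβ2]
        refine ⟨fun x hx => ih1 _ (ih1 x hx), fun r hr hr' => ?_⟩
        apply ih2 r hr
        obtain ⟨δ, hδ⟩ : ∃ δ, δ = β r * r⁻¹ := ⟨_, rfl⟩
        have hδR : δ ∈ R := by rw [hδ]; exact mul_mem (ih1 r hr) (inv_mem hr)
        rw [← hδ]
        apply ih2 δ hδR
        have e1 : β r = δ * r := by rw [hδ]; group
        have e2 : (β * β) r * r⁻¹ = (β δ * δ⁻¹) * (δ * δ) := by
          show β (β r) * r⁻¹ = _
          rw [e1, map_mul, e1]
          group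
        rw [e2] at hr'
        have h3 : δ * δ ∈ ZR R := by
          rw [mem_ZR F]
          rcases F.R_sq δ hδR with h4 | h4
          · exact Or.inl h4
          · exact Or.inr (Or.inr (Or.inr h4))
        have h4 := mul_mem hr' (inv_mem h3)
        rwa [mul_inv_cancel_right] at h4
    obtain ⟨x, hx, y, hy, hxy⟩ := F.R_nonab
    have h1 := (key n).2 x hx
    rw [hn] at h1
    have h2 : x ∈ ZR R := h1 (by rw [MulAut.one_apply, mul_inv_cancel]; exact one_mem _)
    have h3 := (mem_centralizer_iff.1 (mem_inf.1 h2).2) y hy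
    apply F.ne
    have h4 : x * y * x⁻¹ * y⁻¹ = 1 := by rw [← h3]; group
    rw [h4] at hxy
    have h5 := eq_inv_of_mul_eq_one_left hxy.symm
    rw [h5]
    exact inv_eq_of_mul_eq_one_left F.dd'

/-- **`α r r⁻¹ ∈ ⟨d d'⟩`.** -/
theorem mod_z {α : MulAut K} (hα : Triv d d' R α) {n : ℕ} (hn : α ^ 2 ^ n = 1) :
    ∀ r ∈ R, α r * r⁻¹ = 1 ∨ α r * r⁻¹ = d * d' := by
  have hZ := mod_Z F hα hn
  have hzz : d * d' * (d * d') = 1 := by
    calc d * d' * (d * d') = d * (d' * d) * d' := by group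
      _ = (d * d) * (d' * d') := by rw [← F.comm]; group
      _ = 1 := by rw [F.dd, F.dd', one_mul]
  let Z0 : Subgroup K :=
    { carrier := {x | x = 1 ∨ x = d * d'}
      one_mem' := Or.inl rfl
      mul_mem' := by
        rintro a b (rfl | rfl) (rfl | rfl)
        · exact Or.inl (one_mul _)
        · exact Or.inr (one_mul _)
        · exact Or.inr (mul_one _)
        · exact Or.inl hzz
      inv_mem' := by
        rintro a (rfl | rfl)
        · exact Or.inl inv_one
        · exact Or.inr (inv_eq_of_mul_eq_one_left hzz) }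
  have hZ0 : ∀ c ∈ Z0, c = 1 ∨ c = d ∨ c = d' ∨ c = d * d' := by
    rintro c (hc | hc)
    · exact Or.inl hc
    · exact Or.inr (Or.inr (Or.inr hc))
  rcases W_dich F hα Z0 hZ0 (Or.inr rfl) with h | h
  · exact h
  · exfalso
    obtain ⟨x, hx, y, hy, hxy⟩ := F.R_nonab
    have hne : x * y ≠ y * x := by
      intro e
      apply F.ne
      have h4 : x * y * x⁻¹ * y⁻¹ = 1 := by rw [e]; group
      rw [h4] at hxy
      have h5 := eq_inv_of_mul_eq_one_left hxy.symm
      rw [h5]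
      exact inv_eq_of_mul_eq_one_left F.dd'
    have hout : ∀ r ∈ R, (r = 1 ∨ r = d ∨ r = d' ∨ r = d * d' → False) →
        α r * r⁻¹ = d ∨ α r * r⁻¹ = d' := by
      intro r hr hr'
      rcases hZ r hr with h1 | h1 | h1 | h1
      · exact absurd (h r hr (Or.inl h1)) hr'
      · exact Or.inl h1
      · exact Or.inr h1
      · exact absurd (h r hr (Or.inr h1)) hr'
    have hxn : x = 1 ∨ x = d ∨ x = d' ∨ x = d * d' → False := fun e =>
      hne (comm_P F (R_P F hy).1 (R_P F hy).2 e).symm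
    have hyn : y = 1 ∨ y = d ∨ y = d' ∨ y = d * d' → False := fun e =>
      hne (comm_P F (R_P F hx).1 (R_P F hx).2 e)
    have h1 := hout x hx hxn
    have h2 := hout y hy hyn
    have h3 : α (x * y) * (x * y)⁻¹ = (α x * x⁻¹) * (α y * y⁻¹) := by
      have h4 := comm_P F (R_P F (inv_mem hx)).1 (R_P F (inv_mem hx)).2 (hZ y hy)
      calc α (x * y) * (x * y)⁻¹ = α x * ((α y * y⁻¹) * x⁻¹) := by rw [map_mul]; group
        _ = α x * (x⁻¹ * (α y * y⁻¹)) := by rw [h4]
        _ = _ := by group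
    have h4 := h (x * y) (mul_mem hx hy) (by
      rw [h3]
      rcases h1 with h1 | h1 <;> rcases h2 with h2 | h2 <;> rw [h1, h2]
      · exact Or.inl F.dd
      · exact Or.inr rfl
      · exact Or.inr F.comm.symm
      · exact Or.inl F.dd')
    apply hne
    have h5 := comm_P F (R_P F hy).1 (R_P F hy).2 h4
    -- `y (x y) = (x y) y`
    have h6 : y * x * y = x * y * y := by rw [mul_assoc, h5]
    exact (mul_right_cancel h6).symm

/-- **`α` is conjugation by an element of `R` on `P = C(d, d')`.** -/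
theorem exists_conj [Finite K] {α : MulAut K} (hα : Triv d d' R α) {n : ℕ} (hn : α ^ 2 ^ n = 1) (hd : α d = d)
    (hd' : α d' = d') : ∃ s ∈ R, ∀ x : K, x * d = d * x → x * d' = d' * x → α x = s * x * s⁻¹ := by
  have hz := mod_z F hα hn
  let σ : R →* R :=
    { toFun := fun x => ⟨α (x : K), hα.mapR x x.2⟩
      map_one' := Subtype.ext (map_one α)
      map_mul' := fun x y => Subtype.ext (map_mul α (x : K) (y : K)) }
  have hz1 : d * d' ≠ 1 := by
    intro h
    apply F.ne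
    have h5 := eq_inv_of_mul_eq_one_left h
    rw [h5]
    exact inv_eq_of_mul_eq_one_left F.dd'
  obtain ⟨s, hs⟩ := exists_inner (R := R) (d := ⟨d, F.d_mem⟩) (z := ⟨d * d', mul_mem F.d_mem F.d'_mem⟩)
    (fun h => hz1 (congrArg Subtype.val h))
    (fun h => F.d'_ne (mul_eq_left.1 (congrArg Subtype.val h)))
    (fun x => Subtype.ext (R_P F x.2).1)
    (fun x => Subtype.ext (comm_P F (R_P F x.2).1 (R_P F x.2).2 (Or.inr (Or.inr (Or.inr rfl)))))
    (Subtype.ext F.dd)
    (fun x y => by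
      rcases F.R_comm x x.2 y y.2 with h | h
      · exact Or.inl (Subtype.ext h)
      · exact Or.inr (Subtype.ext h))
    (fun x hx => by
      rcases F.R_center x (fun y hy => congrArg Subtype.val (hx ⟨y, hy⟩)) with h | h | h | h
      · exact Or.inl (Subtype.ext h)
      · exact Or.inr (Or.inl (Subtype.ext h))
      · right; right; right
        apply Subtype.ext
        show (x : K) = d * d' * d
        rw [h, F.comm, mul_assoc, F.dd, mul_one]
      · exact Or.inr (Or.inr (Or.inl (Subtype.ext h))))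
    (by
      obtain ⟨x, hx, y, hy, hxy⟩ := F.R_nonab
      exact ⟨⟨x, hx⟩, ⟨y, hy⟩, Subtype.ext hxy⟩)
    σ (Subtype.ext hd) (fun q => by
      rcases hz q q.2 with h | h
      · exact Or.inl (Subtype.ext h)
      · exact Or.inr (Subtype.ext h))
  refine ⟨s, s.2, ?_⟩
  have hsR : ∀ r ∈ R, α r = s * r * (s : K)⁻¹ := fun r hr => congrArg Subtype.val (hs ⟨r, hr⟩)
  have hsP := R_P F s.2
  -- `β = s⁻¹ α(·) s` centralizes `R`
  have hβ : ∀ x : K, x * d = d * x → x * d' = d' * x →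
      ((s : K)⁻¹ * α x * s) * x⁻¹ = 1 ∨ ((s : K)⁻¹ * α x * s) * x⁻¹ = d ∨ ((s : K)⁻¹ * α x * s) * x⁻¹ = d' ∨
        ((s : K)⁻¹ * α x * s) * x⁻¹ = d * d' := by
    intro x hx1 hx2
    set b := (s : K)⁻¹ * α x * s with hb
    have hxz : x * (d * d') = d * d' * x := comm_P F hx1 hx2 (Or.inr (Or.inr (Or.inr rfl)))
    have hxz' : x⁻¹ * (d * d') = d * d' * x⁻¹ := by
      rw [inv_mul_eq_iff_eq_mul, ← mul_assoc, hxz, mul_inv_cancel_right]
    apply F.R_center
    intro r hr
    -- `r = x r' x⁻¹`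
    obtain ⟨r', hr'⟩ : ∃ r', r' = x⁻¹ * r * x := ⟨_, rfl⟩
    have hr'R : r' ∈ R := by
      have := F.R_normal x⁻¹ hxz' r hr
      rw [inv_inv] at this
      rw [hr']
      exact this
    have hrr : r = x * r' * x⁻¹ := by rw [hr']; group
    have e1 : (s : K)⁻¹ * α r * s = r := by rw [hsR r hr]; group
    have e2 : (s : K)⁻¹ * α r' * s = r' := by rw [hsR r' hr'R]; group
    have e3 : b * r' * b⁻¹ = r := by
      have : (s : K)⁻¹ * α r * s = b * ((s : K)⁻¹ * α r' * s) * b⁻¹ := by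
        rw [hb]
        conv_lhs => rw [hrr, map_mul, map_mul, map_inv]
        group
      rw [e1, e2] at this
      exact this.symm
    calc b * x⁻¹ * r = b * (x⁻¹ * r * x) * x⁻¹ := by group
      _ = (b * r' * b⁻¹) * (b * x⁻¹) := by rw [← hr']; group
      _ = r * (b * x⁻¹) := by rw [e3]
  have hdP : ∀ x : K, x * d = d * x → x * d' = d' * x →
      ((s : K)⁻¹ * α x * s) ∈ centralizer ({d, d'} : Set K) := by
    intro x hx1 hx2
    have h1 : ((s : K)⁻¹ * α x * s) = (((s : K)⁻¹ * α x * s) * x⁻¹) * x := by group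
    rw [h1]
    exact mul_mem (F.R_le (mem_R_of F (hβ x hx1 hx2))) (mem_pair.2 ⟨hx1, hx2⟩)
  let f : centralizer ({d, d'} : Set K) →* centralizer ({d, d'} : Set K) :=
    { toFun := fun x => ⟨(s : K)⁻¹ * α x * s, hdP x (mem_pair.1 x.2).1 (mem_pair.1 x.2).2⟩
      map_one' := Subtype.ext (by
        show (s : K)⁻¹ * α (1 : K) * s = 1
        rw [map_one]; group)
      map_mul' := fun x y => Subtype.ext (by
        show (s : K)⁻¹ * α ((x : K) * y) * s = (s : K)⁻¹ * α x * s * ((s : K)⁻¹ * α y * s)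
        rw [map_mul]; group) }
  have hf := Cfsg.Agent.OddHalf.D8.Fi22.Rig.eq_of_central (D := centralizer ({d, d'} : Set K)) F.perfect (f := f)
    (g := MonoidHom.id _) (by
      intro x
      rw [mem_center_iff]
      intro y
      apply Subtype.ext
      exact comm_P F (mem_pair.1 y.2).1 (mem_pair.1 y.2).2 (hβ x (mem_pair.1 x.2).1 (mem_pair.1 x.2).2))
  intro x hx1 hx2
  have h1 := congrArg Subtype.val (hf ⟨x, mem_pair.2 ⟨hx1, hx2⟩⟩)
  have h2 : (s : K)⁻¹ * α x * s = x := h1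
  calc α x = s * ((s : K)⁻¹ * α x * s) * (s : K)⁻¹ := by group
    _ = s * x * (s : K)⁻¹ := by rw [h2]

end

end Cfsg.Agent.H833.TrivAct
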